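import Cfsg.Agent.S3742
import Cfsg.Agent.Quat.SL23

set_option autoImplicit false
open Cfsg

namespace Cfsg.Agent.H94.BinOct

open S3742 (F Q)

abbrev GL23 := GL (Fin 2) (ZMod 3)

def w0 : Equiv.Perm (Fin 4) := c[1, 2, 3]
def t0 : Equiv.Perm (Fin 4) := c[2, 3]

/-- the words in `w0`, `t0` -/
def wt (a : ZMod 3) (b : ZMod 2) : Equiv.Perm (Fin 4) := w0 ^ a.val * t0 ^ b.val

/-- carrier of the universal group -/
structure U where
  q : Q
  a : ZMod 3
  b : ZMod 2

def act3 (b : ZMod 2) (a : ZMod 3) : ZMod 3 := if b = 0 then a else -a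

instance : Mul U := ⟨fun x y => ⟨x.q * F (wt x.a x.b) y.q, x.a + act3 x.b y.a, x.b + y.b⟩⟩

theorem U_mul (x y : U) : x * y = ⟨x.q * F (wt x.a x.b) y.q, x.a + act3 x.b y.a, x.b + y.b⟩ := rfl

def U.equiv : U ≃ Q × ZMod 3 × ZMod 2 where
  toFun x := (x.q, x.a, x.b)
  invFun x := ⟨x.1, x.2.1, x.2.2⟩
  left_inv _ := rfl
  right_inv _ := rfl

theorem card_U : Nat.card U = 48 := by
  rw [Nat.card_congr U.equiv, Nat.card_eq_fintype_card]
  decide

theorem sep : ∀ (q q' : Q) (a a' : ZMod 3) (b b' : ZMod 2),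
    (∀ x : Q, q * F (wt a b) x * q⁻¹ = q' * F (wt a' b') x * q'⁻¹) → a = a' ∧ b = b' := by
  decide +kernel

set_option synthInstance.maxHeartbeats 400000 in
set_option synthInstance.maxSize 1000 in
theorem conj_std : ∀ w : Equiv.Perm (Fin 4), w ≠ 1 → w ^ 3 = 1 → ∀ t : Equiv.Perm (Fin 4), t ^ 2 = 1 →
    t * w * t⁻¹ = w⁻¹ → ∃ s : Equiv.Perm (Fin 4), s * w * s⁻¹ = w0 ∧ s * t * s⁻¹ = t0 := by
  decide +kernel

theorem invol : ∀ t : Equiv.Perm (Fin 4), t ^ 2 = 1 → (∃ x : Q, ∀ y : Q, F t y = x * y * x⁻¹) ∨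
    ∃ w : Equiv.Perm (Fin 4), w ≠ 1 ∧ w ^ 3 = 1 ∧ t * w * t⁻¹ = w⁻¹ := by
  decide +kernel

section
variable {X : Type*} [Group X]

/-- relations inside `X` -/
structure Data (e : Q →* X) (w t : X) : Prop where
  inj : Function.Injective e
  hw : w ^ 3 = 1
  ht : t ^ 2 = 1
  hwt : t * w * t⁻¹ = w⁻¹
  hwe : ∀ q, w * e q * w⁻¹ = e (F w0 q)
  hte : ∀ q, t * e q * t⁻¹ = e (F t0 q)

variable {e : Q →* X} {w t : X}

theorem Data.wt_conj (h : Data e w t) (a : ZMod 3) (b : ZMod 2) (q : Q) :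
    (w ^ a.val * t ^ b.val) * e q = e (F (wt a b) q) * (w ^ a.val * t ^ b.val) := by
  have h1 : ∀ (n : ℕ) (q : Q), w ^ n * e q = e (F (w0 ^ n) q) * w ^ n := by
    intro n
    induction n with
    | zero => intro q; simp [S3742.F_one]
    | succ n ih =>
      intro q
      have h2 : w * e q = e (F w0 q) * w := by rw [← h.hwe q]; group
      rw [pow_succ, mul_assoc, h2, ← mul_assoc, ih, pow_succ, S3742.F_comp, mul_assoc]
  have h2 : ∀ (n : ℕ) (q : Q), t ^ n * e q = e (F (t0 ^ n) q) * t ^ n := by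
    intro n
    induction n with
    | zero => intro q; simp [S3742.F_one]
    | succ n ih =>
      intro q
      have h2 : t * e q = e (F t0 q) * t := by rw [← h.hte q]; group
      rw [pow_succ, mul_assoc, h2, ← mul_assoc, ih, pow_succ, S3742.F_comp, mul_assoc]
  rw [mul_assoc, h2, ← mul_assoc, h1, wt, S3742.F_comp, mul_assoc]

def toX (e : Q →* X) (w t : X) (u : U) : X := e u.q * (w ^ u.a.val * t ^ u.b.val)

theorem Data.toX_mul (h : Data e w t) (x y : U) : toX e w t (x * y) = toX e w t x * toX e w t y := by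
  obtain ⟨q, a, b⟩ := x
  obtain ⟨q', a', b'⟩ := y
  rw [U_mul]
  simp only [toX]
  have h1 : e q * (w ^ a.val * t ^ b.val) * (e q' * (w ^ a'.val * t ^ b'.val)) =
      e (q * F (wt a b) q') * (w ^ a.val * (t ^ b.val * w ^ a'.val) * t ^ b'.val) := by
    rw [← mul_assoc, mul_assoc (e q), h.wt_conj, map_mul]
    simp only [mul_assoc]
  rw [h1]
  congr 1
  have hwadd : ∀ x y : ZMod 3, w ^ (x + y).val = w ^ x.val * w ^ y.val := by
    intro x y
    rw [ZMod.val_add, ← pow_eq_pow_mod _ h.hw, pow_add]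
  have htadd : ∀ x y : ZMod 2, t ^ (x + y).val = t ^ x.val * t ^ y.val := by
    intro x y
    rw [ZMod.val_add, ← pow_eq_pow_mod _ h.ht, pow_add]
  have hwneg : ∀ x : ZMod 3, w ^ (-x).val = (w ^ x.val)⁻¹ := by
    intro x
    rw [eq_inv_iff_mul_eq_one, ← hwadd, neg_add_cancel]
    simp
  have hact : t ^ b.val * w ^ a'.val = w ^ (act3 b a').val * t ^ b.val := by
    have hb01 : ∀ b : ZMod 2, b = 0 ∨ b = 1 := by decide
    rcases hb01 b with rfl | rfl
    · simp [act3]
    · have h3 : t * w ^ a'.val * t⁻¹ = (w ^ a'.val)⁻¹ := by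
        rw [← conj_pow, h.hwt, inv_pow]
      have h4 : act3 1 a' = -a' := by
        rw [act3, if_neg (by decide)]
      rw [h4, hwneg, ← h3]
      have h5 : (1 : ZMod 2).val = 1 := rfl
      rw [h5]
      group
  rw [hwadd, htadd, hact]
  simp only [mul_assoc]

theorem Data.toX_injective (h : Data e w t) : Function.Injective (toX e w t) := by
  rintro ⟨q, a, b⟩ ⟨q', a', b'⟩ heq
  simp only [toX] at heq
  have h1 : ∀ x : Q, q * F (wt a b) x * q⁻¹ = q' * F (wt a' b') x * q'⁻¹ := by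
    intro x
    apply h.inj
    have h2 : ∀ (q : Q) (a : ZMod 3) (b : ZMod 2), e (q * F (wt a b) x * q⁻¹) =
        (e q * (w ^ a.val * t ^ b.val)) * e x * (e q * (w ^ a.val * t ^ b.val))⁻¹ := by
      intro q a b
      rw [mul_assoc (e q), h.wt_conj, map_mul, map_mul, map_inv]
      group
    rw [h2, h2, heq]
  obtain ⟨ha, hb⟩ := sep q q' a a' b b' h1
  subst ha hb
  have h3 := h.inj (mul_right_cancel heq)
  rw [h3]

theorem Data.equiv [Finite X] (h : Data e w t) (hc : Nat.card X = 48) : Nonempty (U ≃* X) := by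
  have hfin : Finite U := Nat.finite_of_card_ne_zero (by rw [card_U]; norm_num)
  have hb : Function.Bijective (toX e w t) :=
    (Nat.bijective_iff_injective_and_card _).2 ⟨h.toX_injective, by rw [card_U, hc]⟩
  exact ⟨{ Equiv.ofBijective _ hb with map_mul' := h.toX_mul }⟩

end

def gI : GL23 := ⟨!![0, 2; 1, 0], !![0, 1; 2, 0], by decide, by decide⟩
def gJ : GL23 := ⟨!![1, 1; 1, 2], !![2, 2; 2, 1], by decide, by decide⟩
def gX : GL23 := ⟨!![1, 1; 0, 1], !![1, 2; 0, 1], by decide, by decide⟩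
def gT : GL23 := ⟨!![1, 0; 0, 2], !![1, 0; 0, 2], by decide, by decide⟩

def e0 : Q →* GL23 := Quat.lift 2 gI gJ (by decide) (by decide) (by decide)

theorem card_GL23 : Nat.card GL23 = 48 := by
  rw [Matrix.card_GL_field]
  simp [Fin.prod_univ_two, ZMod.card]

theorem e0_data : Data e0 gX gT where
  inj := by
    rw [injective_iff_map_eq_one]
    decide +kernel
  hw := by decide
  ht := by decide
  hwt := by decide
  hwe := by decide +kernel
  hte := by decide +kernel

theorem gl_equiv : Nonempty (U ≃* GL23) := e0_data.equiv card_GL23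

end Cfsg.Agent.H94.BinOct
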