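import Mathlib

/-!
# Elementary abelian 2-groups of linear maps, odd characteristic
-/
set_option autoImplicit false

namespace Cfsg.Agent.H94.ElAb2

variable {F V A : Type*} [Field F] [AddCommGroup V] [Module F V] [Group A]

/-- common eigenvector -/
def EV (ρ : A →* Module.End F V) (v : V) : Prop := ∀ a, ρ a v = v ∨ ρ a v = -v

theorem exists_ev [Finite A] (ρ : A →* Module.End F V) (h2 : (2 : F) ≠ 0) (hsq : ∀ a : A, a * a = 1)
    (W : Submodule F V) (hW : ∀ a, ∀ w ∈ W, ρ a w ∈ W) (φ : V →ₗ[F] F) (v : V) (hv : v ∈ W) (hφ : φ v ≠ 0) :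
    ∃ w ∈ W, φ w ≠ 0 ∧ EV ρ w := by
  classical
  have := Fintype.ofFinite A
  have hcomm : ∀ a b : A, a * b = b * a := by
    intro a b
    have h1 := hsq (a * b)
    have h2 : a * b = (a * b)⁻¹ := eq_inv_of_mul_eq_one_left h1
    rw [mul_inv_rev] at h2
    have h3 : a⁻¹ = a := inv_eq_of_mul_eq_one_left (hsq a)
    have h4 : b⁻¹ = b := inv_eq_of_mul_eq_one_left (hsq b)
    rw [h3, h4] at h2
    exact h2
  have key : ∀ t : Finset A, ∃ w ∈ W, φ w ≠ 0 ∧ ∀ a ∈ t, ρ a w = w ∨ ρ a w = -w := by
    intro t
    induction t using Finset.induction_on with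
    | empty => exact ⟨v, hv, hφ, by simp⟩
    | insert c s hc ih =>
      obtain ⟨w, hw, hq, hs⟩ := ih
      have hcc : ρ c (ρ c w) = w := by
        rw [← Module.End.mul_apply, ← map_mul, hsq, map_one, Module.End.one_apply]
      have hac : ∀ a, ρ a (ρ c w) = ρ c (ρ a w) := by
        intro a
        rw [← Module.End.mul_apply, ← Module.End.mul_apply, ← map_mul, ← map_mul, hcomm]
      by_cases hp : φ (w + ρ c w) ≠ 0
      · refine ⟨w + ρ c w, W.add_mem hw (hW c w hw), hp, fun a ha => ?_⟩
        rcases Finset.mem_insert.mp ha with rfl | ha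
        · left; rw [map_add, hcc, add_comm]
        · rcases hs a ha with h | h
          · left; rw [map_add, hac a, h]
          · right; rw [map_add, hac a, h, map_neg, neg_add]
      · have hm : φ (w - ρ c w) ≠ 0 := by
          intro hm
          rw [not_not] at hp
          have h1 : φ (w + ρ c w) + φ (w - ρ c w) = 2 * φ w := by
            rw [map_add, map_sub]; ring
          rw [hp, hm, add_zero] at h1
          exact (mul_ne_zero h2 hq) h1.symm
        refine ⟨w - ρ c w, W.sub_mem hw (hW c w hw), hm, fun a ha => ?_⟩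
        rcases Finset.mem_insert.mp ha with rfl | ha
        · right; rw [map_sub, hcc, neg_sub]
        · rcases hs a ha with h | h
          · left; rw [map_sub, hac a, h]
          · right; rw [map_sub, hac a, h, map_neg, neg_sub, sub_neg_eq_add, neg_add_eq_sub]
  obtain ⟨w, hw, hq, hs⟩ := key Finset.univ
  exact ⟨w, hw, hq, fun a => hs a (Finset.mem_univ _)⟩

theorem span_ev [Finite A] (ρ : A →* Module.End F V) (h2 : (2 : F) ≠ 0) (hsq : ∀ a : A, a * a = 1) :
    Submodule.span F {v | EV ρ v} = ⊤ := by
  by_contra hne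
  obtain ⟨v, hv⟩ : ∃ v, v ∉ Submodule.span F {v | EV ρ v} := by
    by_contra hcon
    push Not at hcon
    exact hne (eq_top_iff.mpr fun v _ => hcon v)
  obtain ⟨φ, h1, h3⟩ := Submodule.exists_le_ker_of_notMem hv
  obtain ⟨w, -, hw, hw'⟩ := exists_ev ρ h2 hsq ⊤ (fun _ _ _ => trivial) φ v trivial h1
  exact hw (h3 (Submodule.subset_span hw'))

/-- the bound for linear groups -/
theorem card_le [Finite A] [FiniteDimensional F V] (ρ : A →* Module.End F V) (h2 : (2 : F) ≠ 0) (hsq : ∀ a : A, a * a = 1)
    (hinj : Function.Injective ρ) : Nat.card A ≤ 2 ^ Module.finrank F V := by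
  classical
  obtain ⟨ι, b, hbE⟩ : ∃ (ι : Type _) (b : Module.Basis ι F V), ∀ i, EV ρ (b i) :=
    ⟨_, Module.Basis.ofSpan (span_ev ρ h2 hsq).ge, fun i => Module.Basis.ofSpan_subset (span_ev ρ h2 hsq).ge ⟨i, rfl⟩⟩
  have hfin : Finite ι := Module.Finite.finite_basis b
  have := Fintype.ofFinite ι
  let f : A → (ι → Bool) := fun a i => decide (ρ a (b i) = b i)
  have hf : Function.Injective f := by
    intro a c h
    apply hinj
    apply b.ext
    intro i
    have h1 : decide (ρ a (b i) = b i) = decide (ρ c (b i) = b i) := congrFun h i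
    rw [decide_eq_decide] at h1
    by_cases h3 : ρ a (b i) = b i
    · rw [h3, h1.mp h3]
    · rw [(hbE i a).resolve_left h3, (hbE i c).resolve_left (fun h4 => h3 (h1.mpr h4))]
  have h1 := Nat.card_le_card_of_injective f hf
  rw [Nat.card_eq_fintype_card (α := _ → Bool), Fintype.card_fun, Fintype.card_bool, ← Module.finrank_eq_card_basis b] at h1
  exact h1

/-- the bound for symplectic groups -/
theorem card_le_symp [Finite A] [FiniteDimensional F V] (ρ : A →* Module.End F V) (h2 : (2 : F) ≠ 0) (hsq : ∀ a : A, a * a = 1)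
    (hinj : Function.Injective ρ) (B : LinearMap.BilinForm F V) (hB : B.Nondegenerate) (hal : ∀ v, B v v = 0)
    (hinv : ∀ a v w, B (ρ a v) (ρ a w) = B v w) {n : ℕ} (hn : Module.finrank F V = 2 * n) : Nat.card A ≤ 2 ^ n := by
  classical
  -- weights
  let X := {χ : A → Bool // ∃ v ≠ 0, ∀ a, ρ a v = if χ a then v else -v}
  have hfX : Finite X := inferInstance
  have := Fintype.ofFinite X
  have hweight : ∀ v, v ≠ 0 → EV ρ v → ∃ χ : X, ∀ a, ρ a v = if χ.1 a then v else -v := by
    intro v hv hE
    have h : ∀ a, ρ a v = if decide (ρ a v = v) then v else -v := by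
      intro a
      by_cases h : ρ a v = v
      · rw [if_pos (by simpa using h)]; exact h
      · rw [if_neg (by simpa using h)]; exact (hE a).resolve_left h
    exact ⟨⟨fun a => decide (ρ a v = v), v, hv, h⟩, h⟩
  have hEV : ∀ (χ : A → Bool) (v : V), (∀ a, ρ a v = if χ a then v else -v) → EV ρ v := by
    intro χ v h a
    rw [h a]
    by_cases hχ : χ a = true
    · left; rw [if_pos hχ]
    · right; rw [if_neg hχ]
  -- orthogonality
  have horth : ∀ (χ ψ : A → Bool) (v w : V), (∀ a, ρ a v = if χ a then v else -v) → (∀ a, ρ a w = if ψ a then w else -w) →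
      χ ≠ ψ → B v w = 0 := by
    intro χ ψ v w hv hw hne
    obtain ⟨a, ha⟩ := Function.ne_iff.mp hne
    have h1 := hinv a v w
    rw [hv a, hw a] at h1
    have h3 : B v w = - B v w := by
      cases hχ : χ a <;> cases hψ : ψ a
      · rw [hχ, hψ] at ha; exact absurd rfl ha
      · rw [hχ, hψ] at h1
        simp only [Bool.false_eq_true, if_false, if_true, map_neg, LinearMap.neg_apply] at h1
        exact h1.symm
      · rw [hχ, hψ] at h1
        simp only [Bool.false_eq_true, if_false, if_true, map_neg] at h1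
        exact h1.symm
      · rw [hχ, hψ] at ha; exact absurd rfl ha
    have h4 : 2 * B v w = 0 := by linear_combination h3
    exact (mul_eq_zero.mp h4).resolve_left h2
  -- hyperbolic pairs
  have hpair : ∀ χ : X, ∃ v w : V, (∀ a, ρ a v = if χ.1 a then v else -v) ∧ (∀ a, ρ a w = if χ.1 a then w else -w) ∧ B v w ≠ 0 := by
    intro χ
    obtain ⟨v, hv0, hv⟩ := χ.2
    obtain ⟨w, hw⟩ : ∃ w, B v w ≠ 0 := by
      by_contra hcon
      push Not at hcon
      exact hv0 (hB.1 v hcon)
    obtain ⟨w', -, hw', hE⟩ := exists_ev ρ h2 hsq ⊤ (fun _ _ _ => trivial) (B v) w trivial hw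
    have hw0 : w' ≠ 0 := by rintro rfl; exact hw' (map_zero _)
    obtain ⟨ψ, hψ⟩ := hweight w' hw0 hE
    refine ⟨v, w', hv, ?_, hw'⟩
    by_cases h : χ.1 = ψ.1
    · rw [h]; exact hψ
    · exact absurd (horth _ _ v w' hv hψ h) hw'
  choose u w hu hw huw using hpair
  have hli : LinearIndependent F (fun x : X ⊕ X => Sum.elim u w x) := by
    rw [Fintype.linearIndependent_iff]
    intro g hg
    rw [Fintype.sum_sum_type] at hg
    simp only [Sum.elim_inl, Sum.elim_inr] at hg
    have hBsk : ∀ x y, B x y = - B y x := by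
      intro x y
      have h := hal (x + y)
      simp only [map_add, LinearMap.add_apply, hal, zero_add, add_zero] at h
      linear_combination h
    have hl : ∀ χ : X, g (Sum.inl χ) = 0 := by
      intro χ
      have h1 := congrArg (fun z => B z (w χ)) hg
      simp only [map_add, map_sum, LinearMap.add_apply, LinearMap.sum_apply, map_smul, LinearMap.smul_apply, smul_eq_mul, map_zero, LinearMap.zero_apply] at h1
      rw [Finset.sum_eq_single χ, Finset.sum_eq_zero, add_zero] at h1
      · exact (mul_eq_zero.mp h1).resolve_right (huw χ)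
      · intro ψ _
        by_cases h : ψ = χ
        · rw [h, hal, mul_zero]
        · rw [horth _ _ _ _ (hw ψ) (hw χ) (fun h' => h (Subtype.ext h')), mul_zero]
      · intro ψ _ h
        rw [horth _ _ _ _ (hu ψ) (hw χ) (fun h' => h (Subtype.ext h')), mul_zero]
      · intro h; exact absurd (Finset.mem_univ _) h
    have hr : ∀ χ : X, g (Sum.inr χ) = 0 := by
      intro χ
      have h1 := congrArg (fun z => B (u χ) z) hg
      simp only [map_add, map_sum, map_smul, smul_eq_mul, map_zero] at h1
      rw [Finset.sum_eq_zero, Finset.sum_eq_single χ, zero_add] at h1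
      · exact (mul_eq_zero.mp h1).resolve_right (huw χ)
      · intro ψ _ h
        rw [horth _ _ _ _ (hu χ) (hw ψ) (fun h' => h (Subtype.ext h').symm), mul_zero]
      · intro h; exact absurd (Finset.mem_univ _) h
      · intro ψ _
        by_cases h : ψ = χ
        · rw [h, hal, mul_zero]
        · rw [horth _ _ _ _ (hu χ) (hu ψ) (fun h' => h (Subtype.ext h').symm), mul_zero]
    rintro (χ | χ)
    · exact hl χ
    · exact hr χ
  have hXn : Fintype.card X ≤ n := by
    have h1 := hli.fintype_card_le_finrank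
    rw [Fintype.card_sum, hn] at h1
    omega
  let f : A → (X → Bool) := fun a χ => χ.1 a
  have hf : Function.Injective f := by
    intro a c h
    apply hinj
    have hker : Submodule.span F {v | EV ρ v} ≤ LinearMap.ker (ρ a - ρ c) := by
      rw [Submodule.span_le]
      intro v hv
      rw [SetLike.mem_coe, LinearMap.mem_ker, LinearMap.sub_apply, sub_eq_zero]
      by_cases hv0 : v = 0
      · rw [hv0, map_zero, map_zero]
      · obtain ⟨χ, hχ⟩ := hweight v hv0 hv
        rw [hχ a, hχ c]
        have : χ.1 a = χ.1 c := congrFun h χ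
        rw [this]
    rw [span_ev ρ h2 hsq, top_le_iff, LinearMap.ker_eq_top, sub_eq_zero] at hker
    exact hker
  have h1 := Nat.card_le_card_of_injective f hf
  rw [Nat.card_eq_fintype_card (α := X → Bool), Fintype.card_fun, Fintype.card_bool] at h1
  exact h1.trans (Nat.pow_le_pow_right (by norm_num) hXn)

end Cfsg.Agent.H94.ElAb2
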