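import Mathlib
import Cfsg.Agent.H71.MtRel

set_option autoImplicit false
set_option linter.unusedSectionVars false
set_option linter.unusedVariables false

/-!
Piece P2 of S4351: quadratic action of the centre of a Sylow 2-subgroup of a Suzuki group.
-/

namespace Cfsg.Agent.H94.MtP2

open Cfsg.Agent.H71.Mt

universe v

variable {X : Type*} [Group X] [Finite X] {F : Type} [Field F] [Fintype F] {θ : F ≃+* F} {S E K : Subgroup X}
  {w s0 : X} {a b κ : X → F}

theorem mul_apply' {V : Type*} [AddCommGroup V] [Module F V] (ρ : Representation F X V) (g h : X) (v : V) :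
    ρ (g * h) v = ρ g (ρ h v) := by rw [map_mul]; rfl

theorem one_apply' {V : Type*} [AddCommGroup V] [Module F V] (ρ : Representation F X V) (v : V) :
    ρ 1 v = v := by rw [map_one]; rfl

theorem inv_apply' {V : Type*} [AddCommGroup V] [Module F V] (ρ : Representation F X V) (g : X) (v : V) :
    ρ g⁻¹ (ρ g v) = v := by rw [← mul_apply', inv_mul_cancel, one_apply']

theorem apply_inv' {V : Type*} [AddCommGroup V] [Module F V] (ρ : Representation F X V) (g : X) (v : V) :
    ρ g (ρ g⁻¹ v) = v := by rw [← mul_apply', mul_inv_cancel, one_apply']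

/-- A nonzero `S`-invariant subspace contains a nonzero `S`-fixed vector. -/
theorem fix_sub (D : SzD θ S E K w s0 a b κ) {V : Type v} [AddCommGroup V] [Module F V] [Finite V]
    (ρ : Representation F X V) (W : Submodule F V) (hW : ∀ s ∈ S, ∀ v ∈ W, ρ s v ∈ W) {x : V} (hx : x ∈ W)
    (hx0 : x ≠ 0) : ∃ v ∈ W, v ≠ 0 ∧ ∀ s ∈ S, ρ s v = v := by
  have := D.char
  have hS : IsPGroup 2 S := by
    intro s
    refine ⟨2, ?_⟩
    apply Subtype.ext
    have h1 := D.Esq _ (D.Ssq s s.2)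
    show (s : X) ^ (2 ^ 2) = 1
    rw [show (2 ^ 2 : ℕ) = 4 from rfl, ← h1, pow_succ, pow_succ, pow_succ, pow_one, mul_assoc (s * s : X)]
  letI : MulAction S W :=
    { smul := fun s v => ⟨ρ s v, hW s s.2 v v.2⟩
      one_smul := fun v => Subtype.ext (by show ρ ((1 : S) : X) v = v; rw [Subgroup.coe_one, one_apply'])
      mul_smul := fun s r v => Subtype.ext (by
        show ρ ((s * r : S) : X) v = ρ s (ρ r v)
        rw [Subgroup.coe_mul, mul_apply']) }
  have hdvd : 2 ∣ Nat.card W := by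
    have h1 : addOrderOf (⟨x, hx⟩ : W) = 2 := by
      apply addOrderOf_eq_prime
      · apply Subtype.ext
        show (2 : ℕ) • x = 0
        rw [two_nsmul]
        exact two_zero (F := F) x
      · intro h
        exact hx0 (congrArg Subtype.val h)
    rw [← h1]
    exact addOrderOf_dvd_natCard _
  obtain ⟨y, hy, hne⟩ := hS.exists_fixed_point_of_prime_dvd_card_of_fixed_point W hdvd (a := (0 : W)) (by
    intro s
    apply Subtype.ext
    show ρ s 0 = 0
    exact map_zero _)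
  exact ⟨y, y.2, fun h => hne (Subtype.ext h.symm), fun s hs => congrArg Subtype.val (hy ⟨s, hs⟩)⟩

/-- (1) -/
theorem quad1 (D : SzD θ S E K w s0 a b κ) {V : Type v} [AddCommGroup V] [Module F V] [Finite V]
    (ρ : Representation F X V) (hf : FpfF ρ) :
    ∀ t ∈ E, t ≠ 1 → ∀ v : V, ρ t v = v → ∃ v' : V, v = ρ t v' + v' := by
  have := D.char
  have hfin : FiniteDimensional F V := Module.Finite.of_finite
  have two : ∀ v : V, v + v = 0 := fun v => two_zero (F := F) v
  have hsw : ∀ {x y : V}, x + y = 0 → x = y := fun {x y} h => by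
    have : x + y + y = y := by rw [h, zero_add]
    rwa [add_assoc, two, add_zero] at this
  obtain ⟨t0, ht0⟩ : ∃ t0, t0 = s0 * s0 := ⟨_, rfl⟩
  have ht0E : t0 ∈ E := by rw [ht0]; exact D.Ssq s0 D.s0S
  have ht02 : t0 * t0 = 1 := D.Esq t0 ht0E
  have h5 : (t0 * w) ^ 5 = 1 := by rw [ht0]; exact D.x0five
  have hne : t0 * w ≠ 1 := by rw [ht0]; exact D.x0ne
  have hodd : Odd (orderOf (t0 * w)) := by rw [ht0]; exact D.odd_x0
  let N0 : V →ₗ[F] V := ρ t0 + LinearMap.id
  let Nw : V →ₗ[F] V := ρ w + LinearMap.id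
  have hN0 : ∀ v, N0 v = ρ t0 v + v := fun v => rfl
  have hNw : ∀ v, Nw v = ρ w v + v := fun v => rfl
  have hle : LinearMap.range N0 ≤ LinearMap.ker N0 := by
    rintro _ ⟨v, rfl⟩
    rw [LinearMap.mem_ker, hN0, hN0, map_add, ← mul_apply', ht02, one_apply', add_comm v, two]
  have hinf : LinearMap.ker N0 ⊓ LinearMap.ker Nw = ⊥ := by
    rw [eq_bot_iff]
    rintro v ⟨h1, h2⟩
    rw [Submodule.mem_bot]
    have h1' : ρ t0 v = v := hsw (LinearMap.mem_ker.1 h1)
    have h2' : ρ w v = v := hsw (LinearMap.mem_ker.1 h2)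
    exact hf _ hodd hne v (by rw [mul_apply', h2', h1'])
  -- conjugation
  have hconj : t0 * (t0 * w) ^ 3 = (t0 * w) ^ 3 * w := by
    have hw2 := D.ww
    have e1 : (t0 * w) ^ 5 = t0 * w * (t0 * w) * (t0 * w) * (t0 * w) * (t0 * w) := by
      rw [pow_succ, pow_succ, pow_succ, pow_succ, pow_one]
    have hti : t0⁻¹ = t0 := inv_eq_of_mul_eq_one_left ht02
    have hwi : w⁻¹ = w := inv_eq_of_mul_eq_one_left D.ww
    have e2 : (t0 * w)⁻¹ = w * t0 := by rw [mul_inv_rev, hti, hwi]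
    have e3 : (t0 * w) ^ 2 = (w * t0) ^ 3 := by
      have h6 : (t0 * w) ^ 2 * (t0 * w) ^ 3 = 1 := by rw [← pow_add]; exact h5
      rw [← e2, inv_pow]
      exact eq_inv_of_mul_eq_one_left h6
    have e4 : t0 * (t0 * w) ^ 3 = w * ((t0 * w) ^ 2) := by
      rw [pow_succ' _ 2, ← mul_assoc, ← mul_assoc, ht02, one_mul]
    have e5 : (t0 * w) ^ 3 * w = t0 * w * t0 * w * t0 := by
      rw [pow_succ, pow_succ, pow_one]
      simp only [mul_assoc]
      rw [D.ww, mul_one]
    have e6 : w * (t0 * w) ^ 2 = (w * t0) ^ 2 * w := by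
      rw [pow_succ, pow_one, pow_succ, pow_one]; simp only [mul_assoc]
    rw [e4, e3, e5, pow_succ, pow_succ, pow_one]
    rw [← mul_assoc, ← mul_assoc, ← mul_assoc w, ← mul_assoc, ← mul_assoc, D.ww, one_mul]
  have hdim : Module.finrank F (LinearMap.ker N0) ≤ Module.finrank F (LinearMap.ker Nw) := by
    obtain ⟨g, hg⟩ : ∃ g, g = (t0 * w) ^ 3 := ⟨_, rfl⟩
    rw [← hg] at hconj
    have hconj' : w * g⁻¹ = g⁻¹ * t0 := by
      rw [eq_inv_mul_iff_mul_eq, ← mul_assoc, mul_inv_eq_iff_eq_mul]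
      exact hconj.symm
    have h1 : ∀ v ∈ LinearMap.ker N0, ρ g⁻¹ v ∈ LinearMap.ker Nw := by
      intro v hv
      have hv' : ρ t0 v = v := hsw (LinearMap.mem_ker.1 hv)
      rw [LinearMap.mem_ker, hNw, ← mul_apply', hconj', mul_apply', hv', two]
    apply LinearMap.finrank_le_finrank_of_injective (f := (ρ g⁻¹).restrict h1)
    intro x y h
    apply Subtype.ext
    have h2 : ρ g⁻¹ (x : V) = ρ g⁻¹ (y : V) := congrArg Subtype.val h
    have h3 := congrArg (ρ g) h2
    rwa [apply_inv', apply_inv'] at h3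
  have hsum : Module.finrank F (LinearMap.ker N0) + Module.finrank F (LinearMap.ker Nw) ≤ Module.finrank F V := by
    have h1 := Submodule.finrank_sup_add_finrank_inf_eq (LinearMap.ker N0) (LinearMap.ker Nw)
    rw [hinf, finrank_bot, add_zero] at h1
    rw [← h1]
    exact Submodule.finrank_le _
  have hrn := LinearMap.finrank_range_add_finrank_ker N0
  have heq : LinearMap.range N0 = LinearMap.ker N0 := by
    apply Submodule.eq_of_le_of_finrank_le hle
    omega
  have h0 : ∀ v : V, ρ t0 v = v → ∃ v' : V, v = ρ t0 v' + v' := by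
    intro v hv
    have h1 : v ∈ LinearMap.ker N0 := by rw [LinearMap.mem_ker, hN0, hv, two]
    rw [← heq] at h1
    obtain ⟨v', hv'⟩ := h1
    exact ⟨v', hv'.symm⟩
  intro t ht ht1 v hv
  obtain ⟨k, hk, hke⟩ := D.exists_conj_t0 ht ht1
  rw [← ht0] at hke
  have h1 : ρ t0 (ρ k⁻¹ v) = ρ k⁻¹ v := by
    rw [← mul_apply']
    have : t0 * k⁻¹ = k⁻¹ * t := by rw [hke]; group
    rw [this, mul_apply', hv]
  obtain ⟨v', hv'⟩ := h0 _ h1
  refine ⟨ρ k v', ?_⟩
  have h2 := congrArg (ρ k) hv'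
  rw [apply_inv', map_add, ← mul_apply'] at h2
  rw [h2, ← mul_apply']
  congr 3
  rw [hke]; group

/-- `J Z`: the span of all `e z + z`. -/
def J (E : Subgroup X) {V : Type v} [AddCommGroup V] [Module F V] (ρ : Representation F X V) (Z : Submodule F V) :
    Submodule F V := Submodule.span F {x | ∃ e ∈ E, ∃ z ∈ Z, x = ρ e z + z}

theorem J_map (E : Subgroup X) {V : Type v} [AddCommGroup V] [Module F V] (ρ : Representation F X V)
    {Z Z' : Submodule F V} (φ : V →ₗ[F] V) (hφ : ∀ e ∈ E, ∀ v, φ (ρ e v) = ρ e (φ v)) (h : ∀ z ∈ Z, φ z ∈ Z') :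
    ∀ x ∈ J E ρ Z, φ x ∈ J E ρ Z' := by
  intro x hx
  have : J E ρ Z ≤ (J E ρ Z').comap φ := by
    apply Submodule.span_le.2
    rintro _ ⟨e, he, z, hz, rfl⟩
    apply Submodule.subset_span
    exact ⟨e, he, φ z, h z hz, by rw [map_add, hφ e he]⟩
  exact this hx

theorem J_mem {E : Subgroup X} {V : Type v} [AddCommGroup V] [Module F V] {ρ : Representation F X V}
    {Z : Submodule F V} {e : X} (he : e ∈ E) {z : V} (hz : z ∈ Z) : ρ e z + z ∈ J E ρ Z :=
  Submodule.subset_span ⟨e, he, z, hz, rfl⟩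

/-- nilpotency -/
theorem J_nil (D : SzD θ S E K w s0 a b κ) {V : Type v} [AddCommGroup V] [Module F V]
    (ρ : Representation F X V) (Z : Submodule F V) (hZ : ∀ z ∈ Z, z ∈ J E ρ Z) : Z = ⊥ := by
  classical
  have := D.char
  have two : ∀ v : V, v + v = 0 := fun v => two_zero (F := F) v
  by_contra hne
  have key : ∀ T : Finset X, (∀ e ∈ T, e ∈ E) → ∃ Z' : Submodule F V, Z' ≠ ⊥ ∧ (∀ z ∈ Z', z ∈ J E ρ Z') ∧
      ∀ e ∈ T, ∀ z ∈ Z', ρ e z = z := by
    intro T
    induction T using Finset.induction_on with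
    | empty => intro _; exact ⟨Z, hne, hZ, fun e he => absurd he (Finset.notMem_empty e)⟩
    | insert e T heT ih =>
      intro hT
      obtain ⟨Z', h1, h2, h3⟩ := ih (fun e he => hT e (Finset.mem_insert_of_mem he))
      have heE : e ∈ E := hT e (Finset.mem_insert_self e T)
      by_cases hall : ∀ z ∈ Z', ρ e z = z
      · refine ⟨Z', h1, h2, ?_⟩
        intro f hf
        rcases Finset.mem_insert.1 hf with rfl | hf
        · exact hall
        · exact h3 f hf
      · push Not at hall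
        obtain ⟨z0, hz0, hz0'⟩ := hall
        let φ : V →ₗ[F] V := ρ e + LinearMap.id
        have hφ : ∀ v, φ v = ρ e v + v := fun v => rfl
        have hcomm : ∀ f ∈ E, ∀ v, φ (ρ f v) = ρ f (φ v) := by
          intro f hf v
          rw [hφ, hφ, map_add, ← mul_apply', ← mul_apply', D.Ecen e heE f (D.ES hf)]
        refine ⟨Z'.map φ, ?_, ?_, ?_⟩
        · intro hb
          have h4 : φ z0 ∈ Z'.map φ := ⟨z0, hz0, rfl⟩
          rw [hb, Submodule.mem_bot, hφ] at h4
          apply hz0'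
          have : ρ e z0 + z0 + z0 = z0 := by rw [h4, zero_add]
          rwa [add_assoc, two, add_zero] at this
        · rintro _ ⟨z, hz, rfl⟩
          exact J_map E ρ φ hcomm (fun z hz => Submodule.mem_map_of_mem hz) z (h2 z hz)
        · rintro f hf _ ⟨z, hz, rfl⟩
          rcases Finset.mem_insert.1 hf with rfl | hf
          · rw [hφ, map_add, ← mul_apply', D.Esq _ heE, one_apply', add_comm]
          · have hfE : f ∈ E := hT f (Finset.mem_insert_of_mem hf)
            rw [← hcomm f hfE, h3 f hf z hz]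
  obtain ⟨Z', h1, h2, h3⟩ := key (Set.toFinite (E : Set X)).toFinset (fun e he => by simpa using he)
  apply h1
  rw [eq_bot_iff]
  intro z hz
  have h4 := h2 z hz
  have h5 : J E ρ Z' ≤ ⊥ := by
    apply Submodule.span_le.2
    rintro _ ⟨e, he, z', hz', rfl⟩
    have := h3 e (by simpa using he) z' hz'
    rw [this, two]
    exact Submodule.zero_mem _
  exact h5 h4

/-- [P2] -/
theorem quad (D : SzD θ S E K w s0 a b κ) {V : Type v} [AddCommGroup V] [Module F V] [Finite V]
    (ρ : Representation F X V) (hf : FpfF ρ) (hi : IrrF ρ) {u : V} (hu : u ≠ 0) (hus : ∀ s ∈ S, ρ s u = u)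
    (hu1 : ∀ v : V, (∀ s ∈ S, ρ s v = v) → ∃ c : F, v = c • u) :
    (∀ t ∈ E, t ≠ 1 → ∀ v : V, ρ t v = v → ∃ v' : V, v = ρ t v' + v') ∧
    (∀ t ∈ E, ∀ e ∈ E, ∀ v : V, ρ e (ρ t v + v) = ρ t v + v) := by
  classical
  have := D.char
  have hq := quad1 D ρ hf
  refine ⟨hq, ?_⟩
  have two : ∀ v : V, v + v = 0 := fun v => two_zero (F := F) v
  have hsw : ∀ {x y : V}, x + y = 0 → x = y := fun {x y} h => by
    have : x + y + y = y := by rw [h, zero_add]
    rwa [add_assoc, two, add_zero] at this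
  by_contra hcon
  push Not at hcon
  obtain ⟨t₁, ht₁, e₁, he₁, v₁, hne₁⟩ := hcon
  have ht₁1 : t₁ ≠ 1 := by
    rintro rfl
    apply hne₁
    rw [one_apply', two, map_zero]
  -- conjugation
  have hpos : ∀ t ∈ E, t ≠ 1 → ∃ e ∈ E, ∃ v, ρ e (ρ t v + v) ≠ ρ t v + v := by
    intro t ht ht1
    obtain ⟨k1, hk1, hk1e⟩ := D.exists_conj_t0 ht₁ ht₁1
    obtain ⟨k, hk, hke⟩ := D.exists_conj_t0 ht ht1
    obtain ⟨l, hl⟩ : ∃ l, l = k * k1⁻¹ := ⟨_, rfl⟩
    have hlK : l ∈ K := by rw [hl]; exact K.mul_mem hk (K.inv_mem hk1)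
    have htl : t * l = l * t₁ := by rw [hke, hk1e, hl]; group
    refine ⟨l * e₁ * l⁻¹, D.KE l hlK e₁ he₁, ρ l v₁, fun h => hne₁ ?_⟩
    have h1 : ρ t (ρ l v₁) + ρ l v₁ = ρ l (ρ t₁ v₁ + v₁) := by rw [← mul_apply', htl, mul_apply', map_add]
    rw [h1, ← mul_apply', show l * e₁ * l⁻¹ * l = l * e₁ by group, mul_apply'] at h
    have h2 := congrArg (ρ l⁻¹) h
    rwa [inv_apply', inv_apply'] at h2
  -- the subspaces `Y t`
  let n : X → (V →ₗ[F] V) := fun g => ρ g + LinearMap.id
  have hn : ∀ g v, n g v = ρ g v + v := fun g v => rfl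
  have hnE : ∀ s ∈ S, ∀ e ∈ E, ∀ v, ρ s (ρ e v) = ρ e (ρ s v) := by
    intro s hs e he v
    rw [← mul_apply', ← mul_apply', D.Ecen e he s hs]
  have hnc : ∀ s ∈ S, ∀ e ∈ E, ∀ v, ρ s (n e v) = n e (ρ s v) := by
    intro s hs e he v
    rw [hn, hn, map_add, hnE s hs e he]
  have hYS : ∀ t ∈ E, ∀ s ∈ S, ∀ z ∈ LinearMap.range (n t), ρ s z ∈ LinearMap.range (n t) := by
    rintro t ht s hs _ ⟨v, rfl⟩
    exact ⟨ρ s v, (hnc s hs t ht v).symm⟩
  have hJYS : ∀ t ∈ E, ∀ s ∈ S, ∀ z ∈ J E ρ (LinearMap.range (n t)), ρ s z ∈ J E ρ (LinearMap.range (n t)) := by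
    intro t ht s hs z hz
    exact J_map E ρ (ρ s) (fun e he v => hnE s hs e he v) (hYS t ht s hs) z hz
  have huJ : ∀ t ∈ E, t ≠ 1 → u ∈ J E ρ (LinearMap.range (n t)) := by
    intro t ht ht1
    obtain ⟨e, he, v, hv⟩ := hpos t ht ht1
    have h1 : ρ e (n t v) + n t v ∈ J E ρ (LinearMap.range (n t)) := J_mem he ⟨v, rfl⟩
    have h2 : ρ e (n t v) + n t v ≠ 0 := fun h => hv (hsw h)
    obtain ⟨z, hz, hz0, hzS⟩ := fix_sub D ρ _ (hJYS t ht) h1 h2
    obtain ⟨c, rfl⟩ := hu1 z hzS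
    have hc : c ≠ 0 := by rintro rfl; exact hz0 (zero_smul F u)
    have h3 := Submodule.smul_mem _ c⁻¹ hz
    rwa [smul_smul, inv_mul_cancel₀ hc, one_smul] at h3
  -- `K` on `u`
  have hKu : ∀ k ∈ K, ∃ c : F, ρ k u = c • u := by
    intro k hk
    apply hu1
    intro s hs
    have h1 : k⁻¹ * s * k ∈ S := by
      have := D.KS k⁻¹ (K.inv_mem hk) s hs
      rwa [inv_inv] at this
    rw [← mul_apply']
    have h3 : s * k = k * (k⁻¹ * s * k) := by group
    rw [h3, mul_apply', hus _ h1]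
  -- spanning
  have hspan : ∀ U : Submodule F V, u ∈ U → (∀ s ∈ S, ρ s (ρ w u) ∈ U) → ∀ v, v ∈ U := by
    intro U hu0 hU v
    let W : Submodule F V := Submodule.span F (Set.range fun g : X => ρ g u)
    have hWinv : ∀ g : X, ∀ v ∈ W, ρ g v ∈ W := by
      intro g v hv
      have : W ≤ W.comap (ρ g) := by
        apply Submodule.span_le.2
        rintro _ ⟨h, rfl⟩
        show ρ g (ρ h u) ∈ W
        rw [← mul_apply']
        exact Submodule.subset_span ⟨g * h, rfl⟩
      exact this hv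
    have huW : u ∈ W := Submodule.subset_span ⟨1, one_apply' ρ u⟩
    have hWtop : W = ⊤ := by
      rcases hi.2 W hWinv with h | h
      · exfalso
        rw [h, Submodule.mem_bot] at huW
        exact hu huW
      · exact h
    have hWU : W ≤ U := by
      apply Submodule.span_le.2
      rintro _ ⟨g, rfl⟩
      show ρ g u ∈ U
      rcases D.bruhat g with ⟨s, hs, k, hk, rfl⟩ | ⟨s, hs, k, hk, r, hr, rfl⟩
      · obtain ⟨c, hc⟩ := hKu k hk
        rw [mul_apply', hc, map_smul, hus s hs]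
        exact U.smul_mem c hu0
      · obtain ⟨c, hc⟩ := hKu k⁻¹ (K.inv_mem hk)
        have hkw : k * w = w * k⁻¹ := by
          calc k * w = (w * w) * k * w := by rw [D.ww, one_mul]
            _ = w * (w * k * w) := by group
            _ = w * k⁻¹ := by rw [D.wK k hk]
        rw [mul_apply', hus r hr, mul_assoc, mul_apply', hkw, mul_apply', hc, map_smul, map_smul]
        exact U.smul_mem c (hU s hs)
    exact hWU (by rw [hWtop]; trivial)
  -- (b)
  have hb : ∀ k ∈ K, ∀ s, s = k * s0 * k⁻¹ → ∀ v, ρ s (n (s * s) v) + n (s * s) v ∈ J E ρ (LinearMap.range (n (s * s))) := by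
    intro k hk s hs v
    have hsS : s ∈ S := by rw [hs]; exact D.KS k hk s0 D.s0S
    have htE : s * s ∈ E := D.Ssq s hsS
    have ht1 : s * s ≠ 1 := by
      intro h
      have h1 := D.b_sq s hsS
      have h2 := D.Ka k hk s0 D.s0S
      rw [← hs] at h2
      rw [(D.b_zero _ htE).2 h] at h1
      rcases mul_eq_zero.1 h1.symm with h3 | h3
      · rw [h3] at h2
        rcases mul_eq_zero.1 h2.symm with h4 | h4
        · exact D.κ_ne k hk h4
        · exact D.s0a h4
      · rw [map_eq_zero] at h3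
        rw [h3] at h2
        rcases mul_eq_zero.1 h2.symm with h4 | h4
        · exact D.κ_ne k hk h4
        · exact D.s0a h4
    have huJt := huJ _ htE ht1
    let U : Submodule F V := (J E ρ (LinearMap.range (n (s * s)))).comap ((ρ s + LinearMap.id) ∘ₗ n (s * s))
    have hU : ∀ v, v ∈ U ↔ ρ s (n (s * s) v) + n (s * s) v ∈ J E ρ (LinearMap.range (n (s * s))) := fun v => Iff.rfl
    refine (hU v).1 (hspan U ?_ ?_ v)
    · rw [hU, hn, hus _ (D.ES htE), two, map_zero, zero_add]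
      exact Submodule.zero_mem _
    · intro r hr
      rw [hU]
      obtain ⟨z, hz⟩ : ∃ z, z = n (s * s) (ρ w u) := ⟨_, rfl⟩
      have hzr : n (s * s) (ρ r (ρ w u)) = ρ r z := by rw [hz, hnc r hr _ htE]
      rw [hzr]
      -- the commutator
      obtain ⟨e, he⟩ : ∃ e, e = s⁻¹ * r⁻¹ * s * r := ⟨_, rfl⟩
      have heS : e ∈ S := by
        rw [he]
        exact S.mul_mem (S.mul_mem (S.mul_mem (S.inv_mem hsS) (S.inv_mem hr)) hsS) hr
      have heE : e ∈ E := by
        apply (D.a_zero e heS).1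
        have a1 : a 1 = 0 := (D.a_zero 1 S.one_mem).2 E.one_mem
        have ai : ∀ x ∈ S, a x⁻¹ + a x = 0 := by
          intro x hx
          rw [← D.a_mul _ (S.inv_mem hx) _ hx, inv_mul_cancel, a1]
        rw [he, D.a_mul _ (S.mul_mem (S.mul_mem (S.inv_mem hsS) (S.inv_mem hr)) hsS) _ hr,
          D.a_mul _ (S.mul_mem (S.inv_mem hsS) (S.inv_mem hr)) _ hsS, D.a_mul _ (S.inv_mem hsS) _ (S.inv_mem hr)]
        have h1 := ai s hsS
        have h2 := ai r hr
        linear_combination h1 + h2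
      have hsr : s * r = r * (s * e) := by rw [he]; group
      have h1 : ρ s (ρ r z) + ρ r z = ρ r ((ρ s z + z) + ρ s (ρ e z + z)) := by
        rw [← mul_apply', hsr, mul_apply', mul_apply', map_add (ρ s), ← map_add]
        congr 1
        have : ρ s z + z + (ρ s (ρ e z) + ρ s z) = (ρ s z + ρ s z) + (ρ s (ρ e z) + z) := by abel
        rw [this, two, zero_add]
      rw [h1]
      apply hJYS _ htE r hr
      apply Submodule.add_mem
      · have h2 := D.relF_conj ρ hf u hus hk hs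
        obtain ⟨c, hc⟩ := hKu (k * k) (K.mul_mem hk hk)
        have h3 : ρ s z + z = ρ w u + ρ s (ρ w u) + ρ (s * s) (ρ w u) + ρ (s * s * s) (ρ w u) := by
          have e3 : ρ (s * s * s) (ρ w u) = ρ s (ρ (s * s) (ρ w u)) := by
            rw [show s * s * s = s * (s * s) by group, mul_apply' ρ s (s * s)]
          rw [hz, hn, map_add, e3]; abel
        rw [h3, h2, hc]
        exact Submodule.smul_mem _ c huJt
      · apply hJYS _ htE s hsS
        exact J_mem heE (by rw [hz]; exact ⟨_, rfl⟩)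
  -- (c)
  have hJ1 : ∀ t ∈ E, ∀ x ∈ J E ρ (LinearMap.range (n t)), ∃ z ∈ J E ρ ⊤, n t z = x := by
    intro t ht x hx
    have h1 : J E ρ (LinearMap.range (n t)) ≤ (J E ρ ⊤).map (n t) := by
      apply Submodule.span_le.2
      rintro _ ⟨e, he, _, ⟨v, rfl⟩, rfl⟩
      refine ⟨ρ e v + v, J_mem he trivial, ?_⟩
      rw [map_add, ← hnc e (D.ES he) t ht]
    exact h1 hx
  have hc0 : ∀ k ∈ K, ∀ s, s = k * s0 * k⁻¹ → ∀ v, ρ s v + v ∈ J E ρ ⊤ := by
    intro k hk s hs v
    have hsS : s ∈ S := by rw [hs]; exact D.KS k hk s0 D.s0S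
    have htE : s * s ∈ E := D.Ssq s hsS
    have ht1 : s * s ≠ 1 := by
      intro h
      have h1 := D.b_sq s hsS
      have h2 := D.Ka k hk s0 D.s0S
      rw [← hs] at h2
      rw [(D.b_zero _ htE).2 h] at h1
      rcases mul_eq_zero.1 h1.symm with h3 | h3
      · rw [h3] at h2
        rcases mul_eq_zero.1 h2.symm with h4 | h4
        · exact D.κ_ne k hk h4
        · exact D.s0a h4
      · rw [map_eq_zero] at h3
        rw [h3] at h2
        rcases mul_eq_zero.1 h2.symm with h4 | h4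
        · exact D.κ_ne k hk h4
        · exact D.s0a h4
    obtain ⟨z, hz, hze⟩ := hJ1 _ htE _ (hb k hk s hs v)
    have h1 : ρ (s * s) (ρ s v + v + z) = ρ s v + v + z := by
      apply hsw
      have h2 : n (s * s) (ρ s v + v + z) = 0 := by
        rw [map_add, map_add, hze, hnc s hsS _ htE, two]
      exact h2
    obtain ⟨v', hv'⟩ := hq _ htE ht1 _ h1
    have h2 : ρ s v + v = (ρ (s * s) v' + v') + z := by
      rw [← hv', add_assoc, two, add_zero]
    rw [h2]
    exact Submodule.add_mem _ (J_mem htE trivial) hz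
  have hc : ∀ x ∈ S, ∀ v, ρ x v + v ∈ J E ρ ⊤ := by
    intro x hx v
    by_cases hxE : x ∈ E
    · exact J_mem hxE trivial
    · obtain ⟨k, hk, e, he, rfl⟩ := D.exists_conj_s0 hx hxE
      have h1 := hc0 k hk _ rfl (ρ e v)
      have h2 : ρ (k * s0 * k⁻¹ * e) v + v = (ρ (k * s0 * k⁻¹) (ρ e v) + ρ e v) + (ρ e v + v) := by
        have : (ρ (k * s0 * k⁻¹) (ρ e v) + ρ e v) + (ρ e v + v) =
            ρ (k * s0 * k⁻¹) (ρ e v) + (ρ e v + ρ e v) + v := by abel
        rw [this, two, add_zero, mul_apply']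
      rw [h2]
      exact Submodule.add_mem _ h1 (J_mem he trivial)
  -- (d)
  have hd0 : ∀ x ∈ S, ∀ m ∈ J E ρ ⊤, ρ x m + m ∈ J E ρ (J E ρ ⊤) := by
    intro x hx m hm
    refine J_map E ρ (n x) (fun e he v => ?_) (fun z _ => hc x hx z) m hm
    rw [hn, hn, map_add, hnE x hx e he]
  let G0 : Subgroup X :=
    { carrier := {g | ∀ v, ρ g v + v ∈ J E ρ (J E ρ ⊤)}
      mul_mem' := by
        intro g h hg hh v
        have h1 : ρ (g * h) v + v = (ρ g (ρ h v) + ρ h v) + (ρ h v + v) := by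
          have : (ρ g (ρ h v) + ρ h v) + (ρ h v + v) = ρ g (ρ h v) + (ρ h v + ρ h v) + v := by abel
          rw [this, two, add_zero, mul_apply']
        rw [h1]
        exact Submodule.add_mem _ (hg _) (hh _)
      one_mem' := by
        intro v
        rw [one_apply', two]
        exact Submodule.zero_mem _
      inv_mem' := by
        intro g hg v
        have h1 := hg (ρ g⁻¹ v)
        rw [apply_inv', add_comm] at h1
        exact h1 }
  have hG0 : ∀ g, g ∈ G0 ↔ ∀ v, ρ g v + v ∈ J E ρ (J E ρ ⊤) := fun g => Iff.rfl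
  have hSS : ⁅S, S⁆ ≤ G0 := by
    rw [Subgroup.commutator_le]
    intro x hx y hy
    rw [commutatorElement_def, hG0]
    intro v
    obtain ⟨v', hv'⟩ : ∃ v', v' = ρ (y * x)⁻¹ v := ⟨_, rfl⟩
    have hv : v = ρ (y * x) v' := by rw [hv', apply_inv']
    have h1 : ρ (x * y * x⁻¹ * y⁻¹) v = ρ x (ρ y v') := by
      rw [hv, ← mul_apply', ← mul_apply']
      congr 2
      group
    have h2 : ρ (x * y * x⁻¹ * y⁻¹) v + v = (ρ x (ρ y v' + v') + (ρ y v' + v')) + (ρ y (ρ x v' + v') + (ρ x v' + v')) := by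
      rw [h1, hv, map_add, map_add, mul_apply']
      have : ρ x (ρ y v') + ρ x v' + (ρ y v' + v') + (ρ y (ρ x v') + ρ y v' + (ρ x v' + v')) =
          ρ x (ρ y v') + ρ y (ρ x v') + (ρ x v' + ρ x v') + (ρ y v' + ρ y v') + (v' + v') := by abel
      rw [this, two, two, two, add_zero, add_zero, add_zero]
    rw [h2]
    exact Submodule.add_mem _ (hd0 x hx _ (hc y hy v')) (hd0 y hy _ (hc x hx v'))
  -- (e)
  have hZ : J E ρ (⊤ : Submodule F V) = ⊥ := by
    apply J_nil D ρ
    intro z hz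
    have h1 : J E ρ ⊤ ≤ J E ρ (J E ρ ⊤) := by
      apply Submodule.span_le.2
      rintro _ ⟨e, he, z, -, rfl⟩
      exact (hG0 e).1 (hSS (D.comm he)) z
    exact h1 hz
  apply hne₁
  apply hsw
  have h1 : ρ e₁ (ρ t₁ v₁ + v₁) + (ρ t₁ v₁ + v₁) ∈ J E ρ ⊤ := J_mem he₁ trivial
  rw [hZ, Submodule.mem_bot] at h1
  exact h1

end Cfsg.Agent.H94.MtP2
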