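import Mathlib

set_option autoImplicit false

namespace Cfsg.Agent.H94.Redun

open Matrix

section
variable {F : Type*} [Field F] {p : ℕ} [hpf : Fact p.Prime]

/-- monomial shift matrices -/
def sh (l : ZMod p) (d : ZMod p → F) : Matrix (ZMod p) (ZMod p) F :=
  fun u v => if v = u + l then d u else 0

theorem sh_mul (l l' : ZMod p) (d d' : ZMod p → F) :
    sh l d * sh l' d' = sh (l + l') (fun u => d u * d' (u + l)) := by
  ext u v
  rw [Matrix.mul_apply, Finset.sum_eq_single (u + l)]
  · simp only [sh, if_true, add_assoc]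
    split_ifs <;> simp
  · intro b _ hb
    simp [sh, hb]
  · simp

theorem sh_one : sh 0 (fun _ => (1 : F)) = (1 : Matrix (ZMod p) (ZMod p) F) := by
  ext u v
  simp only [sh, add_zero, Matrix.one_apply]
  by_cases h : v = u
  · simp [h]
  · rw [if_neg h, if_neg (fun h' => h h'.symm)]

theorem sh_inj {l l' : ZMod p} {d d' : ZMod p → F} (hd : ∀ u, d u ≠ 0)
    (h : sh l d = sh l' d') : l = l' ∧ d = d' := by
  have h0 : l = l' := by
    have := congrFun (congrFun h 0) l
    simp only [sh, zero_add, if_true] at this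
    by_contra hne
    rw [if_neg hne] at this
    exact hd 0 this
  refine ⟨h0, ?_⟩
  subst h0
  funext u
  have := congrFun (congrFun h u) (u + l)
  simpa [sh] using this

/-- unit version -/
def shU (l : ZMod p) (d : ZMod p → F) (hd : ∀ u, d u ≠ 0) : GL (ZMod p) F where
  val := sh l d
  inv := sh (-l) (fun u => (d (u - l))⁻¹)
  val_inv := by
    rw [sh_mul, add_neg_cancel, ← sh_one]
    congr 1
    funext u
    rw [add_sub_cancel_right, mul_inv_cancel₀ (hd u)]
  inv_val := by
    rw [sh_mul, neg_add_cancel, ← sh_one]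
    congr 1
    funext u
    rw [← sub_eq_add_neg, inv_mul_cancel₀ (hd _)]

theorem ne_of_pow {z : F} (h : z ^ p = 1) : z ≠ 0 := by
  rintro rfl
  rw [zero_pow hpf.out.ne_zero] at h
  exact zero_ne_one h

variable (F p)
/-- the monomial group -/
def Q : Subgroup (GL (ZMod p) F) where
  carrier := {g | ∃ (l : ZMod p) (d : ZMod p → F), (∀ u, d u ^ p = 1) ∧
    (g : Matrix (ZMod p) (ZMod p) F) = sh l d}
  one_mem' := ⟨0, fun _ => 1, fun _ => one_pow _, by rw [sh_one]; rfl⟩
  mul_mem' := by
    rintro a b ⟨l, d, hd, ha⟩ ⟨l', d', hd', hb⟩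
    refine ⟨l + l', fun u => d u * d' (u + l), fun u => ?_, ?_⟩
    · rw [mul_pow, hd, hd', one_mul]
    · rw [Units.val_mul, ha, hb, sh_mul]
  inv_mem' := by
    rintro a ⟨l, d, hd, ha⟩
    have h0 : ∀ u, d u ≠ 0 := fun u => ne_of_pow (hd u)
    have ha' : a = shU l d h0 := Units.ext ha
    refine ⟨-l, fun u => (d (u - l))⁻¹, fun u => ?_, ?_⟩
    · rw [inv_pow, hd, inv_one]
    · rw [ha']; rfl

variable {F p}

theorem mem_Q {g : GL (ZMod p) F} : g ∈ Q F p ↔ ∃ (l : ZMod p) (d : ZMod p → F), (∀ u, d u ^ p = 1) ∧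
    (g : Matrix (ZMod p) (ZMod p) F) = sh l d := Iff.rfl

theorem card_Q {ζ : F} (hζ : IsPrimitiveRoot ζ p) : Nat.card (Q F p) = p ^ (p + 1) := by
  have : NeZero p := ⟨hpf.out.ne_zero⟩
  let f : ZMod p × (ZMod p → rootsOfUnity p F) → Q F p := fun x =>
    ⟨shU x.1 (fun u => ((x.2 u : Fˣ) : F)) (fun u => Units.ne_zero _), x.1, _, fun u => by
      have := (x.2 u).2
      rw [mem_rootsOfUnity] at this
      have h2 := congrArg (fun z : Fˣ => (z : F)) this
      simpa using h2, rfl⟩
  have hf : Function.Bijective f := by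
    constructor
    · rintro ⟨l, d⟩ ⟨l', d'⟩ h
      have h1 : sh l (fun u => ((d u : Fˣ) : F)) = sh l' (fun u => ((d' u : Fˣ) : F)) :=
        congrArg (fun z : Q F p => ((z : GL (ZMod p) F) : Matrix (ZMod p) (ZMod p) F)) h
      obtain ⟨h2, h3⟩ := sh_inj (fun u => Units.ne_zero _) h1
      subst h2
      congr 1
      funext u
      exact Subtype.ext (Units.ext (congrFun h3 u))
    · rintro ⟨g, l, d, hd, hg⟩
      refine ⟨⟨l, fun u => ⟨Units.mk0 (d u) (ne_of_pow (hd u)), ?_⟩⟩, ?_⟩
      · rw [mem_rootsOfUnity]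
        ext
        simp [hd]
      · apply Subtype.ext
        apply Units.ext
        exact hg.symm
  rw [← Nat.card_congr (Equiv.ofBijective f hf), Nat.card_prod, Nat.card_fun, Nat.card_zmod,
    hζ.card_rootsOfUnity, pow_succ']

/-- a unit `g` with two nonzero entries in column `i` moves the reflection `d_i` out of `Q` -/
theorem refl_notMem (hp2 : p ≠ 2) {ζ : F} (hζ1 : ζ ≠ 1) (g : GL (ZMod p) F) (i a b : ZMod p)
    (hab : a ≠ b) (ha : (g : Matrix (ZMod p) (ZMod p) F) a i ≠ 0)
    (hb : (g : Matrix (ZMod p) (ZMod p) F) b i ≠ 0)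
    (r : GL (ZMod p) F) (hr : (r : Matrix (ZMod p) (ZMod p) F) = sh 0 (Function.update 1 i ζ)) :
    g * r * g⁻¹ ∉ Q F p := by
  intro hm
  obtain ⟨l, d, hd, hm⟩ := mem_Q.1 hm
  set A : Matrix (ZMod p) (ZMod p) F := (g : Matrix (ZMod p) (ZMod p) F) with hA
  set B : Matrix (ZMod p) (ZMod p) F := ((g⁻¹ : GL (ZMod p) F) : Matrix (ZMod p) (ZMod p) F) with hB
  have hAB : A * B = 1 := by
    rw [hA, hB, ← Units.val_mul, mul_inv_cancel]; rfl
  have hBA : B * A = 1 := by
    rw [hA, hB, ← Units.val_mul, inv_mul_cancel]; rfl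
  have hr1 : (r : Matrix (ZMod p) (ZMod p) F) = 1 + Matrix.single i i (ζ - 1) := by
    rw [hr]
    ext u v
    simp only [sh, add_zero, Matrix.add_apply, Matrix.one_apply, Matrix.single_apply]
    by_cases huv : v = u
    · subst huv
      by_cases hvi : v = i
      · subst hvi; simp
      · have : ¬ (i = v) := fun h => hvi h.symm
        simp [hvi, this]
    · have h1 : ¬ (u = v) := fun h => huv h.symm
      have h2 : ¬ (i = u ∧ i = v) := fun h => h1 (h.1.symm.trans h.2)
      simp [huv, h1, h2]
  have hkey : ∀ u v, (sh l d) u v = (if u = v then 1 else 0) + (ζ - 1) * A u i * B i v := by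
    intro u v
    rw [← hm, Units.val_mul, Units.val_mul, ← hA, ← hB, hr1, mul_add, add_mul, mul_one, hAB,
      Matrix.add_apply, Matrix.one_apply]
    congr 1
    rw [Matrix.mul_apply, Finset.sum_eq_single i]
    · rw [Matrix.mul_apply, Finset.sum_eq_single i]
      · rw [Matrix.single_apply, if_pos ⟨rfl, rfl⟩]; ring
      · intro c _ hc
        have : ¬ (i = c ∧ i = i) := fun h => hc h.1.symm
        rw [Matrix.single_apply, if_neg this, mul_zero]
      · simp
    · intro c _ hc
      rw [Matrix.mul_apply, Finset.sum_eq_zero, zero_mul]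
      intro e _
      have : ¬ (i = e ∧ i = c) := fun h => hc h.2.symm
      rw [Matrix.single_apply, if_neg this, mul_zero]
    · simp
  have hz : ζ - 1 ≠ 0 := sub_ne_zero.2 hζ1
  -- l = 0
  have hl : l = 0 := by
    by_contra hl
    have h00 := hkey 0 0
    have hll := hkey l l
    have hl0 := hkey l 0
    have h2l : (0 : ZMod p) ≠ l + l := by
      intro h
      have h2 : (2 : ZMod p) * l = 0 := by rw [two_mul]; exact h.symm
      rcases mul_eq_zero.1 h2 with h3 | h3
      · have h4 : ((2 : ℕ) : ZMod p) = 0 := by exact_mod_cast h3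
        rw [ZMod.natCast_eq_zero_iff] at h4
        exact hp2 ((Nat.prime_dvd_prime_iff_eq hpf.out Nat.prime_two).1 h4)
      · exact hl h3
    rw [sh, if_neg (by rw [zero_add]; exact fun h => hl h.symm), if_pos rfl] at h00
    rw [sh, if_neg (by intro h; exact hl (by simpa using h.symm)), if_pos rfl] at hll
    rw [sh, if_neg h2l, if_neg hl, zero_add] at hl0
    have h1 : (ζ - 1) * A 0 i * B i 0 = -1 := by linear_combination -h00
    have h2 : (ζ - 1) * A l i * B i l = -1 := by linear_combination -hll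
    have h3 : ((ζ - 1) * A 0 i * B i 0) * ((ζ - 1) * A l i * B i l) = 0 := by
      calc ((ζ - 1) * A 0 i * B i 0) * ((ζ - 1) * A l i * B i l)
          = ((ζ - 1) * A l i * B i 0) * ((ζ - 1) * A 0 i * B i l) := by ring
        _ = 0 := by rw [← hl0, zero_mul]
    rw [h1, h2] at h3
    norm_num at h3
  subst hl
  have hoff : ∀ u v, u ≠ v → A u i * B i v = 0 := by
    intro u v huv
    have := hkey u v
    rw [sh, add_zero, if_neg (fun h => huv h.symm), if_neg huv, zero_add, mul_assoc] at this
    exact (mul_eq_zero.1 this.symm).resolve_left hz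
  have hrow : ∀ v, B i v = 0 := by
    intro v
    by_cases hva : a = v
    · have : b ≠ v := fun h => hab (hva.trans h.symm)
      exact (mul_eq_zero.1 (hoff b v this)).resolve_left hb
    · exact (mul_eq_zero.1 (hoff a v hva)).resolve_left ha
  have h1 := congrFun (congrFun hBA i) i
  rw [Matrix.mul_apply, Matrix.one_apply_eq] at h1
  simp [hrow] at h1

/-- Fourier type matrices -/
theorem exists_fourier {ζ : F} (hζ : IsPrimitiveRoot ζ p) (c : ZMod p → F) (hc : ∀ u, c u ≠ 0)
    (k : ZMod p → ZMod p) (hk : Function.Injective k) :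
    ∃ (ψ : AddChar (ZMod p) F) (g : GL (ZMod p) F), (∀ a, ψ a = ζ ^ a.val) ∧
      (g : Matrix (ZMod p) (ZMod p) F) = fun u v => c u * ψ (v * k u) := by
  have : NeZero p := ⟨hpf.out.ne_zero⟩
  have hpF : (p : F) ≠ 0 := by
    have := hζ.neZero'
    exact this.out
  obtain ⟨ψ, hψ, hprim⟩ : ∃ ψ : AddChar (ZMod p) F, (∀ a, ψ a = ζ ^ a.val) ∧ ψ.IsPrimitive :=
    ⟨AddChar.zmodChar p hζ.pow_eq_one, fun a => rfl, AddChar.zmodChar_primitive_of_primitive_root p hζ⟩
  set A : Matrix (ZMod p) (ZMod p) F := fun u v => c u * ψ (v * k u) with hA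
  set B : Matrix (ZMod p) (ZMod p) F := fun v u => (p : F)⁻¹ * (c u)⁻¹ * ψ (-(v * k u)) with hB
  have hAB : A * B = 1 := by
    ext u w
    rw [Matrix.mul_apply]
    have h1 : ∀ v, A u v * B v w = (c u * (c w)⁻¹ * (p : F)⁻¹) * ψ (v * (k u - k w)) := by
      intro v
      rw [hA, hB]
      simp only
      rw [mul_sub, sub_eq_add_neg, AddChar.map_add_eq_mul]
      ring
    rw [Finset.sum_congr rfl (fun v _ => h1 v), ← Finset.mul_sum, AddChar.sum_mulShift _ hprim,
      Matrix.one_apply]
    by_cases huw : u = w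
    · subst huw
      rw [if_pos (sub_self _), if_pos rfl, ZMod.card]
      field_simp [hc u]
    · rw [if_neg (fun h => huw (hk (sub_eq_zero.1 h))), if_neg huw]
      simp
  exact ⟨ψ, ⟨A, B, hAB, mul_eq_one_comm.1 hAB⟩, hψ, rfl⟩

theorem sh_pow (l : ZMod p) (d : ZMod p → F) (n : ℕ) :
    (sh l d) ^ n = sh ((n : ZMod p) * l) (fun u => ∏ j ∈ Finset.range n, d (u + (j : ZMod p) * l)) := by
  induction n with
  | zero => simp [← sh_one]
  | succ n ih =>
    rw [pow_succ, ih, sh_mul]
    congr 1
    · push_cast; ring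
    · funext u
      rw [Finset.prod_range_succ]

theorem prod_shift_const {l : ZMod p} (hl : l ≠ 0) (d : ZMod p → F) (hd : ∀ u, d u ≠ 0) (u : ZMod p) :
    ∏ j ∈ Finset.range p, d (u + j * l) = ∏ j ∈ Finset.range p, d (j * l) := by
  have : NeZero p := ⟨hpf.out.ne_zero⟩
  have hstep : ∀ u : ZMod p, ∏ j ∈ Finset.range p, d (u + l + j * l) =
      ∏ j ∈ Finset.range p, d (u + j * l) := by
    intro u
    have h1 := Finset.prod_range_succ (fun j : ℕ => d (u + j * l)) p
    have h2 := Finset.prod_range_succ' (fun j : ℕ => d (u + j * l)) p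
    rw [h1] at h2
    simp only [CharP.cast_eq_zero, zero_mul, add_zero, Nat.cast_zero] at h2
    have h3 := mul_right_cancel₀ (hd u) h2
    rw [h3]
    refine Finset.prod_congr rfl fun j _ => ?_
    congr 1
    push_cast
    ring
  have hn : ∀ n : ℕ, ∏ j ∈ Finset.range p, d ((n : ZMod p) * l + j * l) =
      ∏ j ∈ Finset.range p, d (j * l) := by
    intro n
    induction n with
    | zero => simp
    | succ n ih =>
      rw [← ih, ← hstep ((n : ZMod p) * l)]
      refine Finset.prod_congr rfl fun j _ => ?_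
      congr 1
      push_cast
      ring
  have h := hn (u * l⁻¹).val
  rwa [ZMod.natCast_zmod_val, mul_assoc, inv_mul_cancel₀ hl, mul_one] at h

/-- the key dichotomy: each element of `Q` is in `g Q g⁻¹` for a `g` with a column with two nonzero
entries -/
theorem exists_mover (hp2 : p ≠ 2) {ζ : F} (hζ : IsPrimitiveRoot ζ p) (x : GL (ZMod p) F)
    (hx : x ∈ Q F p) :
    ∃ g y : GL (ZMod p) F, y ∈ Q F p ∧ x = g * y * g⁻¹ ∧
      ∃ i a b : ZMod p, a ≠ b ∧ (g : Matrix (ZMod p) (ZMod p) F) a i ≠ 0 ∧
        (g : Matrix (ZMod p) (ZMod p) F) b i ≠ 0 := by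
  have : NeZero p := ⟨hpf.out.ne_zero⟩
  obtain ⟨l, d, hd, hxd⟩ := mem_Q.1 hx
  have hd0 : ∀ u, d u ≠ 0 := fun u => ne_of_pow (hd u)
  have h01 : (0 : ZMod p) ≠ 1 := zero_ne_one
  by_cases hl : l = 0
  · subst hl
    by_cases hinj : Function.Injective d
    · -- all eigenvalues distinct
      have hk : ∀ u, ∃ k : ZMod p, d u = ζ ^ k.val := by
        intro u
        obtain ⟨i, hi, hi'⟩ := hζ.eq_pow_of_pow_eq_one (hd u)
        refine ⟨(i : ZMod p), ?_⟩
        rw [ZMod.val_natCast, ← pow_eq_pow_mod _ hζ.pow_eq_one, hi']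
      choose k hk using hk
      have hkinj : Function.Injective k := by
        intro a b hab
        apply hinj
        rw [hk, hk, hab]
      obtain ⟨ψ, g, hψ, hg⟩ := exists_fourier hζ (fun _ => 1) (fun _ => one_ne_zero) k hkinj
      let y : GL (ZMod p) F := shU (-1) (fun _ => 1) (fun _ => one_ne_zero)
      have hψ0 : ∀ a, ψ a ≠ 0 := fun a => by rw [hψ]; exact pow_ne_zero _ (hζ.ne_zero hpf.out.ne_zero)
      refine ⟨g, y, ⟨-1, _, fun _ => one_pow _, rfl⟩, ?_, 0, 0, 1, h01, ?_, ?_⟩
      · rw [eq_mul_inv_iff_mul_eq]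
        ext u v
        rw [Units.val_mul, Units.val_mul, Matrix.mul_apply, Matrix.mul_apply]
        have hy : (y : Matrix (ZMod p) (ZMod p) F) = sh (-1) (fun _ => 1) := rfl
        rw [hy, hxd, hg, Finset.sum_eq_single u, Finset.sum_eq_single (v + 1)]
        · simp only [sh, add_zero, if_true, one_mul]
          rw [if_pos (by ring), mul_one, add_mul, one_mul, AddChar.map_add_eq_mul, hk, hψ (k u)]
          ring
        · intro b _ hb
          have : ¬ (v = b + -1) := fun h => hb (by rw [h]; ring)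
          simp [sh, this]
        · simp
        · intro b _ hb
          simp [sh, hb]
        · simp
      · rw [hg]; simp
      · rw [hg]; simp
    · -- two equal eigenvalues
      rw [Function.Injective] at hinj
      push Not at hinj
      obtain ⟨i, j, hij, hne⟩ := hinj
      let g : GL (ZMod p) F := ⟨Matrix.transvection i j 1, Matrix.transvection i j (-1), by
        rw [Matrix.transvection_mul_transvection_same _ _ hne]; simp, by
        rw [Matrix.transvection_mul_transvection_same _ _ hne]; simp⟩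
      refine ⟨g, x, hx, ?_, j, i, j, hne, ?_, ?_⟩
      · rw [eq_mul_inv_iff_mul_eq]
        ext u v
        rw [Units.val_mul, Units.val_mul, hxd]
        have hg : (g : Matrix (ZMod p) (ZMod p) F) = 1 + Matrix.single i j 1 := rfl
        rw [hg, mul_add, add_mul, mul_one, one_mul, Matrix.add_apply, Matrix.add_apply]
        congr 1
        rw [Matrix.mul_apply, Matrix.mul_apply, Finset.sum_eq_single u, Finset.sum_eq_single v]
        · simp only [sh, add_zero, if_true, Matrix.single_apply]
          by_cases h : i = u ∧ j = v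
          · rw [if_pos h, ← h.1, ← h.2, hij]; ring
          · rw [if_neg h]; ring
        · intro b _ hb
          have : ¬ (v = b) := fun h => hb h.symm
          simp [sh, this]
        · simp
        · intro b _ hb
          simp [sh, hb]
        · simp
      · have hg : (g : Matrix (ZMod p) (ZMod p) F) = 1 + Matrix.single i j 1 := rfl
        rw [hg, Matrix.add_apply, Matrix.one_apply_ne hne, Matrix.single_apply_same]
        simp
      · have hg : (g : Matrix (ZMod p) (ZMod p) F) = 1 + Matrix.single i j 1 := rfl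
        rw [hg, Matrix.add_apply, Matrix.one_apply_eq, Matrix.single_apply, if_neg (fun h => hne h.1)]
        simp
  · set a : F := ∏ j ∈ Finset.range p, d (j * l) with ha
    have hxp : (sh l d) ^ p = a • (1 : Matrix (ZMod p) (ZMod p) F) := by
      rw [sh_pow]
      ext u v
      simp only [sh, CharP.cast_eq_zero, zero_mul, add_zero, Matrix.smul_apply, Matrix.one_apply,
        smul_eq_mul]
      by_cases huv : v = u
      · rw [if_pos huv, if_pos huv.symm, prod_shift_const hl d hd0 u, mul_one]
      · rw [if_neg huv, if_neg (fun h => huv h.symm), mul_zero]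
    have hap : a ^ p = 1 := by
      rw [ha, ← Finset.prod_pow, Finset.prod_eq_one]
      intro j _
      exact hd _
    by_cases ha1 : a = 1
    · -- order p, all eigenvalues
      let f : ℕ → F := fun n => ∏ j ∈ Finset.range n, d (j * l)
      have hf0 : ∀ n, f n ≠ 0 := fun n => Finset.prod_ne_zero_iff.2 fun j _ => hd0 _
      have hfs : ∀ n, f (n + 1) = f n * d (n * l) := fun n => Finset.prod_range_succ _ _
      let c : ZMod p → F := fun u => (f (u * l⁻¹).val)⁻¹
      have hc0 : ∀ u, c u ≠ 0 := fun u => inv_ne_zero (hf0 _)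
      have hcs : ∀ u, d u * c (u + l) = c u := by
        intro u
        have h1 : (u + l) * l⁻¹ = u * l⁻¹ + 1 := by rw [add_mul, mul_inv_cancel₀ hl]
        have h2 : (((u * l⁻¹).val : ℕ) : ZMod p) * l = u := by
          rw [ZMod.natCast_zmod_val, mul_assoc, inv_mul_cancel₀ hl, mul_one]
        have h3 := hfs (u * l⁻¹).val
        rw [h2] at h3
        show d u * (f ((u + l) * l⁻¹).val)⁻¹ = (f (u * l⁻¹).val)⁻¹
        rw [h1]
        by_cases hlt : (u * l⁻¹).val + 1 < p
        · have h4 : (u * l⁻¹ + 1).val = (u * l⁻¹).val + 1 := by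
            have h1v : (1 : ZMod p).val = 1 := by
              rw [ZMod.val_one_eq_one_mod, Nat.mod_eq_of_lt hpf.out.one_lt]
            rw [ZMod.val_add_of_lt, h1v]
            rw [h1v]; exact hlt
          rw [h4, h3]
          field_simp [hf0, hd0 u]
        · have h5 : (u * l⁻¹).val + 1 = p := by
            have := ZMod.val_lt (u * l⁻¹)
            omega
          have h6 : u * l⁻¹ + 1 = 0 := by
            have : (((u * l⁻¹).val + 1 : ℕ) : ZMod p) = 0 := by rw [h5]; simp
            rwa [Nat.cast_add, ZMod.natCast_zmod_val, Nat.cast_one] at this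
          rw [h6, ZMod.val_zero]
          have h7 : f 0 = 1 := rfl
          rw [h7, inv_one, mul_one]
          rw [h5] at h3
          have h8 : f p = 1 := ha1
          rw [h8] at h3
          exact eq_inv_of_mul_eq_one_right h3.symm
      have hkinj : Function.Injective (fun u : ZMod p => u * l⁻¹) := by
        intro a b hab
        exact mul_right_cancel₀ (inv_ne_zero hl) hab
      obtain ⟨ψ, g, hψ, hg⟩ := exists_fourier hζ c hc0 _ hkinj
      have hψ0 : ∀ a, ψ a ≠ 0 := fun a => by rw [hψ]; exact pow_ne_zero _ (hζ.ne_zero hpf.out.ne_zero)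
      let y : GL (ZMod p) F := shU 0 (fun v => ψ v) hψ0
      refine ⟨g, y, ⟨0, _, fun v => ?_, rfl⟩, ?_, 0, 0, 1, h01, ?_, ?_⟩
      · rw [hψ, ← pow_mul, mul_comm, pow_mul, hζ.pow_eq_one, one_pow]
      · rw [eq_mul_inv_iff_mul_eq]
        ext u v
        rw [Units.val_mul, Units.val_mul, Matrix.mul_apply, Matrix.mul_apply]
        have hy : (y : Matrix (ZMod p) (ZMod p) F) = sh 0 (fun v => ψ v) := rfl
        rw [hy, hxd, hg, Finset.sum_eq_single (u + l), Finset.sum_eq_single v]
        · simp only [sh, add_zero, if_true]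
          rw [add_mul, mul_inv_cancel₀ hl, mul_add, mul_one, AddChar.map_add_eq_mul, ← mul_assoc, hcs,
            mul_assoc]
        · intro b _ hb
          have : ¬ (v = b) := fun h => hb h.symm
          simp [sh, this]
        · simp
        · intro b _ hb
          simp [sh, hb]
        · simp
      · rw [hg]; exact mul_ne_zero (hc0 _) (hψ0 _)
      · rw [hg]; exact mul_ne_zero (hc0 _) (hψ0 _)
    · -- irreducible: use 1 + x
      have hodd : Odd p := hpf.out.odd_of_ne_two hp2
      have ha1' : 1 + a ≠ 0 := by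
        intro h
        have h1 : a = -1 := by linear_combination h
        rw [h1, hodd.neg_one_pow] at hap
        exact ha1 (h1.trans hap)
      have hmul : (1 + sh l d) * (∑ i ∈ Finset.range p, (-(sh l d)) ^ i) =
          (1 + a) • (1 : Matrix (ZMod p) (ZMod p) F) := by
        have := mul_neg_geom_sum (-(sh l d)) p
        rw [sub_neg_eq_add, hodd.neg_pow, sub_neg_eq_add, hxp] at this
        rw [this, add_smul, one_smul]
      have hmul2 : (1 + sh l d) * ((1 + a)⁻¹ • ∑ i ∈ Finset.range p, (-(sh l d)) ^ i) = 1 := by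
        rw [Matrix.mul_smul, hmul, smul_smul, inv_mul_cancel₀ ha1', one_smul]
      let g : GL (ZMod p) F := ⟨1 + sh l d, _, hmul2, mul_eq_one_comm.1 hmul2⟩
      have hg : (g : Matrix (ZMod p) (ZMod p) F) = 1 + sh l d := rfl
      refine ⟨g, x, hx, ?_, l, 0, l, fun h => hl h.symm, ?_, ?_⟩
      · rw [eq_mul_inv_iff_mul_eq]
        apply Units.ext
        rw [Units.val_mul, Units.val_mul, hg, hxd, mul_add, add_mul, mul_one, one_mul]
      · rw [hg, Matrix.add_apply, Matrix.one_apply_ne (fun h => hl h.symm), zero_add, sh, zero_add,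
          if_pos rfl]
        exact hd0 0
      · rw [hg, Matrix.add_apply, Matrix.one_apply_eq, sh, if_neg (fun h => hl (by simpa using h)),
          add_zero]
        exact one_ne_zero

/-- order of `GL` -/
theorem fact_card_GL [Fintype F] (hp2 : p ≠ 2) (h1 : p ∣ Fintype.card F - 1)
    (h2 : ¬ p ^ 2 ∣ Fintype.card F - 1) :
    (Nat.card (GL (Fin p) F)).factorization p = p + 1 := by
  set q := Fintype.card F with hq
  have hq1 : 1 < q := Fintype.one_lt_card
  have hodd : Odd p := hpf.out.odd_of_ne_two hp2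
  have hpq : ¬ p ∣ q := by
    intro h
    have h3 : p ∣ q - (q - 1) := Nat.dvd_sub h h1
    rw [Nat.sub_sub_self (by omega)] at h3
    exact hpf.out.one_lt.ne' (Nat.dvd_one.1 h3)
  have hv1 : padicValNat p (q - 1) = 1 := by
    have h3 : q - 1 ≠ 0 := by omega
    apply le_antisymm
    · by_contra h
      push Not at h
      apply h2
      exact (pow_dvd_pow p h).trans pow_padicValNat_dvd
    · exact one_le_padicValNat_of_dvd h3 h1
  have hvj : ∀ j, j ≠ 0 → padicValNat p (q ^ j - 1) = 1 + padicValNat p j := by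
    intro j hj
    have := padicValNat.pow_sub_pow (p := p) hodd (x := q) (y := 1) hq1 h1 hpq hj
    rw [one_pow, hv1] at this
    exact this
  rw [Matrix.card_GL_field]
  have hne : ∀ i : Fin p, q ^ p - q ^ (i : ℕ) ≠ 0 := by
    intro i
    have := Nat.pow_lt_pow_right hq1 i.2
    omega
  rw [Nat.factorization_prod_apply (fun i _ => hne i)]
  have hterm : ∀ i : Fin p, (q ^ p - q ^ (i : ℕ)).factorization p = 1 + padicValNat p (p - i) := by
    intro i
    have h3 : q ^ p - q ^ (i : ℕ) = q ^ (i : ℕ) * (q ^ (p - i) - 1) := by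
      rw [Nat.mul_sub, mul_one, ← pow_add, Nat.add_sub_cancel' i.2.le]
    have hi := i.2
    have h4 : q ^ (p - i) - 1 ≠ 0 := by
      have := Nat.one_lt_pow (n := p - i) (by omega) hq1
      omega
    rw [h3, Nat.factorization_mul (pow_ne_zero _ (by omega)) h4, Finsupp.add_apply,
      Nat.factorization_pow, Finsupp.smul_apply, Nat.factorization_eq_zero_of_not_dvd hpq,
      smul_zero, zero_add, Nat.factorization_def _ hpf.out, hvj _ (by omega)]
  rw [Finset.sum_congr rfl (fun i _ => hterm i), Finset.sum_add_distrib, Finset.sum_const,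
    Finset.card_univ, Fintype.card_fin, smul_eq_mul, mul_one]
  congr 1
  have h0 : (0 : ℕ) < p := hpf.out.pos
  rw [Finset.sum_eq_single (⟨0, h0⟩ : Fin p)]
  · simp
  · intro b _ hb
    apply padicValNat.eq_zero_of_not_dvd
    intro h
    have h5 : (b : ℕ) ≠ 0 := fun h6 => hb (Fin.ext h6)
    have h6 := b.2
    have := Nat.le_of_dvd (by omega) h
    omega
  · simp

theorem exists_red [Fintype F] (hp2 : p ≠ 2) (h1 : p ∣ Fintype.card F - 1)
    (hc : (Nat.card (GL (ZMod p) F)).factorization p = p + 1) :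
    ∃ Q : Sylow p (GL (ZMod p) F), ∀ x : GL (ZMod p) F,
      (∃ k : ℕ, orderOf x = p ^ k) → ∃ P : Sylow p (GL (ZMod p) F), P ≠ Q ∧ x ∈ P := by
  classical
  obtain ⟨z, hz⟩ : ∃ z : Fˣ, orderOf z = p := by
    have : p ∣ Nat.card Fˣ := by rw [Nat.card_units, Nat.card_eq_fintype_card]; exact h1
    exact exists_prime_orderOf_dvd_card' p this
  have hζ : IsPrimitiveRoot (z : F) p := by
    rw [IsPrimitiveRoot.coe_units_iff, ← hz]
    exact IsPrimitiveRoot.orderOf z
  let Q0 : Sylow p (GL (ZMod p) F) := Sylow.ofCard (Q F p) (by rw [card_Q hζ, hc])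
  have hQ0 : (Q0 : Subgroup (GL (ZMod p) F)) = Q F p := rfl
  refine ⟨Q0, fun x hx => ?_⟩
  by_cases hxQ : x ∈ Q F p
  · obtain ⟨g, y, hy, hxy, i, a, b, hab, ha, hb⟩ := exists_mover hp2 hζ x hxQ
    have hmem : ∀ w : GL (ZMod p) F, w ∈ Q F p → g * w * g⁻¹ ∈ g • Q0 := by
      intro w hw
      rw [← SetLike.mem_coe, ← Sylow.coe_coe, Sylow.coe_subgroup_smul, SetLike.mem_coe,
        Subgroup.mem_smul_pointwise_iff_exists]
      exact ⟨w, hw, rfl⟩
    refine ⟨g • Q0, fun heq => ?_, ?_⟩
    · let r : GL (ZMod p) F := shU 0 (Function.update 1 i (z : F)) (fun u => by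
        by_cases h : u = i
        · subst h; simp
        · simp [h])
      have hr : r ∈ Q F p := ⟨0, _, fun u => by
        by_cases h : u = i
        · subst h; simpa using hζ.pow_eq_one
        · simp [h], rfl⟩
      have h3 := hmem r hr
      rw [heq] at h3
      exact refl_notMem hp2 (hζ.ne_one hpf.out.one_lt) g i a b hab ha hb r rfl h3
    · rw [hxy]
      exact hmem y hy
  · obtain ⟨k, hk⟩ := hx
    have hpx : IsPGroup p (Subgroup.zpowers x) := by
      apply IsPGroup.of_card (n := k)
      rw [Nat.card_zpowers, hk]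
    obtain ⟨P, hP⟩ := hpx.exists_le_sylow
    have hxP : x ∈ P := hP (Subgroup.mem_zpowers x)
    refine ⟨P, fun h => ?_, hxP⟩
    rw [h] at hxP
    exact hxQ hxP

end

theorem main {F : Type*} [Field F] [Fintype F] (p : ℕ) [Fact p.Prime]
    (hp : p ≠ 2) (h1 : p ∣ Fintype.card F - 1) (h2 : ¬ p ^ 2 ∣ Fintype.card F - 1) :
    ∃ Q : Sylow p (Matrix.GeneralLinearGroup (Fin p) F), ∀ x : Matrix.GeneralLinearGroup (Fin p) F,
      (∃ k : ℕ, orderOf x = p ^ k) → ∃ P : Sylow p (Matrix.GeneralLinearGroup (Fin p) F), P ≠ Q ∧ x ∈ P := by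
  rcases p with _ | n
  · exact absurd (Fact.out : Nat.Prime 0) Nat.not_prime_zero
  · have h3 := fact_card_GL (F := F) hp h1 h2
    exact exists_red (F := F) (p := n + 1) hp h1 h3

end Cfsg.Agent.H94.Redun
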