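import Cfsg.Agent.H94.BinOct
import Cfsg.Agent.S2879
import Cfsg.Agent.S5112
import Cfsg.Agent.H55.SolvTwo
import Cfsg.Agent.ZJ.SolvFact
import Cfsg.Agent.MaxClass.UniqueOrderP
import Cfsg.Agent.S3153

set_option autoImplicit false
open Cfsg

namespace Cfsg.Agent.H94.SolvRkOne

open Subgroup

theorem exists_sylow_ge {G K : Type*} [Group G] [Finite G] [Group K] (f : G →* K)
    (hf : Function.Surjective f) (V : Subgroup G) (hV : IsPGroup 2 V) (T' : Sylow 2 K)
    (h : V.map f ≤ (T' : Subgroup K)) :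
    ∃ T : Sylow 2 G, V ≤ (T : Subgroup G) ∧ (T : Subgroup G).map f = (T' : Subgroup K) := by
  have : Finite K := Finite.of_surjective f hf
  have : Fact (Nat.Prime 2) := ⟨Nat.prime_two⟩
  obtain ⟨T₁, hT₁⟩ := Sylow.mapSurjective_surjective hf 2 T'
  have hT₁' : (T₁ : Subgroup G).map f = (T' : Subgroup K) := by
    rw [← hT₁]; rfl
  set M : Subgroup G := (T' : Subgroup K).comap f with hM
  have hVM : V ≤ M := Subgroup.map_le_iff_le_comap.1 h
  have hTM : (T₁ : Subgroup G) ≤ M := Subgroup.map_le_iff_le_comap.1 hT₁'.le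
  obtain ⟨Q, hQ⟩ := (hV.of_equiv (Subgroup.subgroupOfEquivOfLe hVM).symm).exists_le_sylow
  obtain ⟨m, hm⟩ := MulAction.exists_smul_eq M (T₁.subtype hTM) Q
  have hmem : ∀ x : G, x ∈ (((m : G) • T₁ : Sylow 2 G) : Subgroup G) ↔ (m : G)⁻¹ * x * m ∈ (T₁ : Subgroup G) := by
    intro x
    rw [Sylow.coe_subgroup_smul, Subgroup.mem_pointwise_smul_iff_inv_smul_mem]
    rw [← map_inv, MulAut.smul_def, MulAut.conj_apply, inv_inv]
  refine ⟨(m : G) • T₁, ?_, ?_⟩
  · intro v hv
    have h1 : (⟨v, hVM hv⟩ : M) ∈ (Q : Subgroup M) := hQ (by rw [Subgroup.mem_subgroupOf]; exact hv)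
    rw [← hm, Sylow.coe_subgroup_smul, Subgroup.mem_pointwise_smul_iff_inv_smul_mem, ← map_inv,
      MulAut.smul_def, MulAut.conj_apply, inv_inv] at h1
    rw [hmem]
    exact h1
  · have hle : (((m : G) • T₁ : Sylow 2 G) : Subgroup G).map f ≤ (T' : Subgroup K) := by
      rintro _ ⟨x, hx, rfl⟩
      have hx' := (hmem x).1 hx
      have hm' : f (m : G) ∈ (T' : Subgroup K) := m.2
      have h2 : f ((m : G)⁻¹ * x * m) ∈ (T' : Subgroup K) := hTM hx'
      rw [map_mul, map_mul, map_inv] at h2
      have h3 := (T' : Subgroup K).mul_mem ((T' : Subgroup K).mul_mem hm' h2) ((T' : Subgroup K).inv_mem hm')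
      simpa [mul_assoc] using h3
    exact ((((m : G) • T₁ : Sylow 2 G).mapSurjective hf).is_maximal' T'.2 hle).symm

theorem rank_transfer {G K : Type*} [Group G] [Finite G] [Group K] (f : G →* K)
    (hf : Function.Surjective f) (hker : Odd (Nat.card f.ker))
    (hI : ∀ S T : Sylow 2 G, S ≠ T → Cfsg.PRankLE 2 1 ↥((S : Subgroup G) ⊓ (T : Subgroup G)))
    (S' T' : Sylow 2 K) (hne : S' ≠ T') : Cfsg.PRankLE 2 1 ↥((S' : Subgroup K) ⊓ (T' : Subgroup K)) := by
  have : Finite K := Finite.of_surjective f hf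
  have : Fact (Nat.Prime 2) := ⟨Nat.prime_two⟩
  intro A hAc hA2
  set V : Subgroup K := A.map ((S' : Subgroup K) ⊓ (T' : Subgroup K)).subtype with hV
  have hVS : V ≤ (S' : Subgroup K) := by
    rintro _ ⟨x, _, rfl⟩; exact x.2.1
  have hVT : V ≤ (T' : Subgroup K) := by
    rintro _ ⟨x, _, rfl⟩; exact x.2.2
  have hVc : ∀ x ∈ V, ∀ y ∈ V, x * y = y * x := by
    rintro _ ⟨x, hx, rfl⟩ _ ⟨y, hy, rfl⟩
    have h1 := congrArg Subtype.val (hAc.is_comm.comm ⟨x, hx⟩ ⟨y, hy⟩)
    have h2 := congrArg Subtype.val h1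
    exact h2
  have hV2 : ∀ x ∈ V, x ^ 2 = 1 := by
    rintro _ ⟨x, hx, rfl⟩
    exact congrArg Subtype.val (hA2 x hx)
  have hVcard : Nat.card V = Nat.card A :=
    (Nat.card_congr (A.equivMapOfInjective _ (Subgroup.subtype_injective _)).toEquiv).symm
  obtain ⟨S, hS⟩ := Sylow.mapSurjective_surjective hf 2 S'
  have hS' : (S : Subgroup G).map f = (S' : Subgroup K) := by
    rw [← hS]; rfl
  have hinj : ∀ s ∈ (S : Subgroup G), f s = 1 → s = 1 := by
    intro s hs h1
    have h2 : orderOf s ∣ Nat.card f.ker := Subgroup.orderOf_dvd_natCard _ h1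
    obtain ⟨k, hk⟩ := S.2 ⟨s, hs⟩
    have h3 : s ^ 2 ^ k = 1 := congrArg Subtype.val hk
    have h4 : orderOf s ∣ 2 ^ k := orderOf_dvd_of_pow_eq_one h3
    have h5 : Nat.Coprime (2 ^ k) (Nat.card f.ker) :=
      Nat.Coprime.pow_left _ (Nat.coprime_two_left.2 hker)
    exact orderOf_eq_one_iff.1 (Nat.eq_one_of_dvd_coprimes h5 h4 h2)
  set V₀ : Subgroup G := (S : Subgroup G) ⊓ V.comap f with hV₀
  have hV₀map : V₀.map f = V := by
    apply le_antisymm
    · rintro _ ⟨x, hx, rfl⟩; exact hx.2
    · intro v hv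
      have h1 : v ∈ (S : Subgroup G).map f := by rw [hS']; exact hVS hv
      obtain ⟨s, hs, rfl⟩ := h1
      exact ⟨s, ⟨hs, hv⟩, rfl⟩
  obtain ⟨T, hT, hT'⟩ := exists_sylow_ge f hf V₀ (S.2.to_le inf_le_left) T' (by rw [hV₀map]; exact hVT)
  have hneST : S ≠ T := by
    rintro rfl
    exact hne (Sylow.ext (hS'.symm.trans hT'))
  have hVST : V₀ ≤ (S : Subgroup G) ⊓ (T : Subgroup G) := le_inf inf_le_left hT
  have hres := hI S T hneST (V₀.subgroupOf ((S : Subgroup G) ⊓ (T : Subgroup G))) ?_ ?_
  · rw [Nat.card_congr (Subgroup.subgroupOfEquivOfLe hVST).toEquiv] at hres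
    have h6 : Nat.card V₀ = Nat.card V := by
      rw [← hV₀map]
      refine Nat.card_congr (Equiv.ofBijective (fun x : V₀ => (⟨f x, x, x.2, rfl⟩ : V₀.map f)) ⟨?_, ?_⟩)
      · intro x y hxy
        have h7 : f x = f y := congrArg Subtype.val hxy
        have h8 : f ((x : G) * (y : G)⁻¹) = 1 := by rw [map_mul, map_inv, h7, mul_inv_cancel]
        have h9 := hinj _ ((S : Subgroup G).mul_mem x.2.1 ((S : Subgroup G).inv_mem y.2.1)) h8
        exact Subtype.ext (mul_inv_eq_one.1 h9)
      · rintro ⟨_, x, hx, rfl⟩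
        exact ⟨⟨x, hx⟩, rfl⟩
    rw [← hVcard, ← h6]
    exact hres
  · refine ⟨⟨?_⟩⟩
    rintro ⟨x, hx⟩ ⟨y, hy⟩
    apply Subtype.ext
    apply Subtype.ext
    show (x : G) * y = y * x
    have h1 : (x : G) ∈ V₀ := hx
    have h2 : (y : G) ∈ V₀ := hy
    have h3 : f ((x : G) * y * ((y : G) * x)⁻¹) = 1 := by
      rw [map_mul, map_inv, map_mul, map_mul, hVc _ h1.2 _ h2.2, mul_inv_cancel]
    have h4 := hinj _ ((S : Subgroup G).mul_mem ((S : Subgroup G).mul_mem h1.1 h2.1)
      ((S : Subgroup G).inv_mem ((S : Subgroup G).mul_mem h2.1 h1.1))) h3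
    exact mul_inv_eq_one.1 h4
  · rintro x hx
    apply Subtype.ext
    show (x : G) ^ 2 = 1
    have h1 : (x : G) ∈ V₀ := hx
    apply hinj _ ((S : Subgroup G).pow_mem h1.1 2)
    rw [map_pow]
    exact hV2 _ h1.2


theorem shape {P : Type*} [Group P] [Finite P] (hP : IsPGroup 2 P)
    (h : ∀ u v : P, u * u = 1 → v * v = 1 → u ≠ 1 → v ≠ 1 → u = v) :
    IsCyclic P ∨ ∃ n : ℕ, Nonempty (P ≃* QuaternionGroup (2 ^ n)) := by
  have : Fact (Nat.Prime 2) := ⟨Nat.prime_two⟩
  have huniq : ∀ H K : Subgroup P, Nat.card H = 2 → Nat.card K = 2 → H = K := by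
    have hgen : ∀ H : Subgroup P, Nat.card H = 2 → ∃ x : P, x * x = 1 ∧ x ≠ 1 ∧ zpowers x = H := by
      intro H hH
      obtain ⟨x, hx⟩ := exists_prime_orderOf_dvd_card' (G := H) 2 (by rw [hH])
      have hx' : orderOf (x : P) = 2 := by rw [Subgroup.orderOf_coe, hx]
      refine ⟨x, ?_, ?_, ?_⟩
      · rw [← pow_two, ← hx', pow_orderOf_eq_one]
      · intro h1; rw [h1, orderOf_one] at hx'; omega
      · exact Subgroup.eq_of_le_of_card_ge (by rw [Subgroup.zpowers_le]; exact x.2)
          (by rw [Nat.card_zpowers, hx', hH])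
    intro H K hH hK
    obtain ⟨x, hx1, hx2, rfl⟩ := hgen H hH
    obtain ⟨y, hy1, hy2, rfl⟩ := hgen K hK
    rw [h x y hx1 hy1 hx2 hy2]
  rcases MaxClass.cyclic_or_quaternion hP huniq with h1 | ⟨-, h1⟩
  · exact Or.inl h1
  · exact Or.inr h1

theorem ker_conjNormal {G : Type*} [Group G] (O : Subgroup G) [O.Normal] :
    (MulAut.conjNormal (H := O) : G →* MulAut O).ker = centralizer (O : Set G) := by
  ext g
  rw [MonoidHom.mem_ker, mem_centralizer_iff]
  constructor
  · intro h o ho
    have h1 : MulAut.conjNormal g (⟨o, ho⟩ : O) = ⟨o, ho⟩ := by rw [h]; rfl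
    have h2 := congrArg Subtype.val h1
    rw [MulAut.conjNormal_apply] at h2
    change g * o * g⁻¹ = o at h2
    calc o * g = (g * o * g⁻¹) * g := by rw [h2]
      _ = g * o := by group
  · intro h
    ext ⟨o, ho⟩
    rw [MulAut.conjNormal_apply]
    change g * o * g⁻¹ = o
    rw [← h o ho]; group

theorem q8_cent : ∀ x : QuaternionGroup 2, (∀ y, x * y = y * x) → x = 1 ∨ x = QuaternionGroup.a 2 := by
  decide

theorem q8_cent' : ∀ y : QuaternionGroup 2, QuaternionGroup.a 2 * y = y * QuaternionGroup.a 2 := by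
  decide

theorem q8_nc : ¬ ∀ x y : QuaternionGroup 2, x * y = y * x := by
  decide

theorem q8_inv : ∀ x : QuaternionGroup 2, x * x = 1 → x ≠ 1 → x = QuaternionGroup.a 2 := by
  decide

theorem main {K : Type*} [Group K] [Finite K] (hs : Group.IsSolvable K) (hO : Cfsg.oddCore K = ⊥)
    (hI : ∀ S T : Sylow 2 K, S ≠ T → Cfsg.PRankLE 2 1 ↥((S : Subgroup K) ⊓ (T : Subgroup K))) :
    (∃ P : Sylow 2 K, (P : Subgroup K).Normal) ∨
    Nonempty (K ≃* GL (Fin 2) (ZMod 3)) ∨
    (Nat.card K = 48 ∧ Nat.card ↥(Subgroup.center K) = 2 ∧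
      Nonempty (K ⧸ Subgroup.center K ≃* Equiv.Perm (Fin 4)) ∧
      ∀ P : Sylow 2 K, Nonempty (↥(P : Subgroup K) ≃* QuaternionGroup 4)) := by
  by_cases hn : ∃ P : Sylow 2 K, (P : Subgroup K).Normal
  · exact Or.inl hn
  right
  have : Fact (Nat.Prime 2) := ⟨Nat.prime_two⟩
  have hnot2 : ¬ IsPGroup 2 K := by
    intro h2
    obtain ⟨S⟩ : Nonempty (Sylow 2 K) := inferInstance
    apply hn
    refine ⟨S, ?_⟩
    have h3 : (⊤ : Subgroup K) = S := S.is_maximal' (h2.of_equiv Subgroup.topEquiv.symm) le_top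
    rw [← h3]
    infer_instance
  set R := Cfsg.pCore 2 K with hRdef
  have hRn : R.Normal := inferInstance
  have hCR : centralizer (R : Set K) ≤ R := H55.centralizer_twoCore_le hs hO
  have hR2 : IsPGroup 2 R := Solv.pCore_isPGroup 2
  -- odd elements centralise R: contradiction
  have hodd : ¬ ∀ g : K, Odd (orderOf g) → g ∈ centralizer (R : Set K) := by
    intro h
    apply hnot2
    apply H55.isPGroup_two_of_odd
    intro g hg
    obtain ⟨k, hk⟩ := hR2 ⟨g, hCR (h g hg)⟩
    have h3 : g ^ 2 ^ k = 1 := congrArg Subtype.val hk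
    have h4 : orderOf g ∣ 2 ^ k := orderOf_dvd_of_pow_eq_one h3
    have h5 : Nat.Coprime (2 ^ k) (orderOf g) := Nat.Coprime.pow_left _ (Nat.coprime_two_left.2 hg)
    exact orderOf_eq_one_iff.1 (Nat.eq_one_of_dvd_coprimes h5 h4 dvd_rfl)
  -- two distinct Sylow subgroups
  obtain ⟨S, T, hST⟩ : ∃ S T : Sylow 2 K, S ≠ T := by
    by_contra hcon
    push Not at hcon
    obtain ⟨S⟩ : Nonempty (Sylow 2 K) := inferInstance
    apply hn
    refine ⟨S, ?_⟩
    rw [← Subgroup.normalizer_eq_top_iff, eq_top_iff]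
    intro g _
    exact Sylow.smul_eq_iff_mem_normalizer.1 (hcon (g • S) S)
  have hRS : R ≤ (S : Subgroup K) ⊓ (T : Subgroup K) :=
    le_inf (Solv.pCore_le_sylow S) (Solv.pCore_le_sylow T)
  have hRuniq : ∀ u v : R, u * u = 1 → v * v = 1 → u ≠ 1 → v ≠ 1 → u = v := by
    intro u v hu hv hu1 hv1
    have h1 := S3153.unique_involution (hI S T hST) ⊤
      ((S.2.to_le inf_le_left).of_equiv Subgroup.topEquiv.symm)
      (Subgroup.inclusion hRS u) (Subgroup.inclusion hRS v) trivial trivial
      (by rw [← map_mul, hu, map_one]) (by rw [← map_mul, hv, map_one])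
      (fun h => hu1 ((Subgroup.inclusion_injective hRS) (by rw [h, map_one])))
      (fun h => hv1 ((Subgroup.inclusion_injective hRS) (by rw [h, map_one])))
    exact (Subgroup.inclusion_injective hRS) h1
  have hncyc : ¬ IsCyclic R := by
    intro hc
    exact hodd fun g hg => H55.odd_centralizes_cyclic R hc hR2 hg
  rcases shape hR2 hRuniq with hc | ⟨n, ⟨e⟩⟩
  · exact absurd hc hncyc
  rcases n with _ | _ | n
  · exfalso
    apply hncyc
    have : IsCyclic (QuaternionGroup (2 ^ 0)) := QuaternionGroup.quaternionGroup_one_isCyclic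
    exact isCyclic_of_injective e.toMonoidHom e.injective
  swap
  · exfalso
    apply hodd
    intro g hg
    have h1 : IsPGroup 2 (MulAut R) :=
      (S5112.isPGroup_mulAut_quaternion (n + 1 + 1) (by omega)).of_equiv (MulAut.congr e.symm)
    rw [← ker_conjNormal, MonoidHom.mem_ker]
    obtain ⟨k, hk⟩ := h1 (MulAut.conjNormal g)
    have h4 : orderOf (MulAut.conjNormal g : MulAut R) ∣ 2 ^ k := orderOf_dvd_of_pow_eq_one hk
    have h5 : orderOf (MulAut.conjNormal g : MulAut R) ∣ orderOf g := orderOf_map_dvd _ g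
    have h6 : Nat.Coprime (2 ^ k) (orderOf g) := Nat.Coprime.pow_left _ (Nat.coprime_two_left.2 hg)
    exact orderOf_eq_one_iff.1 (Nat.eq_one_of_dvd_coprimes h6 h4 h5)
  have e : R ≃* QuaternionGroup 2 := e
  have hRcard : Nat.card R = 8 := by
    rw [Nat.card_congr e.toEquiv, Nat.card_eq_fintype_card, QuaternionGroup.card]
  -- the centre
  set z : K := ((e.symm (QuaternionGroup.a 2) : R) : K) with hz
  have hz1 : z ≠ 1 := by
    intro h
    have h1 : e.symm (QuaternionGroup.a 2) = 1 := Subtype.ext h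
    rw [map_eq_one_iff _ e.symm.injective] at h1
    revert h1; decide
  have hzz : z * z = 1 := by
    have h1 : e.symm (QuaternionGroup.a 2) * e.symm (QuaternionGroup.a 2) = 1 := by
      rw [← map_mul, map_eq_one_iff _ e.symm.injective]
      decide
    exact congrArg Subtype.val h1
  have hzC : z ∈ centralizer (R : Set K) := by
    rw [mem_centralizer_iff]
    intro r hr
    have h1 : e.symm (QuaternionGroup.a 2) * ⟨r, hr⟩ = ⟨r, hr⟩ * e.symm (QuaternionGroup.a 2) := by
      apply e.injective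
      rw [map_mul, map_mul, MulEquiv.apply_symm_apply]
      exact q8_cent' _
    exact (congrArg Subtype.val h1).symm
  have hCz : ∀ c ∈ centralizer (R : Set K), c = 1 ∨ c = z := by
    intro c hc
    have h1 := q8_cent (e ⟨c, hCR hc⟩) (fun y => by
      rw [mem_centralizer_iff] at hc
      have h2 := hc (e.symm y : R) (e.symm y).2
      have h3 : (⟨c, hCR hc⟩ : R) * e.symm y = e.symm y * ⟨c, hCR hc⟩ := Subtype.ext h2.symm
      have h4 := congrArg e h3
      rwa [map_mul, map_mul, MulEquiv.apply_symm_apply] at h4)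
    rcases h1 with h1 | h1
    · left
      rw [map_eq_one_iff _ e.injective] at h1
      exact congrArg Subtype.val h1
    · right
      have h2 := congrArg e.symm h1
      rw [MulEquiv.symm_apply_apply] at h2
      exact congrArg Subtype.val h2
  have hCeq : centralizer (R : Set K) = zpowers z := by
    apply le_antisymm
    · intro c hc
      rcases hCz c hc with rfl | rfl
      · exact one_mem _
      · exact mem_zpowers z
    · rw [zpowers_le]; exact hzC
  have hCcard : Nat.card (centralizer (R : Set K)) = 2 := by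
    rw [hCeq, Nat.card_zpowers]
    exact orderOf_eq_prime (by rw [pow_two]; exact hzz) hz1
  have hidx : (centralizer (R : Set K)).index ∣ 24 := S2879.index_centralizer_dvd R ⟨e⟩
  have hmul := (centralizer (R : Set K)).card_mul_index
  rw [hCcard] at hmul
  have h8 : 8 ∣ Nat.card K := by rw [← hRcard]; exact Subgroup.card_subgroup_dvd_card R
  have hcard : Nat.card K = 48 := by
    set m := (centralizer (R : Set K)).index with hm
    have hm24 : m ≤ 24 := Nat.le_of_dvd (by norm_num) hidx
    have hm4 : 4 ∣ m := by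
      rw [← hmul] at h8
      obtain ⟨j, hj⟩ := h8
      exact ⟨j, by omega⟩
    have hcases : m = 4 ∨ m = 8 ∨ m = 12 ∨ m = 24 := by
      interval_cases m <;> omega
    rcases hcases with h | h | h | h
    · exfalso
      apply hnot2
      apply IsPGroup.of_card (n := 3)
      rw [← hmul, h]; norm_num
    · exfalso
      apply hnot2
      apply IsPGroup.of_card (n := 4)
      rw [← hmul, h]; norm_num
    · exfalso
      apply hn
      have h24 : Nat.card K = 24 := by rw [← hmul, h]
      have hf : (Nat.card K).factorization 2 = 3 := by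
        rw [h24, show (24 : ℕ) = 2 ^ 3 * 3 by norm_num, Nat.factorization_mul (by norm_num) (by norm_num),
          Nat.factorization_pow, Finsupp.add_apply, Finsupp.smul_apply,
          Nat.prime_two.factorization_self,
          Nat.factorization_eq_zero_of_not_dvd (show ¬ 2 ∣ 3 by norm_num)]
        norm_num
      refine ⟨Sylow.ofCard R (by rw [hRcard, hf]; norm_num), ?_⟩
      exact hRn
    · rw [← hmul, h]
  have hidx24 : (centralizer (R : Set K)).index = 24 := by omega
  -- the map to S4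
  let E : Equiv.Perm (Fin 4) ≃* MulAut (QuaternionGroup 2) := MulEquiv.ofBijective S3742.hom S3742.hom_bij
  let ψ : K →* Equiv.Perm (Fin 4) :=
    (E.symm.toMonoidHom.comp (MulAut.congr e).toMonoidHom).comp (MulAut.conjNormal (H := R))
  have hψF : ∀ (g : K) (q : QuaternionGroup 2), S3742.F (ψ g) q = e (MulAut.conjNormal g (e.symm q)) := by
    intro g q
    have h1 : E (ψ g) = MulAut.congr e (MulAut.conjNormal g) := E.apply_symm_apply _
    have h2 := DFunLike.congr_fun h1 q
    exact h2
  have hψker : ψ.ker = centralizer (R : Set K) := by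
    rw [← ker_conjNormal]
    ext g
    rw [MonoidHom.mem_ker, MonoidHom.mem_ker]
    show E.symm (MulAut.congr e (MulAut.conjNormal g)) = 1 ↔ _
    rw [map_eq_one_iff _ E.symm.injective, map_eq_one_iff _ (MulAut.congr e).injective]
  have hψsurj : Function.Surjective ψ := by
    rw [← MonoidHom.range_eq_top]
    apply Subgroup.eq_top_of_card_eq
    have h1 := Subgroup.index_ker ψ
    rw [hψker, hidx24] at h1
    rw [← h1, Nat.card_eq_fintype_card, Fintype.card_perm]
    rfl
  have hzcent : z ∈ Subgroup.center K := by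
    rw [Subgroup.mem_center_iff]
    intro g
    have h1 : g * z * g⁻¹ ∈ centralizer (R : Set K) := by
      have : (centralizer (R : Set K)).Normal := inferInstance
      exact this.conj_mem z hzC g
    rcases hCz _ h1 with h2 | h2
    · exfalso
      apply hz1
      rw [mul_inv_eq_one] at h2
      exact mul_eq_left.1 h2
    · rw [mul_inv_eq_iff_eq_mul] at h2
      exact h2
  have hcenter : Subgroup.center K = centralizer (R : Set K) := by
    apply le_antisymm
    · exact Subgroup.center_le_centralizer _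
    · rw [hCeq, zpowers_le]; exact hzcent
  by_cases ht : ∃ t : K, t ^ 2 = 1 ∧ t ∉ R
  · left
    obtain ⟨t, ht2, htR⟩ := ht
    have h1 : ψ t ^ 2 = 1 := by rw [← map_pow, ht2, map_one]
    rcases BinOct.invol (ψ t) h1 with ⟨x, hx⟩ | ⟨w₁, hw1, hw3, hwt⟩
    · exfalso
      apply htR
      have h2 : ((e.symm x : R) : K)⁻¹ * t ∈ centralizer (R : Set K) := by
        rw [← ker_conjNormal, MonoidHom.mem_ker, map_mul, map_inv, inv_mul_eq_one]
        ext r
        have h3 := hx (e r)
        rw [hψF, MulEquiv.symm_apply_apply] at h3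
        have h4 : MulAut.conjNormal t r = e.symm x * r * (e.symm x)⁻¹ := by
          apply e.injective
          rw [h3, map_mul, map_mul, map_inv, MulEquiv.apply_symm_apply]
        rw [h4, MulAut.conjNormal_apply]
        rfl
      have h5 := hCR h2
      have h6 := R.mul_mem (e.symm x).2 h5
      rwa [mul_inv_cancel_left] at h6
    · obtain ⟨w', hw'⟩ := hψsurj w₁
      have hw'3 : (w' ^ 3) ^ 2 = 1 := by
        have h2 : w' ^ 3 ∈ centralizer (R : Set K) := by
          rw [← hψker, MonoidHom.mem_ker, map_pow, hw', hw3]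
        rcases hCz _ h2 with h3 | h3
        · rw [h3, one_pow]
        · rw [h3, pow_two, hzz]
      set w : K := w' ^ 4 with hw
      have hψw : ψ w = w₁ := by
        rw [hw, map_pow, hw', pow_succ, hw3, one_mul]
      have hw3' : w ^ 3 = 1 := by
        rw [hw, ← pow_mul, show 4 * 3 = (3 * 2) * 2 by norm_num, pow_mul, pow_mul, hw'3, one_pow]
      have htwt : t * w * t⁻¹ = w⁻¹ := by
        have h2 : t * w * t⁻¹ * w ∈ centralizer (R : Set K) := by
          rw [← hψker, MonoidHom.mem_ker, map_mul, map_mul, map_mul, map_inv, hψw, hwt, inv_mul_cancel]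
        rcases hCz _ h2 with h3 | h3
        · exact eq_inv_of_mul_eq_one_left h3
        · exfalso
          have h4 : t * w * t⁻¹ = z * w⁻¹ := by rw [← h3]; group
          have h5 : (t * w * t⁻¹) ^ 3 = 1 := by rw [conj_pow, hw3']; group
          have hcz : Commute z w⁻¹ := by
            rw [Subgroup.mem_center_iff] at hzcent
            exact (hzcent w⁻¹).symm
          rw [h4, hcz.mul_pow, inv_pow, hw3', inv_one, mul_one, pow_succ, pow_two, hzz, one_mul] at h5
          exact hz1 h5
      obtain ⟨s, hs1, hs2⟩ := BinOct.conj_std w₁ hw1 hw3 (ψ t) h1 hwt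
      let e₂ : QuaternionGroup 2 →* K :=
        (R.subtype.comp e.symm.toMonoidHom).comp (S3742.toAut s⁻¹ : MulAut (QuaternionGroup 2)).toMonoidHom
      have he₂ : ∀ q, e₂ q = (e.symm (S3742.F s⁻¹ q) : R) := fun q => rfl
      have hconj : ∀ (g : K) (g₀ : Equiv.Perm (Fin 4)), s * ψ g * s⁻¹ = g₀ → ∀ q, g * e₂ q * g⁻¹ = e₂ (S3742.F g₀ q) := by
        intro g g₀ hg q
        rw [he₂, he₂, ← S3742.F_comp, ← hg]
        have h2 : s⁻¹ * (s * ψ g * s⁻¹) = ψ g * s⁻¹ := by group
        rw [h2, S3742.F_comp, hψF, MulEquiv.symm_apply_apply]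
        rfl
      have hdata : BinOct.Data e₂ w t :=
        { inj := by
            intro a b hab
            rw [he₂, he₂] at hab
            have h2 := e.symm.injective (Subtype.ext hab)
            exact (S3742.toAut s⁻¹ : MulAut (QuaternionGroup 2)).injective h2
          hw := hw3'
          ht := ht2
          hwt := htwt
          hwe := hconj w _ (by rw [hψw]; exact hs1)
          hte := hconj t _ hs2 }
      obtain ⟨f⟩ := hdata.equiv hcard
      obtain ⟨f'⟩ := BinOct.gl_equiv
      exact ⟨f.symm.trans f'⟩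
  · right
    push Not at ht
    refine ⟨hcard, by rw [hcenter, hCcard], ?_, ?_⟩
    · exact ⟨(QuotientGroup.quotientMulEquivOfEq (hcenter.trans hψker.symm)).trans
        (QuotientGroup.quotientKerEquivOfSurjective ψ hψsurj)⟩
    · intro P
      have hRP : R ≤ (P : Subgroup K) := Solv.pCore_le_sylow P
      have hPcard : Nat.card (P : Subgroup K) = 16 := by
        have h1 := P.card_eq_multiplicity
        rw [hcard, show (48 : ℕ) = 2 ^ 4 * 3 by norm_num, Nat.factorization_mul (by norm_num) (by norm_num),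
          Nat.factorization_pow, Finsupp.add_apply, Finsupp.smul_apply,
          Nat.prime_two.factorization_self,
          Nat.factorization_eq_zero_of_not_dvd (show ¬ 2 ∣ 3 by norm_num)] at h1
        rw [h1]; norm_num
      have hinv : ∀ u : K, u * u = 1 → u ≠ 1 → u = z := by
        intro u hu hu1
        have huR : u ∈ R := ht u (by rw [pow_two]; exact hu)
        have h2 := q8_inv (e ⟨u, huR⟩) (by
          rw [← map_mul, map_eq_one_iff _ e.injective]
          exact Subtype.ext hu) (by
          intro h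
          rw [map_eq_one_iff _ e.injective] at h
          exact hu1 (congrArg Subtype.val h))
        have h3 := congrArg e.symm h2
        rw [MulEquiv.symm_apply_apply] at h3
        exact congrArg Subtype.val h3
      rcases shape P.2 (fun u v hu hv hu1 hv1 => by
        have h1 := hinv (u : K) (congrArg Subtype.val hu) (fun h => hu1 (Subtype.ext h))
        have h2 := hinv (v : K) (congrArg Subtype.val hv) (fun h => hv1 (Subtype.ext h))
        exact Subtype.ext (h1.trans h2.symm)) with hc | ⟨n, ⟨f⟩⟩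
      · exfalso
        apply hncyc
        exact isCyclic_of_injective (Subgroup.inclusion hRP) (Subgroup.inclusion_injective _)
      · have h1 := Nat.card_congr f.toEquiv
        have hne : NeZero (2 ^ n) := ⟨by positivity⟩
        rw [hPcard, Nat.card_eq_fintype_card, QuaternionGroup.card] at h1
        have h2 : 2 ^ n = 2 ^ 2 := by omega
        have h3 : n = 2 := Nat.pow_right_injective le_rfl h2
        subst h3
        exact ⟨f⟩

end Cfsg.Agent.H94.SolvRkOne
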