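import Mathlib
import Cfsg.Agent.H94.T34d

set_option autoImplicit false
set_option linter.unusedSectionVars false
set_option linter.unusedVariables false

/-!
Central Siegel elements with skew coefficients.
-/

namespace Cfsg.Agent.H94.T34

open Module Cfsg.Geo Cfsg.Agent.Asch Matrix Cfsg.Agent.TenMax
open scoped Matrix MatrixGroups Kronecker

variable {F : Type*} [Field F] {T : TData (RingEquiv.refl F) (Fin 3) (Fin 4)} {K : Subgroup (GL (Fin 3 × Fin 4) F)}

/-- Siegel elements of the first factor -/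
def LeftS (T : TData (RingEquiv.refl F) (Fin 3) (Fin 4)) (K : Subgroup (GL (Fin 3 × Fin 4) F)) : Prop :=
  ∀ u x : Fin 3 → F, T.X.f u u = 0 → T.X.f x u = 0 → ∃ G, Has K G ∧ ∀ y, G ∘ₗ tR y = tR y ∘ₗ EL T.X u x

section LZ

variable {b : Fin 4 → F}

theorem lz_add (hb : T.W.f b b = 0) {η η' : Module.End F (Fin 3 → F)} (h : Has K (T.sg b 0 η)) (h' : Has K (T.sg b 0 η')) :
    Has K (T.sg b 0 (η + η')) := by
  have := h.mul h'
  rwa [TData.sg_zero_mul hb (O_zero _)] at this

theorem lz_neg (hb : T.W.f b b = 0) {η : Module.End F (Fin 3 → F)} (h : Has K (T.sg b 0 η)) : Has K (T.sg b 0 (-η)) := by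
  apply h.inv
  rw [TData.sg_zero_mul hb (O_zero _), add_neg_cancel, TData.sg_zero]

theorem lz_sub (hb : T.W.f b b = 0) {η η' : Module.End F (Fin 3 → F)} (h : Has K (T.sg b 0 η)) (h' : Has K (T.sg b 0 η')) :
    Has K (T.sg b 0 (η - η')) := by
  rw [sub_eq_add_neg]; exact lz_add hb h (lz_neg hb h')

theorem lz_conj (hK : TGrp T K) {G : Module.End F (Fin 3 × Fin 4 → F)} (hG : Has K G) {g : Module.End F (Fin 3 → F)}
    (hg : ∀ y, G ∘ₗ tR y = tR y ∘ₗ g) {η : Module.End F (Fin 3 → F)} (h : Has K (T.sg b 0 η)) :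
    Has K (T.sg b 0 (g * η * T.st g)) := by
  have := hK.has_conj_sg hG (hg b) h
  rwa [LinearMap.comp_zero, LinearMap.zero_comp] at this

theorem wd_conj (g : Module.End F (Fin 3 → F)) (x y : Fin 3 → F) : g * wd T.X x y * T.st g = wd T.X (g x) (g y) := by
  have h : ∀ x y, g * T.X.ro x y * T.st g = T.X.ro (g x) (g y) := by
    intro x y
    rw [T.X.mul_ro, T.X.ro_mul]
    congr 1
    exact LinearMap.congr_fun (T.st_st g) y
  unfold wd
  rw [mul_sub, sub_mul, h, h]

/-- skew maps: all wedges -/
theorem lz_all [Finite F] (h2 : (2 : F) ≠ 0) (heX : T.X.e = 1) (hK : TGrp T K) (hL : LeftS T K) (hb : T.W.f b b = 0)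
    {η : Module.End F (Fin 3 → F)} (hη0 : η ≠ 0) (hη : T.st η = -η) (h : Has K (T.sg b 0 η)) (x y : Fin 3 → F) :
    Has K (T.sg b 0 (wd T.X x y)) := by
  have s := fun u v => SF.symm1 (X := T.X) heX u v
  have h3 : Fintype.card (Fin 3) = 3 := Fintype.card_fin 3
  have hsk : ∀ x y, T.X.f (η x) y = - T.X.f x (η y) := fun x y => by
    have h1 : T.X.f (T.st η x) y = T.X.f x (η y) := T.X.star_spec' η x y
    rw [hη] at h1
    rw [← h1, LinearMap.neg_apply, f_neg_left, neg_neg]
  have hself : ∀ x, T.X.f (η x) x = 0 := fun x => by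
    have h1 := hsk x x
    rw [s x (η x)] at h1
    have : 2 * T.X.f (η x) x = 0 := by linear_combination h1
    exact (mul_eq_zero.1 this).resolve_left h2
  -- a frame with nonzero coefficient
  obtain ⟨a, a', c, hf, hr⟩ : ∃ a a' c, Fr3 T.X a a' c ∧ T.X.f (η a) c ≠ 0 := by
    by_contra hcon
    push Not at hcon
    obtain ⟨a, a', c, hf⟩ := exists_fr3 (X := T.X) heX h2 h3
    have k1 := hcon a a' c hf
    have k2 := hcon a' a c (hf.swap heX h3)
    have k3 := hcon _ _ _ (hf.third heX h2 h3 1)
    set k := T.X.f (η a) a' with hk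
    have ea : η a = k • a := by
      rw [hf.exp (η a), hself, k1, ← hk]; simp
    have ea' : η a' = (-k) • a' := by
      rw [hf.exp (η a'), hself, k2, hsk a' a, s a' (η a), ← hk]; simp
    have ec : η c = 0 := by
      rw [hf.exp (η c), hself, hsk c a', hsk c a, s c (η a'), s c (η a), k1, k2]; simp
    have hk0 : k = 0 := by
      rw [map_sub, map_add, map_smul, map_smul, ea, ea', ec] at k3
      simp only [one_mul, one_smul, smul_zero, add_zero, f_sub_left, T.X.sub_right, T.X.sesq.smul_left, SF.smul_r,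
        s a c, hf.ca, hf.h, s a' c, hf.ca', hf.aa'] at k3
      have : k * T.X.f c c = 0 := by linear_combination -k3
      exact (mul_eq_zero.1 this).resolve_right hf.cc
    apply hη0
    apply LinearMap.ext
    intro y
    rw [hf.exp y]
    simp only [map_add, map_smul, ea, ea', ec, hk0, neg_zero, zero_smul, smul_zero, add_zero, LinearMap.zero_apply]
  set n := T.X.f c c with hn
  set r := T.X.f (η a) c with hrd
  have hac : T.X.f a c = 0 := T.X.zero_symm hf.ca
  have ha'c : T.X.f a' c = 0 := T.X.zero_symm hf.ca'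
  have ha'a : T.X.f a' a = 1 := by rw [s]; exact hf.h
  set k := T.X.f (η a) a' with hk
  have ea : η a = k • a + (r / n) • c := by
    conv_lhs => rw [hf.exp (η a), hself, ← hrd, ← hk]
    simp
    rfl
  -- the coefficients
  have hC : T.X.ro a a * η * T.X.ro a a = 0 := by
    apply LinearMap.ext; intro v
    show T.X.f (η (T.X.f v a • a)) a • a = 0
    rw [map_smul, T.X.sesq.smul_left, hself]; simp
  have hB : -(n / 2) • (T.X.ro a a * η + η * T.X.ro a a) - wd T.X a c * η * wd T.X a c = (-(r / 2)) • wd T.X a c := by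
    apply LinearMap.ext; intro v
    show -(n / 2) • (T.X.f (η v) a • a + η (T.X.f v a • a)) - wd T.X a c (η (wd T.X a c v)) = (-(r / 2)) • wd T.X a c v
    have e1 : T.X.f (η v) a = -(k * T.X.f v a + r / n * T.X.f v c) := by
      rw [hsk, ea, T.X.sesq.add_right, SF.smul_r, SF.smul_r]
    have e2 : T.X.f (η c) a = -r := by rw [hsk, s c (η a)]
    have e3 : T.X.f (η c) c = 0 := hself c
    simp only [wd_apply, map_sub, map_smul, f_sub_left, T.X.sesq.smul_left, e1, e2, e3, hself, ← hrd]
    rw [ea]
    have hn0 := hf.cc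
    rw [← hn] at hn0
    funext i
    simp only [Pi.add_apply, Pi.sub_apply, Pi.smul_apply, smul_eq_mul]
    field_simp
    ring
  have hev : ∀ t : F, Has K (T.sg b 0 ((t * t * (-r)) • wd T.X a c)) := by
    intro t
    obtain ⟨G, hG, hGy⟩ := hL a (t • c) hf.aa (by rw [T.X.sesq.smul_left, hf.ca, mul_zero])
    obtain ⟨G', hG', hG'y⟩ := hL a (-(t • c)) hf.aa (by rw [f_neg_left, T.X.sesq.smul_left, hf.ca, mul_zero, neg_zero])
    have m1 := lz_conj hK hG hGy h
    have m2 := lz_conj hK hG' hG'y h
    have e1 : T.st (EL T.X a (t • c)) = EL T.X a (-(t • c)) := dag_EL heX h2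
    have e2 : T.st (EL T.X a (-(t • c))) = EL T.X a (t • c) := by
      have := dag_EL (X := T.X) heX h2 (a := a) (c := -(t • c))
      rw [neg_neg] at this
      exact this
    rw [e1] at m1
    rw [e2] at m2
    have m3 := lz_sub hb (lz_sub hb (lz_add hb m1 m2) h) h
    rw [even_conj, hC, ← hn, hB] at m3
    convert m3 using 2
    rw [smul_zero, smul_zero, add_zero, smul_smul, two_smul]
    have : t * t * -r = 2 * (t * t) * -(r / 2) := by field_simp
    rw [this]; abel
  have hall : ∀ κ : F, Has K (T.sg b 0 (κ • wd T.X a c)) := by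
    intro κ
    obtain ⟨t, t', ht⟩ := Cfsg.Agent.H94.SmallOrt.sum_two_squares h2 (κ / (-r))
    have := lz_add hb (hev t) (hev t')
    rw [← add_smul] at this
    convert this using 3
    have hr' : -r ≠ 0 := neg_ne_zero.2 hr
    rw [← add_mul, ht]
    field_simp
  -- conjugation by the opposite Siegel elements
  have hconj : ∀ t κ : F, Has K (T.sg b 0 (κ • (wd T.X a c + (t * n) • wd T.X a a' + (t * t * (n / 2)) • wd T.X a' c))) := by
    intro t κ
    obtain ⟨G, hG, hGy⟩ := hL a' (t • c) hf.aa' (by rw [T.X.sesq.smul_left, hf.ca', mul_zero])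
    have m1 := lz_conj hK hG hGy (hall κ)
    rw [mul_smul_comm, smul_mul_assoc, wd_conj] at m1
    convert m1 using 3
    have e1 : EL T.X a' (t • c) a = a - t • c - (t * t * (n / 2)) • a' := by
      show E T.X a' (t • c) a = _
      simp only [E, SF.smul_r, T.X.sesq.smul_left, hac, hf.h, ← hn]
      module
    have e2 : EL T.X a' (t • c) c = c + (t * n) • a' := by
      show E T.X a' (t • c) c = _
      simp only [E, SF.smul_r, T.X.sesq.smul_left, hf.ca', ← hn]
      module
    rw [e1, e2]
    have e3 : a - t • c - (t * t * (n / 2)) • a' = a + (-t) • c + (-(t * t * (n / 2))) • a' := by module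
    rw [e3]
    simp only [wd_add_left, wd_add_right, wd_smul_left, wd_smul_right, wd_self, wd_swap a' c]
    have e5 : n = n / 2 + n / 2 := by field_simp; ring
    simp only [smul_zero, add_zero, smul_neg, smul_smul]
    match_scalars <;> first | ring1 | linear_combination (-(t * t)) * e5 | linear_combination ((t * t)) * e5 |
      linear_combination (-(κ * t * t)) * e5 | linear_combination ((κ * t * t)) * e5
  have hP : ∀ κ : F, Has K (T.sg b 0 (κ • wd T.X a a')) := by
    intro κ
    have m1 := lz_sub hb (hconj 1 (κ / (2 * n))) (hconj (-1) (κ / (2 * n)))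
    convert m1 using 2
    have hn0 := hf.cc
    rw [← hn] at hn0
    have : κ = κ / (2 * n) * n + κ / (2 * n) * n := by field_simp; ring
    nth_rewrite 1 [this]
    module
  have hQ : ∀ κ : F, Has K (T.sg b 0 (κ • wd T.X a' c)) := by
    intro κ
    have m1 := lz_sub hb (lz_sub hb (lz_add hb (hconj 1 (κ / n)) (hconj (-1) (κ / n))) (hall (κ / n))) (hall (κ / n))
    convert m1 using 2
    have hn0 := hf.cc
    rw [← hn] at hn0
    have : κ = κ / n * (n / 2) + κ / n * (n / 2) := by field_simp; ring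
    nth_rewrite 1 [this]
    module
  have m := lz_add hb (lz_add hb (hP (T.X.f x a' * T.X.f y a - T.X.f x a * T.X.f y a'))
    (hall (T.X.f x a' * (T.X.f y c / n) - (T.X.f x c / n) * T.X.f y a'))) (hQ (T.X.f x a * (T.X.f y c / n) - (T.X.f x c / n) * T.X.f y a))
  convert m using 2
  conv_lhs => rw [hf.exp x, hf.exp y]
  simp only [wd_add_left, wd_add_right, wd_smul_left, wd_smul_right, wd_self, wd_swap a c, wd_swap a a', wd_swap a' c, ← hn]
  module

end LZ

end Cfsg.Agent.H94.T34
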