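import Cfsg.Agent.FStar.AxB
import Cfsg.Agent.H47.Cop
import Cfsg.Agent.H80.Index2
import Cfsg.Prelude.Def_EvenType

/-!
The Thompson–Wielandt theorem in Knapp's form.
-/
set_option autoImplicit false

namespace Cfsg.Agent.H94

open Cfsg Subgroup
open Cfsg.Agent.H47 (pRes pRes_eq_closure pRes_le le_normalizer_pRes normalizer_le_normalizer_pRes)
open scoped commutatorElement

section core
variable {G : Type*} [Group G]

/-- the core of `Y` in `M`, inside the ambient group -/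
def coreIn (M Y : Subgroup G) : Subgroup G := (Y.subgroupOf M).normalCore.map M.subtype

theorem coreIn_le_left (M Y : Subgroup G) : coreIn M Y ≤ M := by
  rintro _ ⟨x, _, rfl⟩; exact x.2

theorem coreIn_le_right (M Y : Subgroup G) : coreIn M Y ≤ Y := by
  rintro _ ⟨x, hx, rfl⟩
  exact (Y.subgroupOf M).normalCore_le hx

theorem mem_coreIn {M Y : Subgroup G} {x : G} : x ∈ coreIn M Y ↔ x ∈ M ∧ ∀ m ∈ M, m * x * m⁻¹ ∈ Y := by
  constructor
  · rintro ⟨y, hy, rfl⟩
    exact ⟨y.2, fun m hm => hy ⟨m, hm⟩⟩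
  · rintro ⟨hx, h⟩
    exact ⟨⟨x, hx⟩, fun b => h b b.2, rfl⟩

theorem le_coreIn {M Y X : Subgroup G} (h1 : X ≤ M) (h2 : X ≤ Y) (h3 : M ≤ normalizer (X : Set G)) : X ≤ coreIn M Y := by
  intro x hx
  rw [mem_coreIn]
  exact ⟨h1 hx, fun m hm => h2 ((mem_normalizer_iff.mp (h3 hm) x).mp hx)⟩

theorem le_normalizer_coreIn (M Y : Subgroup G) : M ≤ normalizer (coreIn M Y : Set G) := by
  have key : ∀ m ∈ M, ∀ x ∈ coreIn M Y, m * x * m⁻¹ ∈ coreIn M Y := by
    intro m hm x hx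
    rw [mem_coreIn] at hx ⊢
    refine ⟨mul_mem (mul_mem hm hx.1) (inv_mem hm), fun n hn => ?_⟩
    have := hx.2 (n * m) (mul_mem hn hm)
    convert this using 1; group
  intro m hm
  rw [mem_normalizer_iff]
  intro x
  refine ⟨key m hm x, fun h => ?_⟩
  have := key m⁻¹ (inv_mem hm) _ h
  convert this using 1; group

/-- transitivity of subnormality inside a big group -/
theorem subn_trans {X Y H : Subgroup G} (hXY : X ≤ Y) (hYH : Y ≤ H) (h1 : (X.subgroupOf Y).IsSubnormal)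
    (h2 : (Y.subgroupOf H).IsSubnormal) : (X.subgroupOf H).IsSubnormal := by
  have h3 : ((X.subgroupOf H).subgroupOf (Y.subgroupOf H)).IsSubnormal := by
    have h4 := h1.comap (subgroupOfEquivOfLe hYH).toMonoidHom
    have h5 : (X.subgroupOf Y).comap (subgroupOfEquivOfLe hYH).toMonoidHom = (X.subgroupOf H).subgroupOf (Y.subgroupOf H) := by
      ext x
      simp only [mem_comap, mem_subgroupOf]
      rfl
    rwa [h5] at h4
  exact IsSubnormal.trans (fun x hx => hXY hx) h3 h2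

theorem subn_of_le_normalizer {X H : Subgroup G} (hXH : X ≤ H) (h : H ≤ normalizer (X : Set G)) :
    (X.subgroupOf H).IsSubnormal :=
  Normal.isSubnormal ((normal_subgroupOf_iff_le_normalizer hXH).mpr h)

/-- restricting subnormality -/
theorem subn_restrict {X D H : Subgroup G} (hDH : D ≤ H) (h : (X.subgroupOf H).IsSubnormal) :
    (X.subgroupOf D).IsSubnormal := by
  have h1 := h.comap (inclusion hDH)
  have h2 : (X.subgroupOf H).comap (inclusion hDH) = X.subgroupOf D := by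
    ext x; rfl
  rwa [h2] at h1

/-- conjugates by elements of `H` -/
theorem subn_conj {X H : Subgroup G} (h : (X.subgroupOf H).IsSubnormal) {m : G} (hm : m ∈ H) :
    ((X.map (MulAut.conj m).toMonoidHom).subgroupOf H).IsSubnormal := by
  have h1 := h.comap (MulAut.conj (⟨m, hm⟩⁻¹ : H)).toMonoidHom
  have h2 : (X.subgroupOf H).comap (MulAut.conj (⟨m, hm⟩⁻¹ : H)).toMonoidHom = (X.map (MulAut.conj m).toMonoidHom).subgroupOf H := by
    ext x
    simp only [mem_comap, mem_subgroupOf, mem_map]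
    constructor
    · intro hx
      refine ⟨_, hx, ?_⟩
      simp only [MulEquiv.coe_toMonoidHom, MulAut.conj_apply, Subgroup.coe_mul, Subgroup.coe_inv]
      group
    · rintro ⟨y, hy, hyx⟩
      simp only [MulEquiv.coe_toMonoidHom, MulAut.conj_apply] at hyx
      simp only [MulEquiv.coe_toMonoidHom, MulAut.conj_apply, Subgroup.coe_mul, Subgroup.coe_inv, inv_inv]
      rw [← hyx]
      have : m⁻¹ * (m * y * m⁻¹) * m = y := by group
      rw [this]; exact hy
  rwa [h2] at h1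

theorem pRes_subgroupOf {p : ℕ} {X H : Subgroup G} (h : X ≤ H) : (pRes p (X.subgroupOf H)).map H.subtype = pRes p X := by
  rw [pRes_eq_closure, pRes_eq_closure, MonoidHom.map_closure]
  congr 1
  ext x
  constructor
  · rintro ⟨y, ⟨hy1, hy2⟩, rfl⟩
    exact ⟨hy1, by simpa using hy2⟩
  · rintro ⟨hx1, hx2⟩
    refine ⟨⟨x, h hx1⟩, ⟨hx1, ?_⟩, rfl⟩
    rwa [← Subgroup.orderOf_coe]

theorem mem_norm_map {H : Subgroup G} {K : Subgroup H} {x : H} (hx : x ∈ normalizer (K : Set H)) :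
    (x : G) ∈ normalizer ((K.map H.subtype : Subgroup G) : Set G) := by
  have key : ∀ x : H, x ∈ normalizer (K : Set H) → ∀ y ∈ K.map H.subtype, (x : G) * y * (x : G)⁻¹ ∈ K.map H.subtype := by
    rintro x hx _ ⟨y, hy, rfl⟩
    exact ⟨x * y * x⁻¹, (mem_normalizer_iff.mp hx y).mp hy, by simp⟩
  rw [mem_normalizer_iff]
  intro y
  refine ⟨key x hx y, fun h => ?_⟩
  have := key x⁻¹ (inv_mem hx) _ h
  convert this using 1
  simp only [Subgroup.coe_inv]; group

variable [Finite G]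

/-- `O_p(H)` normalizes `O^p(X)` for `X` subnormal in `H`. -/
theorem pCoreOf_le_norm {p : ℕ} [Fact p.Prime] {X H : Subgroup G} (h : X ≤ H) (hs : (X.subgroupOf H).IsSubnormal) :
    pCoreOf p H ≤ normalizer (pRes p X : Set G) := by
  rintro _ ⟨x, hx, rfl⟩
  have h1 := Cfsg.Agent.H47.pCore_le_normalizer_pRes (p := p) hs hx
  have h2 := mem_norm_map h1
  rwa [pRes_subgroupOf h] at h2

/-- a component of `H` normalizes every subnormal subgroup of `H` -/
theorem comp_le_norm {K X H : Subgroup G} (hK : IsComponentOf K H) (h : X ≤ H) (hs : (X.subgroupOf H).IsSubnormal) :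
    K ≤ normalizer (X : Set G) := by
  rcases FStar.component_le_or_commute hK.2 hs with h1 | h1
  · have h2 : K ≤ X := by
      intro k hk
      exact h1 (show (⟨k, hK.1 hk⟩ : H) ∈ K.subgroupOf H from hk)
    exact h2.trans le_normalizer
  · rw [FStar.subgroupOf_commutator_eq_bot_iff hK.1 h, FStar.commutator_eq_bot_iff_forall] at h1
    intro k hk
    rw [mem_normalizer_iff]
    intro x
    constructor
    · intro hx
      rw [h1 k hk x hx]; simpa using hx
    · intro hx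
      have h2 := h1 k hk _ hx
      have h3 : k * x * k⁻¹ = x := by
        have : k * (k * x * k⁻¹) = k * (x) := by rw [h2]; group
        exact mul_left_cancel this
      rwa [h3] at hx

theorem comp_transport {K Y H : Subgroup G} (hKY : K ≤ Y) (hYH : Y ≤ H) :
    IsComponent ((K.subgroupOf H).subgroupOf (Y.subgroupOf H)) ↔ IsComponent (K.subgroupOf Y) := by
  have e : ((K.subgroupOf H).subgroupOf (Y.subgroupOf H)).map (subgroupOfEquivOfLe hYH).toMonoidHom = K.subgroupOf Y := by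
    ext x
    simp only [mem_map, mem_subgroupOf]
    constructor
    · rintro ⟨y, hy, rfl⟩; exact hy
    · intro hx
      exact ⟨⟨⟨x, hYH x.2⟩, x.2⟩, hx, rfl⟩
  rw [← e]
  exact (FStar.isComponent_map_equiv (subgroupOfEquivOfLe hYH)).symm

theorem comp_down {K Y H : Subgroup G} (hK : IsComponentOf K H) (hKY : K ≤ Y) (hYH : Y ≤ H) : IsComponentOf K Y := by
  refine ⟨hKY, ?_⟩
  rw [← comp_transport hKY hYH]
  exact FStar.isComponent_subgroupOf hK.2 (fun x hx => hKY hx)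

theorem comp_up {K Y H : Subgroup G} (hK : IsComponentOf K Y) (hYH : Y ≤ H) (hs : (Y.subgroupOf H).IsSubnormal) :
    IsComponentOf K H := by
  refine ⟨hK.1.trans hYH, ?_⟩
  have h1 := (comp_transport hK.1 hYH).mpr hK.2
  exact FStar.isComponent_of_subgroupOf hs (fun x hx => hK.1 hx) h1

theorem layer_map_le {H K : Subgroup G} (h : ∀ L, IsComponentOf L H → IsComponentOf L K) :
    (layer H).map H.subtype ≤ (layer K).map K.subtype := by
  rw [map_le_iff_le_comap, FStar.layer_le_iff]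
  intro L hL
  rw [← map_le_iff_le_comap]
  have h1 : IsComponentOf (L.map H.subtype) H := by
    refine ⟨map_subtype_le L, ?_⟩
    rw [subgroupOf, comap_map_eq_self_of_injective H.subtype_injective]
    exact hL
  have h2 := h _ h1
  rw [← map_subgroupOf_eq_of_le h2.1]
  exact map_mono (FStar.component_le_layer h2.2)

end core

/-- two distinct "conjugate core-free maximal subgroups", axiomatised -/
structure TW {G : Type*} [Group G] (M1 M2 : Subgroup G) : Prop where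
  n1 : ∀ X : Subgroup G, X ≤ M1 → M1 ≤ normalizer (X : Set G) → X ≠ ⊥ → normalizer (X : Set G) ≤ M1
  n2 : ∀ X : Subgroup G, X ≤ M2 → M2 ≤ normalizer (X : Set G) → X ≠ ⊥ → normalizer (X : Set G) ≤ M2
  ne : M1 ≠ M2
  card : ∀ p : ℕ, Nat.card (pCoreOf p M1) = Nat.card (pCoreOf p M2)

namespace TW
variable {G : Type*} [Group G] {M1 M2 : Subgroup G}

theorem symm (h : TW M1 M2) : TW M2 M1 := ⟨h.n2, h.n1, h.ne.symm, fun p => (h.card p).symm⟩

theorem eq_bot (h : TW M1 M2) {X : Subgroup G} (h1 : X ≤ M1) (h2 : X ≤ M2) (h3 : M1 ≤ normalizer (X : Set G))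
    (h4 : M2 ≤ normalizer (X : Set G)) : X = ⊥ := by
  by_contra hne
  exact h.ne (le_antisymm (h3.trans (h.n2 X h2 h4 hne)) (h4.trans (h.n1 X h1 h3 hne)))

variable [Finite G]

theorem conj_le_core {X B : Subgroup G} {m : G} (hXB : X ≤ B) (hm : m ∈ normalizer (B : Set G)) :
    X.map (MulAut.conj m).toMonoidHom ≤ B := by
  rintro _ ⟨x, hx, rfl⟩
  exact (mem_normalizer_iff.mp hm x).mp (hXB hx)

theorem norm_conj {X : Subgroup G} {m x : G} (h : x ∈ normalizer ((X.map (MulAut.conj m).toMonoidHom : Subgroup G) : Set G)) :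
    m⁻¹ * x * m ∈ normalizer (X : Set G) := by
  have key : ∀ x : G, x ∈ normalizer ((X.map (MulAut.conj m).toMonoidHom : Subgroup G) : Set G) → ∀ y ∈ X, (m⁻¹ * x * m) * y * (m⁻¹ * x * m)⁻¹ ∈ X := by
    intro x hx y hy
    have h1 := (mem_normalizer_iff.mp hx (m * y * m⁻¹)).mp ⟨y, hy, rfl⟩
    obtain ⟨w, hw, hw'⟩ := h1
    have hw2 : m * w * m⁻¹ = x * (m * y * m⁻¹) * x⁻¹ := hw'
    have : (m⁻¹ * x * m) * y * (m⁻¹ * x * m)⁻¹ = w := by
      calc (m⁻¹ * x * m) * y * (m⁻¹ * x * m)⁻¹ = m⁻¹ * (x * (m * y * m⁻¹) * x⁻¹) * m := by group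
        _ = w := by rw [← hw2]; group
    rw [this]; exact hw
  rw [mem_normalizer_iff]
  intro y
  refine ⟨key x h y, fun hy => ?_⟩
  have h2 := key x⁻¹ (inv_mem h) _ hy
  convert h2 using 1; group

theorem finish (h : TW M1 M2) (p : ℕ) [Fact p.Prime] (hP2D : pCoreOf p M2 ≤ pCoreOf p (M1 ⊓ M2))
    (hPD2 : pCoreOf p (M1 ⊓ M2) ≤ pCoreOf p M2) : pCoreOf p M1 = ⊥ ∧ pCoreOf p M2 = ⊥ := by
  by_cases hb : pCoreOf p M2 = ⊥
  · refine ⟨?_, hb⟩
    have h1 := h.card p
    rw [hb] at h1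
    exact Subgroup.eq_bot_of_card_eq _ (by rw [h1]; simp)
  exfalso
  have hN2 := h.n2 _ (Cfsg.Agent.H47.pCoreOf_le p M2) (Cfsg.Agent.H47.le_normalizer_pCoreOf p M2) hb
  have hQ2M1 : pCoreOf p M2 ≤ M1 := hP2D.trans ((Cfsg.Agent.H47.pCoreOf_le p _).trans inf_le_left)
  have hQ1n : pCoreOf p M2 ≤ normalizer (pCoreOf p M1 : Set G) := hQ2M1.trans (Cfsg.Agent.H47.le_normalizer_pCoreOf p M1)
  have hsup : IsPGroup p ↥(pCoreOf p M2 ⊔ pCoreOf p M1) :=
    IsPGroup.to_sup_of_normal_right' (Cfsg.Agent.H47.pCoreOf_isPGroup p M2) (Cfsg.Agent.H47.pCoreOf_isPGroup p M1) hQ1n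
  have hinter : pCoreOf p M1 ⊓ M2 ≤ pCoreOf p M2 := by
    refine le_trans ?_ hPD2
    apply Cfsg.Agent.H47.le_pCoreOf (le_inf (inf_le_left.trans (Cfsg.Agent.H47.pCoreOf_le p M1)) inf_le_right) _ ((Cfsg.Agent.H47.pCoreOf_isPGroup p M1).to_le inf_le_left)
    intro x hx
    have h1 := Cfsg.Agent.H47.le_normalizer_pCoreOf p M1 hx.1
    rw [mem_normalizer_iff]
    intro y
    constructor
    · rintro ⟨hy1, hy2⟩
      exact ⟨(mem_normalizer_iff.mp h1 y).mp hy1, M2.mul_mem (M2.mul_mem hx.2 hy2) (M2.inv_mem hx.2)⟩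
    · rintro ⟨hy1, hy2⟩
      refine ⟨(mem_normalizer_iff.mp h1 y).mpr hy1, ?_⟩
      have : y = x⁻¹ * (x * y * x⁻¹) * x := by group
      rw [this]; exact M2.mul_mem (M2.mul_mem (M2.inv_mem hx.2) hy2) hx.2
  have hle : pCoreOf p M1 ≤ pCoreOf p M2 := by
    by_contra hnle
    have hlt : pCoreOf p M2 < pCoreOf p M2 ⊔ pCoreOf p M1 :=
      lt_of_le_of_ne le_sup_left (fun he => hnle (by rw [he]; exact le_sup_right))
    obtain ⟨x, hx, hx2, hxn⟩ := Cfsg.Agent.H80.exists_mem_normalizer_of_lt hsup hlt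
    obtain ⟨a, ha, b, hb', hab⟩ := FStar.mem_sup_of_le_normalizer hQ1n hx
    have hxM2 : x ∈ M2 := hN2 hxn
    have haM2 : a ∈ M2 := Cfsg.Agent.H47.pCoreOf_le p M2 ha
    have hbM2 : b ∈ M2 := by
      have : b = a⁻¹ * x := by rw [← hab]; group
      rw [this]; exact mul_mem (inv_mem haM2) hxM2
    apply hx2
    rw [← hab]
    exact mul_mem ha (hinter ⟨hb', hbM2⟩)
  have heq : pCoreOf p M1 = pCoreOf p M2 := Subgroup.eq_of_le_of_card_ge hle (h.card p).ge
  apply hb
  apply h.eq_bot hQ2M1 (Cfsg.Agent.H47.pCoreOf_le p M2) _ (Cfsg.Agent.H47.le_normalizer_pCoreOf p M2)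
  rw [← heq]
  exact Cfsg.Agent.H47.le_normalizer_pCoreOf p M1


/-- **Key lemma.** If `X ⊴ M1` lies in the core `B` of `M1 ∩ M2` in `M2`, is subnormal in `M2` and is not a `p`-group, then
`O_p(M1) = O_p(M2) = 1`. -/
theorem keyP (h : TW M1 M2) (p : ℕ) [Fact p.Prime] {X : Subgroup G} (hXB : X ≤ coreIn M2 (M1 ⊓ M2))
    (hXn : M1 ≤ normalizer (X : Set G)) (hs : (X.subgroupOf M2).IsSubnormal) (hne : pRes p X ≠ ⊥) :
    pCoreOf p M1 = ⊥ ∧ pCoreOf p M2 = ⊥ := by
  set D := M1 ⊓ M2 with hD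
  set B := coreIn M2 D with hB
  have hXD : X ≤ D := hXB.trans (coreIn_le_right _ _)
  have hBn : M2 ≤ normalizer (B : Set G) := le_normalizer_coreIn _ _
  have hY1 : pRes p X ≤ M1 := (pRes_le p X).trans (hXD.trans inf_le_left)
  have hYn : M1 ≤ normalizer (pRes p X : Set G) := normalizer_le_normalizer_pRes hXn
  have hNY := h.n1 _ hY1 hYn hne
  -- O_p(D) ≤ B
  have hPB : pCoreOf p D ≤ B := by
    intro x hx
    rw [hB, mem_coreIn]
    have hxD : x ∈ D := Cfsg.Agent.H47.pCoreOf_le p D hx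
    refine ⟨hxD.2, fun m hm => ⟨?_, M2.mul_mem (M2.mul_mem hm hxD.2) (M2.inv_mem hm)⟩⟩
    have hmi : m⁻¹ ∈ M2 := inv_mem hm
    have h1 : X.map (MulAut.conj m⁻¹).toMonoidHom ≤ D := (conj_le_core hXB (hBn hmi)).trans (coreIn_le_right _ _)
    have h2 := subn_restrict (D := D) inf_le_right (subn_conj hs hmi)
    have h3 := pCoreOf_le_norm (p := p) h1 h2 hx
    rw [Cfsg.Agent.H47.pRes_map_conj] at h3
    have h4 := norm_conj h3
    rw [inv_inv] at h4
    exact hNY h4
  -- O_p(M2) ≤ O_p(D)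
  have hP2 : pCoreOf p M2 ≤ M1 := (pCoreOf_le_norm (p := p) (hXD.trans inf_le_right) hs).trans hNY
  have hP2D : pCoreOf p M2 ≤ pCoreOf p D := by
    apply Cfsg.Agent.H47.le_pCoreOf (le_inf hP2 (Cfsg.Agent.H47.pCoreOf_le p M2)) _ (Cfsg.Agent.H47.pCoreOf_isPGroup p M2)
    exact (inf_le_right : D ≤ M2).trans (Cfsg.Agent.H47.le_normalizer_pCoreOf p M2)
  have hPD2 : pCoreOf p D ≤ pCoreOf p M2 := by
    have h1 : pCoreOf p D ≤ pCoreOf p B := by
      apply Cfsg.Agent.H47.le_pCoreOf hPB _ (Cfsg.Agent.H47.pCoreOf_isPGroup p D)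
      exact (coreIn_le_right M2 D).trans (Cfsg.Agent.H47.le_normalizer_pCoreOf p D)
    refine h1.trans ?_
    apply Cfsg.Agent.H47.le_pCoreOf ((Cfsg.Agent.H47.pCoreOf_le p B).trans (coreIn_le_left _ _)) _ (Cfsg.Agent.H47.pCoreOf_isPGroup p B)
    exact Cfsg.Agent.H47.le_normalizer_pCoreOf_of_le hBn
  exact h.finish p hP2D hPD2
/-- components of `M1 ∩ M2` and of `M2` -/
theorem keyE (h : TW M1 M2) {X : Subgroup G} (hXB : X ≤ coreIn M2 (M1 ⊓ M2))
    (hXn : M1 ≤ normalizer (X : Set G)) (hs : (X.subgroupOf M2).IsSubnormal) (hne : X ≠ ⊥) (K : Subgroup G) :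
    IsComponentOf K (M1 ⊓ M2) ↔ IsComponentOf K M2 := by
  have hXD : X ≤ M1 ⊓ M2 := hXB.trans (coreIn_le_right _ _)
  have hBn : M2 ≤ normalizer (coreIn M2 (M1 ⊓ M2) : Set G) := le_normalizer_coreIn _ _
  have hNX := h.n1 _ (hXD.trans inf_le_left) hXn hne
  constructor
  · intro hK
    have hKB : K ≤ coreIn M2 (M1 ⊓ M2) := by
      intro x hx
      rw [mem_coreIn]
      have hxD := hK.1 hx
      refine ⟨hxD.2, fun m hm => ⟨?_, M2.mul_mem (M2.mul_mem hm hxD.2) (M2.inv_mem hm)⟩⟩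
      have hmi : m⁻¹ ∈ M2 := inv_mem hm
      have h1 : X.map (MulAut.conj m⁻¹).toMonoidHom ≤ M1 ⊓ M2 := (conj_le_core hXB (hBn hmi)).trans (coreIn_le_right _ _)
      have h2 := subn_restrict (D := M1 ⊓ M2) inf_le_right (subn_conj hs hmi)
      have h3 := comp_le_norm hK h1 h2 hx
      have h4 := norm_conj h3
      rw [inv_inv] at h4
      exact hNX h4
    exact comp_up (comp_down hK hKB (coreIn_le_right _ _)) (coreIn_le_left _ _)
      (subn_of_le_normalizer (coreIn_le_left _ _) hBn)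
  · intro hK
    have h1 : K ≤ M1 := (comp_le_norm hK (hXD.trans inf_le_right) hs).trans hNX
    exact comp_down hK (le_inf h1 hK.1) inf_le_right

theorem layer_bot (h : TW M1 M2) {X Y : Subgroup G} (hXB : X ≤ coreIn M2 (M1 ⊓ M2))
    (hXn : M1 ≤ normalizer (X : Set G)) (hs : (X.subgroupOf M2).IsSubnormal) (hne : X ≠ ⊥)
    (hYB : Y ≤ coreIn M1 (M1 ⊓ M2))
    (hYn : M2 ≤ normalizer (Y : Set G)) (hs' : (Y.subgroupOf M1).IsSubnormal) (hne' : Y ≠ ⊥) :
    layer M1 = ⊥ ∧ layer M2 = ⊥ := by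
  have h1 := h.keyE hXB hXn hs hne
  have h2 := h.symm.keyE (by rw [inf_comm]; exact hYB) hYn hs' hne'
  have h12 : ∀ K, IsComponentOf K M1 ↔ IsComponentOf K M2 := by
    intro K
    rw [← h1, ← h2, inf_comm]
  have heq : (layer M1).map M1.subtype = (layer M2).map M2.subtype :=
    le_antisymm (layer_map_le fun L hL => (h12 L).mp hL) (layer_map_le fun L hL => (h12 L).mpr hL)
  have hn : ∀ M : Subgroup G, M ≤ normalizer (((layer M).map M.subtype : Subgroup G) : Set G) := by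
    intro M m hm
    have : (⟨m, hm⟩ : M) ∈ normalizer (layer M : Set M) := by
      rw [normalizer_eq_top]; trivial
    exact mem_norm_map this
  have hb := h.eq_bot (X := (layer M1).map M1.subtype) (map_subtype_le _) (by rw [heq]; exact map_subtype_le _)
    (hn M1) (by rw [heq]; exact hn M2)
  refine ⟨?_, ?_⟩
  · rwa [map_eq_bot_iff_of_injective _ M1.subtype_injective] at hb
  · rwa [heq, map_eq_bot_iff_of_injective _ M2.subtype_injective] at hb

theorem pRes_eq_bot_isPGroup {p : ℕ} [Fact p.Prime] {X : Subgroup G} (h : pRes p X = ⊥) : IsPGroup p X := by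
  intro x
  obtain ⟨k, hk⟩ := Cfsg.Agent.H47.pow_mem_pRes (p := p) x.2
  rw [h, mem_bot] at hk
  exact ⟨k, by ext; simpa using hk⟩

/-- **Thompson–Wielandt** (Knapp's form). -/
theorem main (h : TW M1 M2) {X Y : Subgroup G} (hXB : X ≤ coreIn M2 (M1 ⊓ M2))
    (hXn : M1 ≤ normalizer (X : Set G)) (hs : (X.subgroupOf M2).IsSubnormal) (hne : X ≠ ⊥)
    (hYB : Y ≤ coreIn M1 (M1 ⊓ M2))
    (hYn : M2 ≤ normalizer (Y : Set G)) (hs' : (Y.subgroupOf M1).IsSubnormal) (hne' : Y ≠ ⊥) :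
    ∃ p : ℕ, p.Prime ∧ IsPGroup p X ∧ IsPGroup p Y ∧ IsPGroup p (generalizedFittingSubgroup M1) ∧
      IsPGroup p (generalizedFittingSubgroup M2) := by
  obtain ⟨hl1, hl2⟩ := h.layer_bot hXB hXn hs hne hYB hYn hs' hne'
  have hM1 : Nontrivial M1 := by
    rw [Subgroup.nontrivial_iff_ne_bot]
    intro hb
    have : X ≤ M1 := hXB.trans ((coreIn_le_right _ _).trans inf_le_left)
    rw [hb] at this
    exact hne (le_bot_iff.mp this)
  have hF : generalizedFittingSubgroup M1 ≠ ⊥ := by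
    intro hb
    have h1 := FStar.centralizer_generalizedFitting_le (G := M1)
    rw [hb] at h1
    have h2 : (⊤ : Subgroup M1) ≤ ⊥ := by
      refine le_trans ?_ h1
      intro x _
      rw [mem_centralizer_iff]
      intro y hy
      rw [SetLike.mem_coe, mem_bot] at hy
      rw [hy]; simp
    exact bot_ne_top (le_antisymm bot_le h2)
  have hex : ∃ p : ℕ, p.Prime ∧ pCore p M1 ≠ ⊥ := by
    by_contra hcon
    push Not at hcon
    apply hF
    rw [generalizedFittingSubgroup, hl1, bot_sup_eq, Solv.fitting_eq_iSup_pCore]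
    rw [iSup_eq_bot]
    intro q
    exact hcon q q.2
  obtain ⟨p, hp, hpne⟩ := hex
  have : Fact p.Prime := ⟨hp⟩
  have hpne' : pCoreOf p M1 ≠ ⊥ := fun h1 => hpne (Cfsg.Agent.H47.pCore_eq_bot_iff.mpr h1)
  have hXp : IsPGroup p X := by
    apply pRes_eq_bot_isPGroup
    by_contra h1
    exact hpne' (h.keyP p hXB hXn hs h1).1
  have hYp : IsPGroup p Y := by
    apply pRes_eq_bot_isPGroup
    by_contra h1
    exact hpne' (h.symm.keyP p (by rw [inf_comm]; exact hYB) hYn hs' h1).2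
  have hother : ∀ q : ℕ, q.Prime → q ≠ p → pCore q M1 = ⊥ ∧ pCore q M2 = ⊥ := by
    intro q hq hqp
    have : Fact q.Prime := ⟨hq⟩
    have h1 : pRes q X ≠ ⊥ := by
      intro h1
      have h2 := pRes_eq_bot_isPGroup h1
      have h3 : Disjoint X X := IsPGroup.disjoint_of_ne p q (Ne.symm hqp) X X hXp h2
      exact hne (disjoint_self.mp h3)
    obtain ⟨h2, h3⟩ := h.keyP q hXB hXn hs h1
    exact ⟨Cfsg.Agent.H47.pCore_eq_bot_iff.mpr h2, Cfsg.Agent.H47.pCore_eq_bot_iff.mpr h3⟩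
  exact ⟨p, hp, hXp, hYp, FStar.isPGroup_generalizedFitting_of hl1 (fun q hq hqp => (hother q hq hqp).1),
    FStar.isPGroup_generalizedFitting_of hl2 (fun q hq hqp => (hother q hq hqp).2)⟩

/-- `core` is subnormal on the other side -/
theorem subn_core {M1 M2 : Subgroup G} :
    ((coreIn M1 (coreIn M1 (M1 ⊓ M2) ⊓ coreIn M2 (M1 ⊓ M2))).subgroupOf M2).IsSubnormal := by
  set A1 := coreIn M1 (M1 ⊓ M2) with hA1
  set B1 := coreIn M2 (M1 ⊓ M2) with hB1
  have hB1M1 : B1 ≤ M1 := (coreIn_le_right _ _).trans inf_le_left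
  have hA1n : M1 ≤ normalizer (A1 : Set G) := le_normalizer_coreIn _ _
  have h1 : coreIn M1 (A1 ⊓ B1) ≤ A1 ⊓ B1 := coreIn_le_right _ _
  refine subn_trans (Y := A1 ⊓ B1) h1 (inf_le_right.trans (coreIn_le_left _ _)) ?_ ?_
  · apply subn_of_le_normalizer h1
    exact (inf_le_right.trans hB1M1).trans (le_normalizer_coreIn _ _)
  · refine subn_trans (Y := B1) inf_le_right (coreIn_le_left _ _) ?_ (subn_of_le_normalizer (coreIn_le_left _ _) (le_normalizer_coreIn _ _))
    apply subn_of_le_normalizer inf_le_right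
    intro x hx
    have h2 := hA1n (hB1M1 hx)
    rw [mem_normalizer_iff]
    intro y
    constructor
    · rintro ⟨hy1, hy2⟩
      exact ⟨(mem_normalizer_iff.mp h2 y).mp hy1, B1.mul_mem (B1.mul_mem hx hy2) (B1.inv_mem hx)⟩
    · rintro ⟨hy1, hy2⟩
      refine ⟨(mem_normalizer_iff.mp h2 y).mpr hy1, ?_⟩
      have : y = x⁻¹ * (x * y * x⁻¹) * x := by group
      rw [this]; exact B1.mul_mem (B1.mul_mem (B1.inv_mem hx) hy2) hx

theorem gF_transport {p : ℕ} [Fact p.Prime] {N M : Subgroup G} (hNM : N ≤ M) (hn : M ≤ normalizer (N : Set G))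
    (h : IsPGroup p (generalizedFittingSubgroup M)) : IsPGroup p (generalizedFittingSubgroup N) := by
  have h1 := FStar.isPGroup_generalizedFitting_of_isSubnormal (subn_of_le_normalizer hNM hn) h
  have h2 := FStar.map_generalizedFitting (subgroupOfEquivOfLe hNM)
  rw [← h2]
  exact h1.map _

/-- the theorem in terms of iterated cores -/
theorem knapp {M1 M2 : Subgroup G} (h : TW M1 M2)
    (hA2 : coreIn M1 (coreIn M1 (M1 ⊓ M2) ⊓ coreIn M2 (M1 ⊓ M2)) ≠ ⊥)
    (hB2 : coreIn M2 (coreIn M1 (M1 ⊓ M2) ⊓ coreIn M2 (M1 ⊓ M2)) ≠ ⊥) :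
    ∃ p : ℕ, p.Prime ∧ IsPGroup p ↥(coreIn M1 (coreIn M1 (M1 ⊓ M2) ⊓ coreIn M2 (M1 ⊓ M2))) ∧
      IsPGroup p ↥(coreIn M2 (coreIn M1 (M1 ⊓ M2) ⊓ coreIn M2 (M1 ⊓ M2))) ∧
      IsPGroup p (generalizedFittingSubgroup M1) ∧ IsPGroup p (generalizedFittingSubgroup M2) := by
  apply h.main ((coreIn_le_right _ _).trans inf_le_right) (le_normalizer_coreIn _ _) subn_core hA2
    ((coreIn_le_right _ _).trans inf_le_left) (le_normalizer_coreIn _ _) _ hB2
  have h1 := subn_core (M1 := M2) (M2 := M1)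
  rw [inf_comm M2 M1, inf_comm (coreIn M2 (M1 ⊓ M2))] at h1
  exact h1

/-- from a core-free maximal subgroup and a conjugate -/
theorem of_coatom {M1 M2 : Subgroup G} (hmax : IsCoatom M1) (g : G)
    (hconj : M2 = M1.map (MulAut.conj g).toMonoidHom) (hne : M1 ≠ M2) (hcore : M1.normalCore = ⊥) : TW M1 M2 := by
  have key : ∀ M : Subgroup G, IsCoatom M → M.normalCore = ⊥ → ∀ X : Subgroup G, X ≤ M → M ≤ normalizer (X : Set G) → X ≠ ⊥ →
      normalizer (X : Set G) ≤ M := by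
    intro M hM hc X hX hn hXne
    by_contra hnle
    have hlt : M < normalizer (X : Set G) := lt_of_le_of_ne hn (fun he => hnle he.ge)
    have htop := hM.2 _ hlt
    have hXn : X.Normal := normalizer_eq_top_iff.mp htop
    apply hXne
    rw [eq_bot_iff, ← hc]
    exact (Subgroup.normal_le_normalCore).mpr hX
  have hmax2 : IsCoatom M2 := by
    rw [hconj]
    exact (OrderIso.isCoatom_iff ((MulAut.conj g).mapSubgroup) M1).mpr hmax
  have hcore2 : M2.normalCore = ⊥ := by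
    rw [eq_bot_iff, ← hcore]
    intro x hx b
    have h1 := hx (g * b)
    rw [hconj] at h1
    obtain ⟨y, hy, hy'⟩ := h1
    have hy2 : g * y * g⁻¹ = g * b * x * (g * b)⁻¹ := hy'
    have : b * x * b⁻¹ = y := by
      calc b * x * b⁻¹ = g⁻¹ * (g * b * x * (g * b)⁻¹) * g := by group
        _ = y := by rw [← hy2]; group
    rw [this]; exact hy
  refine ⟨key M1 hmax hcore, key M2 hmax2 hcore2, hne, fun p => ?_⟩
  rw [hconj, Cfsg.Agent.H47.pCoreOf_map_conj]
  exact Nat.card_congr ((pCoreOf p M1).equivMapOfInjective (MulAut.conj g).toMonoidHom (MulAut.conj g).injective).toEquiv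

end TW

end Cfsg.Agent.H94
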