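import Cfsg.Agent.GeoMax.UniGLMain

/-!
The stabiliser of a pair of complementary totally singular subspaces (type `GL_k(q²).2`) in `SU_2k(q)`:
maximality for all `k ≥ 3` (`Cfsg.Agent.GeoMax.UGL` has `k ≥ 6`).
-/

set_option autoImplicit false
set_option linter.unusedSectionVars false

namespace Cfsg.Agent.H94.UGLk

open Matrix Module
open scoped MatrixGroups
open Cfsg.Geo Cfsg.Agent.Uni Cfsg.Agent.GeoMax Cfsg.Agent.GeoMax.UGL

variable {F : Type*} [Field F] [Fintype F] {n q : ℕ}

/-- two root elements with the same centre and proportional directions up to the centre give a transvection -/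
lemma tr_of_add (hF : Fintype.card F = q ^ 2) {M : Subgroup (SU n F q)} {v b : Fin n → F} {c : F} (hc : c ≠ 0)
    (hv : hermForm n F q v v = 0) (hb : hermForm n F q b b = 0) (hvb : hermForm n F q v b = 0)
    (h1 : ∀ e : F, HasR M v (e • (c • v + b))) (h2 : ∀ e : F, HasR M v (e • b)) :
    ∃ d, d ≠ 0 ∧ d ^ q = -d ∧ HasTr M v d := by
  obtain ⟨θ, hθ⟩ := exists_pow_q_ne hF
  have hbv := (hermForm_eq_zero_comm hF).1 hvb
  obtain ⟨g1, hg1, he1⟩ := h1 (θ / c)
  obtain ⟨g2, hg2, he2⟩ := h2 (θ / c)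
  have e3 := he2.inv hF hv (by rw [hermForm_smul_right, hvb, mul_zero])
    (by rw [hermForm_smul_left, hermForm_smul_right, hb, zero_pow_q hF]; ring)
  have e4 := he1.mul hF hv
    (by rw [hermForm_smul_right, hermForm_add_right hF, hermForm_smul_right, hv, hvb]; ring)
    (by rw [hermForm_neg_right hF, hermForm_smul_right, hvb]; ring) e3
  refine ⟨θ - θ ^ q, sub_ne_zero.2 (Ne.symm hθ), ?_, g1 * g2⁻¹, M.mul_mem hg1 (M.inv_mem hg2), ?_⟩
  · rw [sub_pow_q hF, pow_q_pow_q hF]; ring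
  · rw [isEich_zero_iff hF]
    intro x
    have e5 : (θ / c) • (c • v + b) + -((θ / c) • b) = θ • v := by
      rw [smul_add, smul_smul, div_mul_cancel₀ _ hc]; abel
    rw [e4 x, e5, zero_pow_q hF, hermForm_smul_right, hermForm_neg_left, hermForm_smul_left, hermForm_smul_right,
      hermForm_add_right hF, hermForm_smul_right, hbv, hb]
    module

variable {M : Subgroup (SU n F q)} {X X' A B : Submodule F (Fin n → F)}

lemma disj (hF : Fintype.card F = q ^ 2) (hA : GoodPair M A B) {v : Fin n → F} (h1 : v ∈ A) (h2 : v ∈ B) : v = 0 := by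
  apply hermForm_nondeg (q := q) hF
  intro z
  obtain ⟨a, ha, b, hb, rfl⟩ := hA.exists_add z
  rw [hermForm_add_right hF, hA.ts v h1 a ha, hA.ts' v h2 b hb, add_zero]

lemma meet (hF : Fintype.card F = q ^ 2) (hA : GoodPair M A B) (hX : GoodPair M X X') {v : Fin n → F} (hvA : v ∈ A)
    (hvX : v ∈ X') (hv0 : v ≠ 0) (hno : ∀ d, d ≠ 0 → d ^ q = -d → ¬ HasTr M v d) {x : Fin n → F} (hx : x ∈ X)
    (hxv : hermForm n F q x v = 0) : x ∈ B := by
  have hvx := (hermForm_eq_zero_comm hF).1 hxv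
  have hXR : ∀ e : F, HasR M v (e • x) := fun e => (hX.symm hF).smul_mem hvX hx hvx e
  -- step 1
  have h1 : ∀ b ∈ B, hermForm n F q v b = 0 → hermForm n F q b x = 0 := by
    intro b hb hvb
    by_contra hne
    obtain ⟨d, hd, hdq, hdM⟩ := exists_tr hF (hA.ts v hvA v hvA) (hA.ts' b hb b hb) (hX.ts x hx x hx) hvb hvx
      (hA.mem v hvA b hb hvb) hXR hne
    exact hno d hd hdq hdM
  -- step 2
  obtain ⟨a, ha, b, hb, rfl⟩ := hA.exists_add x
  obtain ⟨z, hz⟩ := Uni.exists_form_ne (q := q) hF hv0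
  obtain ⟨z1, hz1, b0, hb0, rfl⟩ := hA.exists_add z
  rw [hermForm_add_right hF, hA.ts v hvA z1 hz1, zero_add] at hz
  have h2 : a = (hermForm n F q a b0 / hermForm n F q v b0) • v := by
    rw [← sub_eq_zero]
    refine disj hF hA (A.sub_mem ha (A.smul_mem _ hvA)) ((hA.symm hF).mem_of_perp hF fun b' hb' => ?_)
    have hq : hermForm n F q b0 v ≠ 0 := fun h0 => hz ((hermForm_eq_zero_comm hF).1 h0)
    -- `b' - μ b0 ⊥ v`
    have h3 := h1 (b' - (hermForm n F q b' v / hermForm n F q b0 v) • b0) (B.sub_mem hb' (B.smul_mem _ hb0)) (by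
      rw [hermForm_eq_zero_comm hF, hermForm_sub_left, hermForm_smul_left, div_mul_cancel₀ _ hq, sub_self])
    have h3' : hermForm n F q a (b' - (hermForm n F q b' v / hermForm n F q b0 v) • b0) = 0 := by
      rw [hermForm_eq_zero_comm hF]
      rw [hermForm_add_right hF, hA.ts' _ (B.sub_mem hb' (B.smul_mem _ hb0)) b hb, add_zero] at h3
      exact h3
    rw [hermForm_sub_right hF, hermForm_smul_right, div_pow, hermForm_symm hF, hermForm_symm hF] at h3'
    rw [hermForm_sub_left, hermForm_smul_left]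
    field_simp at h3' ⊢
    linear_combination h3'
  set c := hermForm n F q a b0 / hermForm n F q v b0 with hc
  by_cases hc0 : c = 0
  · rw [hc0, zero_smul] at h2
    rw [h2, zero_add]; exact hb
  exfalso
  rw [h2] at hXR hvx
  have hvb : hermForm n F q v b = 0 := by
    rwa [hermForm_add_right hF, hermForm_smul_right, hA.ts v hvA v hvA, mul_zero, zero_add] at hvx
  obtain ⟨d, hd, hdq, hdM⟩ := tr_of_add hF hc0 (hA.ts v hvA v hvA) (hA.ts' b hb b hb) hvb hXR
    (hA.smul_mem hvA hb hvb)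
  exact hno d hd hdq hdM

lemma le_of_meet (hF : Fintype.card F = q ^ 2) (hA : GoodPair M A B) (hX : GoodPair M X X')
    (hdX : 3 ≤ finrank F X)
    (hnoA : ∀ v ∈ A, v ≠ 0 → ∀ d, d ≠ 0 → d ^ q = -d → ¬ HasTr M v d)
    (hnoB : ∀ v ∈ B, v ≠ 0 → ∀ d, d ≠ 0 → d ^ q = -d → ¬ HasTr M v d)
    {v : Fin n → F} (hvA : v ∈ A) (hvX : v ∈ X') (hv0 : v ≠ 0) : X' ≤ A := by
  have h1 : ∀ x ∈ X, hermForm n F q x v = 0 → x ∈ B := fun x hx hxv => meet hF hA hX hvA hvX hv0 (hnoA v hvA hv0) hx hxv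
  obtain ⟨b1, hb1, hb10, hb1v⟩ := exists_perp_list hF (Y := X) [v] (by simp; omega)
  obtain ⟨z, hz⟩ := Uni.exists_form_ne (q := q) hF hb10
  obtain ⟨z1, hz1, z2, hz2, rfl⟩ := hX.exists_add z
  rw [hermForm_add_right hF, hX.ts b1 hb1 z1 hz1, zero_add] at hz
  obtain ⟨b2, hb2, hb20, hb2v⟩ := exists_perp_list hF (Y := X) [v, z2] (by simp; omega)
  have k1 := h1 b1 hb1 (hb1v v (by simp))
  have k2 := h1 b2 hb2 (hb2v v (by simp))
  have m : ∀ b ∈ X, b ∈ B → b ≠ 0 → ∀ x' ∈ X', hermForm n F q b x' = 0 → x' ∈ A := by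
    intro b hbX hbB hb0 x' hx' h
    exact meet hF (hA.symm hF) (hX.symm hF) hbB hbX hb0 (hnoB b hbB hb0) hx' ((hermForm_eq_zero_comm hF).1 h)
  intro x' hx'
  have m2 := m b2 hb2 k2 hb20 z2 hz2 (hb2v z2 (by simp))
  set e := (hermForm n F q b1 x' / hermForm n F q b1 z2) ^ q with he
  have m1 := m b1 hb1 k1 hb10 (x' - e • z2) (X'.sub_mem hx' (X'.smul_mem _ hz2)) (by
    rw [hermForm_sub_right hF, hermForm_smul_right, he, pow_q_pow_q hF, div_mul_cancel₀ _ hz, sub_self])
  have := A.add_mem m1 (A.smul_mem e m2)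
  rwa [sub_add_cancel] at this

lemma le_of_meet' (hF : Fintype.card F = q ^ 2) (hA : GoodPair M A B) (hX : GoodPair M X X')
    (hdX' : 3 ≤ finrank F X')
    (hnoA : ∀ v ∈ A, v ≠ 0 → ∀ d, d ≠ 0 → d ^ q = -d → ¬ HasTr M v d) (h : X' ≤ A) : X ≤ B := by
  intro x hx
  obtain ⟨v, hv, hv0, hvx⟩ := exists_perp_list hF (Y := X') [x] (by simp; omega)
  exact meet hF hA hX (h hv) hv hv0 (hnoA v (h hv) hv0) hx ((hermForm_eq_zero_comm hF).1 (hvx x (by simp)))

lemma no_N (hF : Fintype.card F = q ^ 2) {v : Fin n → F} {W X' : Submodule F (Fin n → F)} (hW : 3 ≤ finrank F W)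
    (hWX : ∀ w ∈ W, w ∈ X' → w = 0) (hN : ∀ a ∈ W, hermForm n F q a v = 0 → ∃ c : F, a - c • v ∈ X') : False := by
  obtain ⟨a1, ha1, ha10, ha1v⟩ := exists_perp_list hF (Y := W) [v] (by simp; omega)
  obtain ⟨z, hz⟩ := Uni.exists_form_ne (q := q) hF ha10
  obtain ⟨a2, ha2, ha20, ha2v⟩ := exists_perp_list hF (Y := W) [v, z] (by simp; omega)
  obtain ⟨c1, hc1⟩ := hN a1 ha1 (ha1v v (by simp))
  obtain ⟨c2, hc2⟩ := hN a2 ha2 (ha2v v (by simp))
  have h1 : c2 • a1 - c1 • a2 ∈ X' := by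
    have := X'.sub_mem (X'.smul_mem c2 hc1) (X'.smul_mem c1 hc2)
    have e : c2 • (a1 - c1 • v) - c1 • (a2 - c2 • v) = c2 • a1 - c1 • a2 := by module
    rwa [e] at this
  have h2 := hWX _ (W.sub_mem (W.smul_mem c2 ha1) (W.smul_mem c1 ha2)) h1
  have h3 := congrArg (fun y => hermForm n F q y z) h2
  simp only [hermForm_sub_left, hermForm_smul_left, ha2v z (by simp), mul_zero, sub_zero, hermForm_zero_left] at h3
  have h4 := (mul_eq_zero.1 h3).resolve_right hz
  rw [h4, zero_smul, sub_zero] at hc2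
  exact ha20 (hWX a2 ha2 hc2)

/-- In the absence of transvections, every good pair is the standard one. -/
lemma eq_of_no_tr3 (hF : Fintype.card F = q ^ 2) (hA : GoodPair M A B)
    (hdA : 3 ≤ finrank F A) (hdB : 3 ≤ finrank F B)
    (hX : GoodPair M X X') (hdX : 3 ≤ finrank F X) (hdX' : 3 ≤ finrank F X')
    (hno : ∀ v ∈ X, v ≠ 0 → ∀ d, d ≠ 0 → d ^ q = -d → ¬ HasTr M v d)
    (hno' : ∀ v ∈ X', v ≠ 0 → ∀ d, d ≠ 0 → d ^ q = -d → ¬ HasTr M v d)
    (hnoA : ∀ v ∈ A, v ≠ 0 → ∀ d, d ≠ 0 → d ^ q = -d → ¬ HasTr M v d)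
    (hnoB : ∀ v ∈ B, v ≠ 0 → ∀ d, d ≠ 0 → d ^ q = -d → ¬ HasTr M v d) : X ≤ A ∨ X ≤ B := by
  by_contra hcon
  push Not at hcon
  obtain ⟨hcA, hcB⟩ := hcon
  have i1 : ∀ v ∈ A, v ∈ X' → v = 0 := by
    intro v hv hv'
    by_contra hv0
    exact hcB (le_of_meet' hF hA hX hdX' hnoA (le_of_meet hF hA hX hdX hnoA hnoB hv hv' hv0))
  have i2 : ∀ v ∈ B, v ∈ X' → v = 0 := by
    intro v hv hv'
    by_contra hv0
    exact hcA (le_of_meet' hF (hA.symm hF) hX hdX' hnoB (le_of_meet hF (hA.symm hF) hX hdX hnoB hnoA hv hv' hv0))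
  have i3 : ∀ v ∈ A, v ∈ X → v = 0 := by
    intro v hv hv'
    by_contra hv0
    exact hcA (le_of_meet hF hA (hX.symm hF) hdX' hnoA hnoB hv hv' hv0)
  -- every vector of `X` has orthogonal components
  have key : ∀ a ∈ A, ∀ b ∈ B, a + b ∈ X → hermForm n F q a b = 0 := by
    intro a ha b hb hvX
    by_contra hab
    have hba : hermForm n F q b a ≠ 0 := fun h0 => hab ((hermForm_eq_zero_comm hF).1 h0)
    set v := a + b with hv
    have hv0 : v ≠ 0 := by
      intro h0
      have h1 : a = 0 := disj hF hA ha (by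
        have : a = -b := by rw [← sub_eq_zero, sub_neg_eq_add]; exact h0
        rw [this]; exact B.neg_mem hb)
      rw [h1, hermForm_zero_left] at hab
      exact hab rfl
    let N : (Fin n → F) → Prop := fun y => ∀ u ∈ X', hermForm n F q u v = 0 → hermForm n F q u y = 0
    have Nadd : ∀ y z, N y → N z → N (y + z) := by
      intro y z hy hz u hu huv
      rw [hermForm_add_right hF, hy u hu huv, hz u hu huv, add_zero]
    have Nsmul : ∀ (c : F) y, N y → N (c • y) := by
      intro c y hy u hu huv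
      rw [hermForm_smul_right, hy u hu huv, mul_zero]
    have hmem : ∀ a : Fin n → F, hermForm n F q a v = 0 → N a → ∃ c : F, a - c • v ∈ X' := by
      intro a hav ha
      obtain ⟨z, hz⟩ := Uni.exists_form_ne (q := q) hF hv0
      obtain ⟨x, hx, y, hy, rfl⟩ := hX.exists_add z
      rw [hermForm_add_right hF, hX.ts v hvX x hx, zero_add] at hz
      refine ⟨hermForm n F q a y / hermForm n F q v y, ?_⟩
      apply (hX.symm hF).mem_of_perp hF
      intro u hu
      -- the combination of `u` and `y` orthogonal to `v`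
      have hz' : hermForm n F q y v ≠ 0 := fun h0 => hz ((hermForm_eq_zero_comm hF).1 h0)
      have h1 := ha (u - (hermForm n F q u v / hermForm n F q y v) • y) (X'.sub_mem hu (X'.smul_mem _ hy)) (by
        rw [hermForm_sub_left, hermForm_smul_left, div_mul_cancel₀ _ hz', sub_self])
      have h2 := (hermForm_eq_zero_comm hF).1 h1
      rw [hermForm_sub_right hF, hermForm_smul_right, div_pow, hermForm_symm hF, hermForm_symm hF] at h2
      rw [hermForm_sub_left, hermForm_smul_left]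
      field_simp at h2 ⊢
      linear_combination h2
    have hd : ∀ a' ∈ A, ∀ b' ∈ B, hermForm n F q b' a' = 0 → hermForm n F q a' v = 0 → hermForm n F q b' v = 0 →
        N a' ∨ N b' := by
      intro a' ha' b' hb' h1 h2 h3
      exact hA.dich hF hX hno hvX hv0 ha' hb' ((hermForm_eq_zero_comm hF).1 h1) h2 h3
    have claim : (∀ a' ∈ A, hermForm n F q a' v = 0 → N a') ∨ (∀ b' ∈ B, hermForm n F q b' v = 0 → N b') := by
      by_contra hcl
      push Not at hcl
      obtain ⟨⟨a1, ha1, ha1v, ha1N⟩, b1, hb1, hb1v, hb1N⟩ := hcl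
      obtain ⟨a2, ha2, ha20, ha2p⟩ := exists_perp_list hF (Y := A) [v, b1] (by simp; omega)
      have ha2v := ha2p v (by simp)
      have ha2b1 := ha2p b1 (by simp)
      have hb1a2 := (hermForm_eq_zero_comm hF).1 ha2b1
      have hN2 : N a2 := (hd a2 ha2 b1 hb1 hb1a2 ha2v hb1v).resolve_right hb1N
      have hb1a1 : hermForm n F q b1 a1 ≠ 0 := by
        intro h0
        rcases hd a1 ha1 b1 hb1 h0 ha1v hb1v with h | h
        · exact ha1N h
        · exact hb1N h
      obtain ⟨z, hz⟩ := Uni.exists_form_ne (q := q) hF ha20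
      obtain ⟨zA, hzA, zB, hzB, rfl⟩ := hA.exists_add z
      rw [hermForm_add_right hF, hA.ts a2 ha2 zA hzA, zero_add] at hz
      have hz' : hermForm n F q zB a2 ≠ 0 := fun h0 => hz ((hermForm_eq_zero_comm hF).1 h0)
      have ha2b : hermForm n F q b a2 = 0 := by
        rw [hermForm_eq_zero_comm hF]
        rw [hv, hermForm_add_right hF, hA.ts a2 ha2 a ha, zero_add] at ha2v
        exact ha2v
      set b2 := zB - (hermForm n F q zB a / hermForm n F q b a) • b with hb2
      have hb2B : b2 ∈ B := B.sub_mem hzB (B.smul_mem _ hb)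
      have hb2v : hermForm n F q b2 v = 0 := by
        rw [hv, hermForm_add_right hF, hA.ts' b2 hb2B b hb, add_zero, hb2, hermForm_sub_left, hermForm_smul_left,
          div_mul_cancel₀ _ hba, sub_self]
      have hb2a2 : hermForm n F q b2 a2 ≠ 0 := by
        rw [hb2, hermForm_sub_left, hermForm_smul_left, ha2b, mul_zero, sub_zero]; exact hz'
      set b3 := b2 - (hermForm n F q b2 a1 / hermForm n F q b1 a1) • b1 with hb3
      have hb3B : b3 ∈ B := B.sub_mem hb2B (B.smul_mem _ hb1)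
      have hb3v : hermForm n F q b3 v = 0 := by
        rw [hb3, hermForm_sub_left, hermForm_smul_left, hb2v, hb1v]; ring
      have hb3a1 : hermForm n F q b3 a1 = 0 := by
        rw [hb3, hermForm_sub_left, hermForm_smul_left, div_mul_cancel₀ _ hb1a1, sub_self]
      have hb3a2 : hermForm n F q b3 a2 ≠ 0 := by
        rw [hb3, hermForm_sub_left, hermForm_smul_left, hb1a2, mul_zero, sub_zero]; exact hb2a2
      have hN3 : N b3 := (hd a1 ha1 b3 hb3B hb3a1 ha1v hb3v).resolve_left ha1N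
      set ν := -(hermForm n F q b1 a1 / hermForm n F q b3 a2) with hν
      rcases hd (a1 + a2) (A.add_mem ha1 ha2) (b1 + ν • b3) (B.add_mem hb1 (B.smul_mem _ hb3B)) (by
        rw [hermForm_add_left, hermForm_smul_left, hermForm_add_right hF, hermForm_add_right hF, hb1a2, hb3a1, hν]
        field_simp
        ring) (by rw [hermForm_add_left, ha1v, ha2v, add_zero])
        (by rw [hermForm_add_left, hermForm_smul_left, hb1v, hb3v]; ring) with h | h
      · apply ha1N
        have := Nadd _ _ h (Nsmul (-1) _ hN2)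
        rwa [neg_one_smul, add_neg_cancel_right] at this
      · apply hb1N
        have := Nadd _ _ h (Nsmul (-ν) _ hN3)
        have e : b1 + ν • b3 + -ν • b3 = b1 := by module
        rwa [e] at this
    rcases claim with h | h
    · exact no_N hF hdA i1 fun a' ha' hav => hmem a' hav (h a' ha' hav)
    · exact no_N hF hdB i2 fun b' hb' hbv => hmem b' hbv (h b' hb' hbv)
  -- conclusion
  obtain ⟨v, hvX, hvB⟩ := SetLike.not_le_iff_exists.1 hcB
  obtain ⟨a, ha, b, hb, rfl⟩ := hA.exists_add v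
  have ha0 : a ≠ 0 := by
    rintro rfl
    rw [zero_add] at hvB
    exact hvB hb
  apply ha0
  refine i3 a ha (hX.mem_of_perp hF fun w hw => ?_)
  obtain ⟨a', ha', b', hb', rfl⟩ := hA.exists_add w
  have h0 := key a ha b hb hvX
  have h0' := key a' ha' b' hb' hw
  have h1 : ∀ c : F, c ^ q * hermForm n F q a b' + c * hermForm n F q a' b = 0 := by
    intro c
    have h2 := key (a + c • a') (A.add_mem ha (A.smul_mem c ha')) (b + c • b') (B.add_mem hb (B.smul_mem c hb')) (by
      have := X.add_mem hvX (X.smul_mem c hw)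
      have e : a + b + c • (a' + b') = a + c • a' + (b + c • b') := by module
      rwa [e] at this)
    rw [hermForm_add_left, hermForm_add_right hF, hermForm_add_right hF, hermForm_smul_left, hermForm_smul_left,
      hermForm_smul_right, hermForm_smul_right, h0, h0'] at h2
    linear_combination h2
  have h2 := h1 1
  rw [one_pow, one_mul, one_mul] at h2
  obtain ⟨c, hc⟩ := exists_pow_q_ne hF
  have h3 : (c ^ q - c) * hermForm n F q a b' = 0 := by
    linear_combination h1 c - c * h2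
  have h4 := (mul_eq_zero.1 h3).resolve_left (sub_ne_zero.2 hc)
  rw [hermForm_add_right hF, hA.ts a ha a' ha', h4, add_zero]

/-- **Maximality of `GL_k(q²).2` in `SU_2k(q)`.** -/
theorem glPair_maximal (hF : Fintype.card F = q ^ 2) {k : ℕ} (hk : 3 ≤ k) (hn : 4 ≤ n)
    (D : Fin 2 → Submodule F (Fin n → F)) (hD : IsMDecomposition k D)
    (hts : ∀ i, IsTotallySingularFor (hermForm n F q) (D i)) :
    IsMaximalIn (Cfsg.GU n F q ⊓ specialLinear (Fin n) F)
      (decompositionStabilizer D ⊓ (Cfsg.GU n F q ⊓ specialLinear (Fin n) F)) := by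
  have hd0 := hD.finrank_eq 0
  have hd1 := hD.finrank_eq 1
  have hcompl : IsCompl (D 0) (D 1) := by
    constructor
    · exact hD.indep.pairwiseDisjoint (by decide)
    · rw [codisjoint_iff, ← hD.iSup_eq_top]
      apply le_antisymm
      · exact sup_le (le_iSup D 0) (le_iSup D 1)
      · refine iSup_le fun i => ?_
        fin_cases i
        · exact le_sup_left
        · exact le_sup_right
  have hact : ∀ (g : SU n F q) (x : Fin n → F),
      Matrix.toLin' ((Un.suGL n F q g : GL (Fin n) F) : Matrix (Fin n) (Fin n) F) x = act g x := by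
    intro g x
    rw [Matrix.toLin'_apply, Un.suGL_coe]; rfl
  have hmemH : ∀ g : SU n F q, ((∀ x ∈ D 0, act g x ∈ D 0) ∧ (∀ x ∈ D 1, act g x ∈ D 1)) ∨
      ((∀ x ∈ D 0, act g x ∈ D 1) ∧ (∀ x ∈ D 1, act g x ∈ D 0)) →
      g ∈ (decompositionStabilizer D).comap (Un.suGL n F q) := by
    intro g hg
    have hfm : ∀ W : Submodule F (Fin n → F), finrank F (W.map (Matrix.toLin' ((Un.suGL n F q g : GL (Fin n) F) :
        Matrix (Fin n) (Fin n) F))) = finrank F W := by
      intro W
      refine (Submodule.equivMapOfInjective _ ?_ W).finrank_eq.symm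
      intro x y hxy
      rw [hact, hact] at hxy
      exact act_inj.1 hxy
    have hmap : ∀ i j, (∀ x ∈ D i, act g x ∈ D j) → (D i).map (Matrix.toLin' ((Un.suGL n F q g : GL (Fin n) F) :
        Matrix (Fin n) (Fin n) F)) = D j := by
      intro i j h
      refine Submodule.eq_of_le_of_finrank_eq ?_ ?_
      · rintro _ ⟨x, hx, rfl⟩
        rw [hact]; exact h x hx
      · rw [hfm, hD.finrank_eq, hD.finrank_eq]
    rcases hg with ⟨h1, h3⟩ | ⟨h1, h3⟩
    · refine ⟨1, fun i => ?_⟩
      rw [Equiv.Perm.one_apply]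
      fin_cases i
      · exact hmap 0 0 h1
      · exact hmap 1 1 h3
    · refine ⟨Equiv.swap 0 1, fun i => ?_⟩
      fin_cases i
      · exact (hmap 0 1 h1).trans (by simp)
      · exact (hmap 1 0 h3).trans (by simp)
  refine isMaximalIn_SU _ (fun M hHM => ?_) ?_
  · by_cases hMH : M = (decompositionStabilizer D).comap (Un.suGL n F q)
    · exact Or.inl hMH
    right
    have hgood : GoodPair M (D 0) (D 1) := by
      refine ⟨hts 0, hts 1, hcompl.sup_eq_top, fun x hx x' hx' h0 => ?_⟩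
      obtain ⟨g, hg⟩ := exists_eich hF x x' 0 (hts 0 x hx x hx) h0 (by
        rw [hts 1 x' hx' x' hx', zero_pow_q hF]; ring)
      refine ⟨g, hHM (hmemH g (Or.inl ⟨?_, ?_⟩)), hg⟩
      · intro y hy
        rw [hg y, hts 0 y hy x hx, zero_smul, add_zero, mul_zero, zero_smul, add_zero]
        exact (D 0).sub_mem hy ((D 0).smul_mem _ hx)
      · intro y hy
        rw [hg y, hts 1 y hy x' hx', zero_smul, sub_zero, zero_mul, zero_smul, add_zero]
        exact (D 1).add_mem hy ((D 1).smul_mem _ hx')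
    obtain ⟨s, hs0, hs1⟩ := exists_swap hF (hts 0) (hts 1) hcompl hd0 hd1
    have hsM : s ∈ M := hHM (hmemH s (Or.inr ⟨hs0, hs1⟩))
    have hfin : (∃ a ∈ D 0, a ≠ 0 ∧ ∃ d, d ≠ 0 ∧ d ^ q = -d ∧ HasTr M a d) → M = ⊤ := by
      rintro ⟨a, ha, ha0, d, hd, hdq, hm⟩
      have h0 := hgood.all_of_tr hF (by omega) ha ha0 hd hdq hm
      refine eq_top_of_tr hF hn (hgood.all_iso hF h0 fun x hx hx0 c hc => ?_)
      have h3 : act s (act s⁻¹ x) = x := act_act_inv s x
      rw [← h3]
      have hfm : (D 0).map (actL s) = D 1 := by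
        refine Submodule.eq_of_le_of_finrank_eq ?_ ?_
        · rintro _ ⟨y, hy, rfl⟩; exact hs0 y hy
        · rw [(Submodule.equivMapOfInjective _ (actL_injective s) (D 0)).finrank_eq.symm, hd0, hd1]
      rw [← hfm] at hx
      obtain ⟨y, hy, rfl⟩ := hx
      rw [actL_apply, act_inv_act]
      refine (h0 y hy ?_ c hc).conj hsM
      rintro rfl
      exact hx0 (act_zero s)
    by_contra hcon
    have hno0 : ∀ v ∈ D 0, v ≠ 0 → ∀ d, d ≠ 0 → d ^ q = -d → ¬ HasTr M v d := fun v hv hv0 d hd hdq hm =>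
      hcon (hfin ⟨v, hv, hv0, d, hd, hdq, hm⟩)
    have hno1 : ∀ v ∈ D 1, v ≠ 0 → ∀ d, d ≠ 0 → d ^ q = -d → ¬ HasTr M v d := by
      intro v hv hv0 d hd hdq hm
      exact hno0 _ (hs1 v hv) (act_ne_zero hv0) d hd hdq (hm.conj hsM)
    have hnomap : ∀ g ∈ M, ∀ W : Submodule F (Fin n → F),
        (∀ v ∈ W, v ≠ 0 → ∀ d, d ≠ 0 → d ^ q = -d → ¬ HasTr M v d) →
        ∀ v ∈ W.map (actL g), v ≠ 0 → ∀ d, d ≠ 0 → d ^ q = -d → ¬ HasTr M v d := by
      rintro g hg W hW _ ⟨x, hx, rfl⟩ hv0 d hd hdq hm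
      refine hW x hx (by rintro rfl; exact hv0 (act_zero g)) d hd hdq ?_
      have h3 := hm.conj (M.inv_mem hg)
      rwa [actL_apply, act_inv_act] at h3
    apply hMH
    refine le_antisymm (fun g hg => hmemH g ?_) hHM
    have hX := hgood.map hg
    have hinj := actL_injective g
    have hdm : ∀ i, finrank F ((D i).map (actL g)) = k := fun i => by
      rw [(Submodule.equivMapOfInjective _ hinj (D i)).finrank_eq.symm, hD.finrank_eq]
    have hdm0 := hdm 0
    have hdm1 := hdm 1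
    have e0 := eq_of_no_tr3 hF hgood (by omega) (by omega) hX (by omega) (by omega) (hnomap g hg _ hno0)
      (hnomap g hg _ hno1) hno0 hno1
    have e1 := eq_of_no_tr3 hF hgood (by omega) (by omega) (hX.symm hF) (by omega) (by omega) (hnomap g hg _ hno1)
      (hnomap g hg _ hno0) hno0 hno1
    have hdisj : ∀ j, ¬ ((D 0).map (actL g) ≤ D j ∧ (D 1).map (actL g) ≤ D j) := by
      rintro j ⟨h3, h4⟩
      have h5 := Submodule.eq_of_le_of_finrank_eq h3 (by rw [hdm, hD.finrank_eq])
      have h6 := Submodule.eq_of_le_of_finrank_eq h4 (by rw [hdm, hD.finrank_eq])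
      have h7 : (D 0).map (actL g) = (D 1).map (actL g) := by rw [h5, h6]
      have h8 := Submodule.map_injective_of_injective hinj h7
      have h9 := hcompl.inf_eq_bot
      rw [h8, inf_idem] at h9
      rw [h9, finrank_bot] at hd1
      omega
    have hto : ∀ i j, (D i).map (actL g) ≤ D j → ∀ x ∈ D i, act g x ∈ D j :=
      fun i j h x hx => h ⟨x, hx, rfl⟩
    rcases e0 with e0 | e0 <;> rcases e1 with e1 | e1
    · exact absurd ⟨e0, e1⟩ (hdisj 0)
    · exact Or.inl ⟨hto 0 0 e0, hto 1 1 e1⟩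
    · exact Or.inr ⟨hto 0 1 e0, hto 1 0 e1⟩
    · exact absurd ⟨e0, e1⟩ (hdisj 1)
  · intro heq
    -- a transvection outside
    obtain ⟨b, hb, hb0⟩ := Submodule.exists_mem_ne_zero_of_ne_bot (p := D 1) (by
      intro h; rw [h, finrank_bot] at hd1; omega)
    obtain ⟨z, hz⟩ := Uni.exists_form_ne (q := q) hF hb0
    have hzt : z ∈ D 0 ⊔ D 1 := by rw [hcompl.sup_eq_top]; trivial
    obtain ⟨a₀, ha₀, b', hb', rfl⟩ := Submodule.mem_sup.1 hzt
    rw [hermForm_add_right hF, hts 1 b hb b' hb', add_zero] at hz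
    obtain ⟨κ, hκ, hκq⟩ := exists_skew hF
    -- rescale
    set a := ((κ / hermForm n F q b a₀) ^ q) • a₀ with ha_def
    have ha : a ∈ D 0 := (D 0).smul_mem _ ha₀
    have hba : hermForm n F q b a = κ := by
      rw [ha_def, hermForm_smul_right, pow_q_pow_q hF, div_mul_cancel₀ _ hz]
    have hab : hermForm n F q a b = -κ := by rw [← hermForm_symm hF, hba, hκq]
    have hiso : hermForm n F q (a + b) (a + b) = 0 := by
      rw [hermForm_add_left, hermForm_add_right hF, hermForm_add_right hF, hts 0 a ha a ha, hts 1 b hb b hb, hab, hba]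
      ring
    obtain ⟨g, hg⟩ := exists_eich hF (a + b) 0 κ hiso (hermForm_zero_right hF _) (by
      rw [hermForm_zero_right hF, hκq]; ring)
    rw [isEich_zero_iff hF] at hg
    have hmem : g ∈ (decompositionStabilizer D).comap (Un.suGL n F q) := by rw [heq]; trivial
    obtain ⟨σ, hσ⟩ := hmem
    have h1 := hσ 0
    obtain ⟨x, hx, hx0, hxb⟩ := exists_perp_list hF (Y := D 0) [b] (by simp; omega)
    have hxb' := hxb b (by simp)
    have hxm : act g x ∈ D (σ 0) := by
      rw [← h1]; exact ⟨x, hx, hact g x⟩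
    rw [hg x, hermForm_add_right hF, hts 0 x hx a ha, hxb', add_zero, mul_zero, zero_smul, add_zero] at hxm
    have ham : act g a ∈ D (σ 0) := by
      rw [← h1]; exact ⟨a, ha, hact g a⟩
    rw [hg a, hermForm_add_right hF, hts 0 a ha a ha, zero_add, hab] at ham
    rcases (show σ 0 = 0 ∨ σ 0 = 1 by omega) with h | h
    · rw [h] at ham
      have h3 := (D 0).sub_mem ((D 0).sub_mem ham ha) ((D 0).smul_mem (κ * -κ) ha)
      have e : a + (κ * -κ) • (a + b) - a - (κ * -κ) • a = (κ * -κ) • b := by module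
      rw [e] at h3
      have hkk : κ * -κ ≠ 0 := mul_ne_zero hκ (neg_ne_zero.2 hκ)
      have h4 := (D 0).smul_mem (κ * -κ)⁻¹ h3
      rw [smul_smul, inv_mul_cancel₀ hkk, one_smul] at h4
      exact hb0 ((Submodule.disjoint_def.1 hcompl.disjoint) b h4 hb)
    · rw [h] at hxm
      exact hx0 ((Submodule.disjoint_def.1 hcompl.disjoint) x hx hxm)

end Cfsg.Agent.H94.UGLk
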