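import Cfsg.Agent.H98.UniSim

/-!
Maximality of the similarity group of a non-degenerate unitary form in `SL_n`, for `n ≥ 6`.
-/

set_option autoImplicit false
set_option linter.unusedSectionVars false

namespace Cfsg.Agent.H94.UniSim6

open Matrix Cfsg.Geo Cfsg.Agent.GeoMax Cfsg.Agent.GeoMax.Un Module Cfsg.Agent.H98.UniMax
open scoped MatrixGroups

variable {F : Type*} [Field F] [Fintype F] {n q : ℕ}

local notation "⟪" x ", " y "⟫" => Cfsg.hermForm _ _ q x y

/-- like `exists_z`, one more vector is allowed if the span is not totally isotropic -/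
lemma exists_z' (hF : Fintype.card F = q ^ 2) (S : Finset (Fin n → F)) (hS : 2 * S.card ≤ n) {x y : Fin n → F}
    (hx : x ∈ S) (hy : y ∈ S) (hxy : ⟪x, y⟫ ≠ 0) {s : F}
    (hs : s ^ q = s) : ∃ z : Fin n → F, (∀ x ∈ S, ⟪z, x⟫ = 0) ∧ ⟪z, z⟫ = s := by
  by_cases hs0 : s = 0
  · subst hs0
    exact ⟨0, fun x _ => Uni.hermForm_zero_left x, Uni.hermForm_zero_left 0⟩
  set W := Submodule.span F (S : Set (Fin n → F)) with hW
  have hWc : finrank F W ≤ S.card := finrank_span_finset_le_card S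
  have hP := Uni.finrank_perp hF W
  by_contra hcon
  push Not at hcon
  have h1 : ∀ u ∈ Uni.perp q W, ⟪u, u⟫ = 0 := by
    intro u hu
    by_contra hne
    have hfix : (s / ⟪u, u⟫) ^ q = s / ⟪u, u⟫ := by
      rw [div_pow, hs, Uni.hermForm_self_pow_q hF]
    obtain ⟨c, hc⟩ := Uni.exists_norm_eq hF hfix
    apply hcon (c • u)
    · intro x hx
      rw [Uni.hermForm_smul_left, hu x (Submodule.subset_span hx), mul_zero]
    · rw [Uni.hermForm_smul_left, Uni.hermForm_smul_right, ← mul_assoc, ← pow_succ', hc, div_mul_cancel₀ _ hne]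
  have h2 : Uni.perp q W ≤ Uni.perp q (Uni.perp q W) := by
    intro u hu w hw
    exact Uni.hermForm_eq_zero_of_self hF _ h1 hu hw
  rw [Uni.perp_perp hF] at h2
  have h3 := Submodule.finrank_mono h2
  have h4 : Uni.perp q W = W := Submodule.eq_of_le_of_finrank_le h2 (by omega)
  have hxW : x ∈ W := Submodule.subset_span hx
  have hyW : y ∈ W := Submodule.subset_span hy
  rw [← h4] at hxW
  exact hxy (hxW y hyW)

/-- decomposition of a vector as a combination of isotropic ones -/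
lemma exists_decomp (hF : Fintype.card F = q ^ 2) (hn : 6 ≤ n) (c x : Fin n → F) :
    ∃ (y y' : Fin n → F) (a b : F), a ≠ 0 ∧ b ≠ 0 ∧ ⟪y, y⟫ = 0 ∧ ⟪y', y'⟫ = 0 ∧ x = a • y + b • y' ∧
      (⟪x, c⟫ = 0 → ⟪y, c⟫ = 0 ∧ ⟪y', c⟫ = 0) ∧ ⟪y, x⟫ = ⟪x, x⟫ ∧ ⟪y', x⟫ = ⟪x, x⟫ := by
  classical
  obtain ⟨z, hz, hzz⟩ := exists_z hF ({c, x} : Finset (Fin n → F)) (by
    have : ({c, x} : Finset (Fin n → F)).card ≤ 2 := Finset.card_le_two
    omega) (s := -⟪x, x⟫) (by rw [Uni.neg_pow_q hF, Uni.hermForm_self_pow_q hF])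
  obtain ⟨l, hl, hl2⟩ := Uni.exists_norm_one_sq_ne hF
  have hl1 : l - 1 ≠ 0 := by
    intro h
    apply hl2
    rw [sub_eq_zero.1 h, one_pow]
  have hl0 : l ≠ 0 := by
    rintro rfl
    rw [zero_pow (by have := Uni.q_pos hF; omega)] at hl
    exact zero_ne_one hl
  have hzc := hz c (by simp)
  have hzx := hz x (by simp)
  have hxz := (Uni.hermForm_eq_zero_comm hF).1 hzx
  refine ⟨x + z, x + l • z, l / (l - 1), -(1 / (l - 1)), div_ne_zero hl0 hl1,
    neg_ne_zero.2 (div_ne_zero one_ne_zero hl1), ?_, ?_, ?_, ?_, ?_, ?_⟩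
  · rw [Uni.hermForm_add_left, Uni.hermForm_add_right hF, Uni.hermForm_add_right hF, hzx, hxz, hzz]
    ring
  · rw [Uni.hermForm_add_left, Uni.hermForm_add_right hF, Uni.hermForm_add_right hF, Uni.hermForm_smul_left,
      Uni.hermForm_smul_left, Uni.hermForm_smul_right, Uni.hermForm_smul_right, hzx, hxz, hzz]
    have : l * (l ^ q * -⟪x, x⟫) = (l ^ (q + 1)) * -⟪x, x⟫ := by ring
    rw [this, hl]
    ring
  · ext i
    simp only [Pi.add_apply, Pi.smul_apply, smul_eq_mul]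
    field_simp
    ring
  · intro hxc
    rw [Uni.hermForm_add_left, Uni.hermForm_add_left, Uni.hermForm_smul_left, hxc, hzc]
    simp
  · rw [Uni.hermForm_add_left, hzx, add_zero]
  · rw [Uni.hermForm_add_left, Uni.hermForm_smul_left, hzx, mul_zero, add_zero]

/-- isotropic vectors of `c^⊥` not orthogonal to a given vector outside `⟨c⟩` -/
lemma exists_iso1 (hF : Fintype.card F = q ^ 2) (hn : 6 ≤ n) (c w : Fin n → F)
    (hw : w ∉ Submodule.span F {c}) :
    ∃ u : Fin n → F, ⟪u, u⟫ = 0 ∧ ⟪u, c⟫ = 0 ∧ ⟪w, u⟫ ≠ 0 := by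
  obtain ⟨y, hyc, hy⟩ : ∃ y, ⟪y, c⟫ = 0 ∧ ⟪w, y⟫ ≠ 0 := by
    by_contra hcon
    push Not at hcon
    apply hw
    rw [← Uni.perp_perp hF (Submodule.span F {c})]
    intro y hy
    apply hcon y
    exact (Uni.mem_perp_span hF).1 hy c rfl
  obtain ⟨x, x', α, β, -, -, hx, hx', hxy, hc', -⟩ := exists_decomp hF hn c y
  obtain ⟨hxc, hx'c⟩ := hc' hyc
  by_cases h1 : ⟪w, x⟫ = 0
  · refine ⟨x', hx', hx'c, fun h2 => hy ?_⟩
    rw [hxy, Uni.hermForm_add_right hF, Uni.hermForm_smul_right, Uni.hermForm_smul_right, h1, h2, mul_zero, mul_zero, add_zero]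
  · exact ⟨x, hx, hxc, h1⟩

/-- isotropic vectors of `c^⊥` not orthogonal to two given vectors outside `⟨c⟩` -/
lemma exists_iso (hF : Fintype.card F = q ^ 2) (hn : 6 ≤ n) (c w w' : Fin n → F)
    (hw : w ∉ Submodule.span F {c}) (hw' : w' ∉ Submodule.span F {c}) :
    ∃ u : Fin n → F, ⟪u, u⟫ = 0 ∧ ⟪u, c⟫ = 0 ∧ ⟪w, u⟫ ≠ 0 ∧ ⟪w', u⟫ ≠ 0 := by
  obtain ⟨y1, hy1, hy1c, hwy1⟩ := exists_iso1 hF hn c w hw
  obtain ⟨y2, hy2, hy2c, hwy2⟩ := exists_iso1 hF hn c w' hw'
  by_cases h1 : ⟪w', y1⟫ = 0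
  · by_cases h2 : ⟪w, y2⟫ = 0
    · obtain ⟨a, ha0, ha⟩ := Uni.exists_skew hF
      obtain ⟨t, ht0, ht⟩ : ∃ t : F, t ≠ 0 ∧ t ^ q * ⟪y1, y2⟫ + t * ⟪y2, y1⟫ = 0 := by
        by_cases h3 : ⟪y2, y1⟫ = 0
        · refine ⟨1, one_ne_zero, ?_⟩
          rw [h3, (Uni.hermForm_eq_zero_comm hF).1 h3]; ring
        · refine ⟨a / ⟪y2, y1⟫, div_ne_zero ha0 h3, ?_⟩
          have h4 : ⟪y1, y2⟫ = ⟪y2, y1⟫ ^ q := by rw [Uni.hermForm_symm hF]
          rw [div_mul_cancel₀ _ h3, div_pow, h4, div_mul_cancel₀ _ (pow_ne_zero _ h3), ha]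
          ring
      refine ⟨y1 + t • y2, ?_, ?_, ?_, ?_⟩
      · rw [Uni.hermForm_add_left, Uni.hermForm_add_right hF, Uni.hermForm_add_right hF, Uni.hermForm_smul_left,
          Uni.hermForm_smul_left, Uni.hermForm_smul_right, Uni.hermForm_smul_right, hy1, hy2]
        linear_combination ht
      · rw [Uni.hermForm_add_left, Uni.hermForm_smul_left, hy1c, hy2c, mul_zero, add_zero]
      · rw [Uni.hermForm_add_right hF, Uni.hermForm_smul_right, h2, mul_zero, add_zero]; exact hwy1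
      · rw [Uni.hermForm_add_right hF, Uni.hermForm_smul_right, h1, zero_add]
        exact mul_ne_zero (pow_ne_zero _ ht0) hwy2
    · exact ⟨y2, hy2, hy2c, h2, hwy2⟩
  · exact ⟨y1, hy1, hy1c, hwy1, h1⟩

/-- the main closure lemma: additive subgroups of `V` invariant under the unitary transvections
centred in `c^⊥` -/
theorem closure_lemma (hF : Fintype.card F = q ^ 2) (hn : 6 ≤ n) (c : Fin n → F) (B : AddSubgroup (Fin n → F))
    (hB : ∀ w ∈ B, ∀ u : Fin n → F, ⟪u, u⟫ = 0 → ⟪u, c⟫ = 0 → ∀ a : F, a ^ q = -a → (a * ⟪w, u⟫) • u ∈ B)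
    {w : Fin n → F} (hw : w ∈ B) (hwc : ⟪w, c⟫ = 0) (hws : w ∉ Submodule.span F {c}) :
    ∀ x : Fin n → F, ⟪x, c⟫ = 0 → x ∈ B := by
  classical
  obtain ⟨a, ha0, ha⟩ := Uni.exists_skew hF
  have hnot : ∀ u x : Fin n → F, ⟪x, c⟫ = 0 → ⟪x, u⟫ ≠ 0 → u ∉ Submodule.span F {c} := by
    intro u x hxc hxu hu
    obtain ⟨k, rfl⟩ := Submodule.mem_span_singleton.1 hu
    rw [Uni.hermForm_smul_right, hxc, mul_zero] at hxu
    exact hxu rfl
  -- step 1
  obtain ⟨u0, hu0, hu0c, hwu0, -⟩ := exists_iso hF hn c w w hws hws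
  set k0 := a * ⟪w, u0⟫ with hk0
  have hk00 : k0 ≠ 0 := mul_ne_zero ha0 hwu0
  have hB0 : k0 • u0 ∈ B := hB w hw u0 hu0 hu0c a ha
  have hu0s := hnot u0 w hwc hwu0
  obtain ⟨u, huB, hu, huc, hus⟩ : ∃ u ∈ B, ⟪u, u⟫ = 0 ∧ ⟪u, c⟫ = 0 ∧ u ∉ Submodule.span F {c} := by
    refine ⟨k0 • u0, hB0, ?_, ?_, ?_⟩
    · rw [Uni.hermForm_smul_left, Uni.hermForm_smul_right, hu0, mul_zero, mul_zero]
    · rw [Uni.hermForm_smul_left, hu0c, mul_zero]
    · intro h
      apply hu0s
      have := Submodule.smul_mem _ k0⁻¹ h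
      rwa [smul_smul, inv_mul_cancel₀ hk00, one_smul] at this
  -- step 2
  have step2 : ∀ l : F, l • u ∈ B := by
    intro l
    obtain ⟨u', hu', hu'c, huu', -⟩ := exists_iso hF hn c u u hus hus
    set v := (a * ⟪u, u'⟫) • u' with hv
    have hvB : v ∈ B := hB u huB u' hu' hu'c a ha
    have hvv : ⟪v, v⟫ = 0 := by rw [hv, Uni.hermForm_smul_left, Uni.hermForm_smul_right, hu', mul_zero, mul_zero]
    have hvc : ⟪v, c⟫ = 0 := by rw [hv, Uni.hermForm_smul_left, hu'c, mul_zero]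
    have huv : ⟪v, u⟫ ≠ 0 := by
      rw [hv, Uni.hermForm_smul_left]
      exact mul_ne_zero (mul_ne_zero ha0 huu') (fun h => huu' ((Uni.hermForm_eq_zero_comm hF).1 h))
    set k := ⟪v, u⟫ with hk
    have huvk : ⟪u, v⟫ = k ^ q := by rw [hk, Uni.hermForm_symm hF]
    set β := l / (a * (a * k) * k) with hβ
    have hden : a * (a * k) * k ≠ 0 := mul_ne_zero (mul_ne_zero ha0 (mul_ne_zero ha0 huv)) huv
    obtain ⟨z, hz, hzz⟩ := exists_z' hF ({c, u, v} : Finset (Fin n → F)) (by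
      have : ({c, u, v} : Finset (Fin n → F)).card ≤ 3 := Finset.card_le_three
      omega) (x := v) (y := u) (by simp) (by simp) huv (s := -(β ^ q * k ^ q + β * k)) (by
        rw [Uni.neg_pow_q hF, Uni.add_pow_q hF, mul_pow, Uni.pow_q_pow_q hF, Uni.pow_q_pow_q hF, mul_pow]
        ring)
    have hzc := hz c (by simp)
    have hzu := hz u (by simp)
    have hzv := hz v (by simp)
    have huz := (Uni.hermForm_eq_zero_comm hF).1 hzu
    have hvz := (Uni.hermForm_eq_zero_comm hF).1 hzv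
    set y := u + β • v + z with hy
    have hyy : ⟪y, y⟫ = 0 := by
      rw [hy]
      simp only [Uni.hermForm_add_left, Uni.hermForm_add_right hF, Uni.hermForm_smul_left, Uni.hermForm_smul_right,
        hu, hvv, hzu, hzv, huz, hvz, hzz, huvk, ← hk]
      ring
    have hyc : ⟪y, c⟫ = 0 := by
      rw [hy]
      simp only [Uni.hermForm_add_left, Uni.hermForm_smul_left, huc, hvc, hzc]
      ring
    have hvy : ⟪v, y⟫ = k := by
      rw [hy]
      simp only [Uni.hermForm_add_right hF, Uni.hermForm_smul_right, hvv, hvz, ← hk]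
      ring
    have hyu : ⟪y, u⟫ = β * k := by
      rw [hy]
      simp only [Uni.hermForm_add_left, Uni.hermForm_smul_left, hu, hzu, ← hk]
      ring
    have h1 := hB v hvB y hyy hyc a ha
    rw [hvy] at h1
    have h2 := hB _ h1 u hu huc a ha
    rw [Uni.hermForm_smul_left, hyu] at h2
    have h3 : a * (a * k * (β * k)) = l := by
      rw [hβ]
      have : a * (a * k * (l / (a * (a * k) * k) * k)) = (l / (a * (a * k) * k)) * (a * (a * k) * k) := by ring
      rw [this, div_mul_cancel₀ _ hden]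
    rwa [h3] at h2
  -- step 3
  have step3 : ∀ x : Fin n → F, ⟪x, x⟫ = 0 → ⟪x, c⟫ = 0 → x ∉ Submodule.span F {c} → x ∈ B := by
    intro x hx hxc hxs
    obtain ⟨u3, hu3, hu3c, huu3, hxu3⟩ := exists_iso hF hn c u x hus hxs
    have h1 : ∀ l : F, l • u3 ∈ B := by
      intro l
      have h2 := hB _ (step2 (l / (a * ⟪u, u3⟫))) u3 hu3 hu3c a ha
      rw [Uni.hermForm_smul_left] at h2
      have h3 : a * (l / (a * ⟪u, u3⟫) * ⟪u, u3⟫) = l := by
        have h4 : a * (l / (a * ⟪u, u3⟫) * ⟪u, u3⟫) = l / (a * ⟪u, u3⟫) * (a * ⟪u, u3⟫) := by ring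
        rw [h4, div_mul_cancel₀ _ (mul_ne_zero ha0 huu3)]
      rwa [h3] at h2
    have hu3x : ⟪u3, x⟫ ≠ 0 := fun h => hxu3 ((Uni.hermForm_eq_zero_comm hF).1 h)
    have h2 := hB _ (h1 (1 / (a * ⟪u3, x⟫))) x hx hxc a ha
    rw [Uni.hermForm_smul_left] at h2
    have h3 : a * (1 / (a * ⟪u3, x⟫) * ⟪u3, x⟫) = 1 := by
      have h4 : a * (1 / (a * ⟪u3, x⟫) * ⟪u3, x⟫) = 1 / (a * ⟪u3, x⟫) * (a * ⟪u3, x⟫) := by ring
      rw [h4, div_mul_cancel₀ _ (mul_ne_zero ha0 hu3x)]
    rwa [h3, one_smul] at h2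
  -- step 4
  intro x hxc
  by_cases hxx : ⟪x, x⟫ = 0
  · by_cases hxs : x ∈ Submodule.span F {c}
    · have h1 : ⟪u, x⟫ = 0 := by
        obtain ⟨k, rfl⟩ := Submodule.mem_span_singleton.1 hxs
        rw [Uni.hermForm_smul_right, huc, mul_zero]
      have h1' := (Uni.hermForm_eq_zero_comm hF).1 h1
      have h2 : x + u ∈ B := by
        apply step3
        · rw [Uni.hermForm_add_left, Uni.hermForm_add_right hF, Uni.hermForm_add_right hF, h1, h1', hxx, hu]
          ring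
        · rw [Uni.hermForm_add_left, hxc, huc, add_zero]
        · intro h
          apply hus
          have := Submodule.sub_mem _ h hxs
          rwa [add_sub_cancel_left] at this
      have h3 := B.sub_mem h2 huB
      rwa [add_sub_cancel_right] at h3
    · exact step3 x hxx hxc hxs
  · obtain ⟨y, y', α, β, hα, hβ, hy, hy', hxy, hc', hyx, hy'x⟩ := exists_decomp hF hn c x
    obtain ⟨hyc, hy'c⟩ := hc' hxc
    rw [hxy]
    have hcx := (Uni.hermForm_eq_zero_comm hF).1 hxc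
    have hns : ∀ (v : Fin n → F) (k : F), k ≠ 0 → ⟪v, x⟫ = ⟪x, x⟫ → k • v ∉ Submodule.span F {c} := by
      intro v k hk hv hmem
      have h1 : v ∈ Submodule.span F {c} := by
        have := Submodule.smul_mem _ k⁻¹ hmem
        rwa [smul_smul, inv_mul_cancel₀ hk, one_smul] at this
      obtain ⟨m, hm⟩ := Submodule.mem_span_singleton.1 h1
      apply hxx
      rw [← hv, ← hm, Uni.hermForm_smul_left, hcx, mul_zero]
    refine B.add_mem (step3 _ ?_ ?_ (hns y α hα hyx)) (step3 _ ?_ ?_ (hns y' β hβ hy'x))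
    · rw [Uni.hermForm_smul_left, Uni.hermForm_smul_right, hy, mul_zero, mul_zero]
    · rw [Uni.hermForm_smul_left, hyc, mul_zero]
    · rw [Uni.hermForm_smul_left, Uni.hermForm_smul_right, hy', mul_zero, mul_zero]
    · rw [Uni.hermForm_smul_left, hy'c, mul_zero]

lemma full_of_extra (hF : Fintype.card F = q ^ 2) (hn : 6 ≤ n) {M : Subgroup (GL (Fin n) F)} (hM : AllUT q M)
    {c w : Fin n → F} (hw : HasT M c (cv q w)) (hws : w ∉ Submodule.span F {c}) : Full M c := by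
  have hwc : ⟪w, c⟫ = 0 := by
    have h1 := hw.1
    rw [cv_dotProduct] at h1
    exact (Uni.hermForm_eq_zero_comm hF).1 h1
  let B : AddSubgroup (Fin n → F) :=
    { carrier := {w | HasT M c (cv q w)}
      add_mem' := fun {x y} hx hy => by
        change HasT M c (cv q (x + y))
        rw [cv_add hF]; exact HasT.add_right hx hy
      zero_mem' := by
        change HasT M c (cv q 0)
        rw [cv_zero hF]; exact HasT.zero_right _ _
      neg_mem' := fun {x} hx => by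
        change HasT M c (cv q (-x))
        rw [cv_neg hF]; exact HasT.neg_right hx }
  have key := closure_lemma hF hn c B (w := w) (by
    intro x hx u hu huc a ha
    change HasT M c (cv q _)
    have hcu : ⟪c, u⟫ = 0 := (Uni.hermForm_eq_zero_comm hF).1 huc
    have h0 := skew_dot hu a
    have hg := hM.tvec_mem hu ha h0
    have hgU : tvec u (a • cv q u) h0 ∈ Cfsg.GU n F q := (tvec_mem hF h0 ha).1
    have h1 := HasT.conj (show HasT M c (cv q x) from hx) hg
    rw [tvec_mulVec, smul_dotProduct, cv_dotProduct, hcu, smul_zero, zero_smul, add_zero, cv_vecMul_inv hgU,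
      tvec_mulVec, cv_add hF] at h1
    have h2 := HasT.sub_right h1 (show HasT M c (cv q x) from hx)
    rw [add_sub_cancel_left, smul_dotProduct, cv_dotProduct, smul_eq_mul] at h2
    exact h2) hw hwc hws
  intro w' hw'
  have h1 := key (cv q w') (by
    rw [Uni.hermForm_eq_zero_comm hF, ← cv_dotProduct, cv_cv hF]; exact hw')
  change HasT M c (cv q (cv q w')) at h1
  rwa [cv_cv hF] at h1

theorem sl_le_of_full (hF : Fintype.card F = q ^ 2) (hn : 6 ≤ n) {M : Subgroup (GL (Fin n) F)} (hM : AllUT q M)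
    {c : Fin n → F} (hc0 : c ≠ 0) (hc : Full M c) : specialLinear (Fin n) F ≤ M := by
  obtain ⟨a, ha0, ha⟩ := Uni.exists_skew hF
  -- the invariant subspace
  let D : Submodule F (Fin n → F) :=
    { carrier := {x | Full M x}
      add_mem' := fun {x y} hx hy => Full.add hx hy
      zero_mem' := fun w _ => HasT.zero_left _ _
      smul_mem' := fun k x hx => Full.smul hx k }
  have hD : ∀ x ∈ D, ∀ u : Fin n → F, ⟪u, u⟫ = 0 → ⟪x, u⟫ ≠ 0 → u ∈ D := by
    intro x hx u hu hxu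
    have h0 := skew_dot hu a
    have hg := hM.tvec_mem hu ha h0
    have h1 : Full M _ := Full.conj (show Full M x from hx) hg
    rw [tvec_mulVec, smul_dotProduct, cv_dotProduct] at h1
    have h2 := D.sub_mem (show _ ∈ D from h1) hx
    rw [add_sub_cancel_left, smul_eq_mul] at h2
    have h3 := D.smul_mem (a * ⟪x, u⟫)⁻¹ h2
    rwa [smul_smul, inv_mul_cancel₀ (mul_ne_zero ha0 hxu), one_smul] at h3
  have hiso : ∀ u : Fin n → F, ⟪u, u⟫ = 0 → u ∈ D := by
    intro u hu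
    by_cases hu0 : u = 0
    · rw [hu0]; exact D.zero_mem
    obtain ⟨v, hv, hcv, huv⟩ := Uni.exists_isotropic_form_ne_two hF (by omega) hc0 hu0
    have h1 := hD c hc v hv hcv
    exact hD v h1 u hu (fun h => huv ((Uni.hermForm_eq_zero_comm hF).1 h))
  have hall : ∀ x, x ∈ D := by
    intro x
    obtain ⟨y, y', α, β, -, -, hy, hy', hxy, -⟩ := exists_decomp hF hn (0 : Fin n → F) x
    rw [hxy]
    exact D.add_mem (D.smul_mem _ (hiso y hy)) (D.smul_mem _ (hiso y' hy'))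
  have : Nontrivial (Fin n) := Fin.nontrivial_iff_two_le.2 (by omega)
  exact specialLinear_le_of_hasT M (fun v w hw => hall v w hw)

/-- the similarity alternative -/
theorem sim_or_sl (hF : Fintype.card F = q ^ 2) (hn : 6 ≤ n) {M : Subgroup (GL (Fin n) F)} (hM : AllUT q M) :
    M ≤ similarityGroup (Cfsg.hermForm n F q) ∨ specialLinear (Fin n) F ≤ M := by
  classical
  by_cases hext : ∃ c w : Fin n → F, HasT M c (cv q w) ∧ w ∉ Submodule.span F {c} ∧ c ≠ 0
  · right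
    obtain ⟨c, w, hw, hws, hc0⟩ := hext
    exact sl_le_of_full hF hn hM hc0 (full_of_extra hF hn hM hw hws)
  left
  push Not at hext
  obtain ⟨a, ha0, ha⟩ := Uni.exists_skew hF
  intro g hg
  -- images of isotropic vectors
  have h1 : ∀ v : Fin n → F, ⟪v, v⟫ = 0 → v ≠ 0 → ∃ μ : F,
      ∀ x, ⟪(g : Matrix (Fin n) (Fin n) F) *ᵥ x, (g : Matrix (Fin n) (Fin n) F) *ᵥ v⟫ = μ * ⟪x, v⟫ := by
    intro v hv hv0
    have hgv0 : (g : Matrix (Fin n) (Fin n) F) *ᵥ v ≠ 0 := by
      intro h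
      apply hv0
      apply gl_mulVec_injective g
      simpa using h
    have h2 := (hM v hv a ha).conj hg
    set w' := (a • cv q v) ᵥ* ((g⁻¹ : GL (Fin n) F) : Matrix (Fin n) (Fin n) F) with hw'
    have h3 : cv q v ᵥ* ((g⁻¹ : GL (Fin n) F) : Matrix (Fin n) (Fin n) F) = a⁻¹ • w' := by
      rw [hw', Matrix.smul_vecMul, smul_smul, inv_mul_cancel₀ ha0, one_smul]
    have h4 : ∀ x, ⟪x, v⟫ = a⁻¹ * (w' ⬝ᵥ ((g : Matrix (Fin n) (Fin n) F) *ᵥ x)) := by
      intro x
      rw [← smul_eq_mul, ← smul_dotProduct, ← h3, ← Matrix.dotProduct_mulVec, gl_inv_mulVec, cv_dotProduct]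
    rw [← cv_cv hF w'] at h2
    by_contra hcon
    push Not at hcon
    by_cases hs : cv q w' ∈ Submodule.span F {(g : Matrix (Fin n) (Fin n) F) *ᵥ v}
    · obtain ⟨k, hk⟩ := Submodule.mem_span_singleton.1 hs
      have hw'' : w' = k ^ q • cv q ((g : Matrix (Fin n) (Fin n) F) *ᵥ v) := by
        rw [← cv_smul, hk, cv_cv hF]
      by_cases hk0 : k = 0
      · -- then `⟪x, v⟫ = 0` for all `x`
        obtain ⟨x, hx⟩ := Uni.exists_form_ne (q := q) hF hv0
        have h5 := h4 x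
        rw [hw'', hk0, Uni.zero_pow_q hF, zero_smul, zero_dotProduct, mul_zero] at h5
        exact hx ((Uni.hermForm_eq_zero_comm hF).1 h5)
      · obtain ⟨x, hx⟩ := hcon (a / k ^ q)
        apply hx
        rw [h4 x, hw'', smul_dotProduct, cv_dotProduct, smul_eq_mul]
        have : k ^ q ≠ 0 := pow_ne_zero _ hk0
        field_simp
    · exact hgv0 (hext _ _ h2 hs)
  choose! μ hμ using h1
  -- constancy
  have h2 : ∀ v w : Fin n → F, ⟪v, v⟫ = 0 → v ≠ 0 → ⟪w, w⟫ = 0 → w ≠ 0 → ⟪v, w⟫ ≠ 0 → μ w = (μ v) ^ q := by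
    intro v w hv hv0 hw hw0 hvw
    have h3 := hμ w hw hw0 v
    have h4 := hμ v hv hv0 w
    have h5 := congrArg (fun t => t ^ q) h4
    simp only [mul_pow] at h5
    rw [Uni.hermForm_symm hF, Uni.hermForm_symm hF, h3] at h5
    exact mul_right_cancel₀ hvw h5
  have h3 : ∀ v w : Fin n → F, ⟪v, v⟫ = 0 → v ≠ 0 → ⟪w, w⟫ = 0 → w ≠ 0 → μ v = μ w := by
    intro v w hv hv0 hw hw0
    obtain ⟨u, hu, hvu, hwu⟩ := Uni.exists_isotropic_form_ne_two (q := q) hF (by omega) hv0 hw0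
    have hu0 : u ≠ 0 := by
      rintro rfl
      exact hvu (Uni.hermForm_zero_right hF v)
    have h4 := h2 v u hv hv0 hu hu0 hvu
    have h5 := h2 w u hw hw0 hu hu0 hwu
    rw [h4] at h5
    exact (Uni.pow_q_inj hF).1 h5
  obtain ⟨v0, hv00, hv0⟩ := Uni.exists_isotropic (F := F) (n := n) hF (by omega)
  set m := μ v0 with hm
  have h4 : ∀ v : Fin n → F, ⟪v, v⟫ = 0 → ∀ x,
      ⟪(g : Matrix (Fin n) (Fin n) F) *ᵥ x, (g : Matrix (Fin n) (Fin n) F) *ᵥ v⟫ = m * ⟪x, v⟫ := by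
    intro v hv x
    by_cases hv' : v = 0
    · rw [hv', Matrix.mulVec_zero, Uni.hermForm_zero_right hF, Uni.hermForm_zero_right hF, mul_zero]
    · rw [hμ v hv hv' x, h3 v v0 hv hv' hv0 hv00]
  have h5 : ∀ x y : Fin n → F,
      ⟪(g : Matrix (Fin n) (Fin n) F) *ᵥ x, (g : Matrix (Fin n) (Fin n) F) *ᵥ y⟫ = m * ⟪x, y⟫ := by
    intro x y
    obtain ⟨z, z', α, β, -, -, hz, hz', hxy, -⟩ := exists_decomp hF hn (0 : Fin n → F) y
    rw [hxy, Matrix.mulVec_add, Matrix.mulVec_smul, Matrix.mulVec_smul, Uni.hermForm_add_right hF,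
      Uni.hermForm_smul_right, Uni.hermForm_smul_right, h4 z hz, h4 z' hz', Uni.hermForm_add_right hF,
      Uni.hermForm_smul_right, Uni.hermForm_smul_right]
    ring
  have hm0 : m ≠ 0 := by
    intro h0
    obtain ⟨x, hx⟩ := Uni.exists_form_ne (q := q) hF (u := (g : Matrix (Fin n) (Fin n) F) *ᵥ v0) (by
      intro h
      apply hv00
      apply gl_mulVec_injective g
      simpa using h)
    apply hx
    have h6 := h5 v0 (((g⁻¹ : GL (Fin n) F) : Matrix (Fin n) (Fin n) F) *ᵥ x)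
    rwa [gl_mulVec_inv, h0, zero_mul] at h6
  exact ⟨Units.mk0 m hm0, h5⟩

/-- the similarity group of the standard hermitian form is maximal in `SL` -/
theorem std_sim_maximal (hF : Fintype.card F = q ^ 2) (hn : 6 ≤ n) :
    IsMaximalIn (specialLinear (Fin n) F) (similarityGroup (Cfsg.hermForm n F q) ⊓ specialLinear (Fin n) F) := by
  classical
  refine ⟨lt_of_le_of_ne inf_le_right ?_, ?_⟩
  · intro heq
    -- the transvection `e₁ ↦ e₁ + e₀`
    let i0 : Fin n := ⟨0, by omega⟩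
    let i1 : Fin n := ⟨1, by omega⟩
    have hne : i1 ≠ i0 := by simp [i0, i1]
    have hne' : i0 ≠ i1 := hne.symm
    have h0 : (Pi.single i1 (1 : F) : Fin n → F) ⬝ᵥ Pi.single i0 1 = 0 := by
      simp [hne']
    have h1 : tvec (Pi.single i0 (1 : F)) (Pi.single i1 1) h0 ∈ specialLinear (Fin n) F := tvec_det _ _ _
    rw [← heq] at h1
    obtain ⟨⟨c, hc⟩, -⟩ := h1
    have h2 := hc (Pi.single i0 1) (Pi.single i0 1)
    have h3 := hc (Pi.single i1 1) (Pi.single i1 1)
    rw [tvec_mulVec] at h2 h3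
    have hq := Uni.q_ne_zero hF
    have e00 : Cfsg.hermForm n F q (Pi.single i0 1) (Pi.single i0 1) = 1 := by
      rw [Uni.hermForm_single_left]; simp
    have e11 : Cfsg.hermForm n F q (Pi.single i1 1) (Pi.single i1 1) = 1 := by
      rw [Uni.hermForm_single_left]; simp
    have e01 : Cfsg.hermForm n F q (Pi.single i0 1) (Pi.single i1 1) = 0 := by
      rw [Uni.hermForm_single_left, Pi.single_eq_of_ne hne', zero_pow hq]
    have e10 : Cfsg.hermForm n F q (Pi.single i1 1) (Pi.single i0 1) = 0 := by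
      rw [Uni.hermForm_single_left, Pi.single_eq_of_ne hne, zero_pow hq]
    rw [h0, zero_smul, add_zero, e00, mul_one] at h2
    have h4 : (Pi.single i1 (1 : F) : Fin n → F) ⬝ᵥ Pi.single i1 1 = 1 := by simp
    rw [h4, one_smul, Uni.hermForm_add_left, Uni.hermForm_add_right hF, Uni.hermForm_add_right hF, e00, e11, e01,
      e10, ← h2] at h3
    exact one_ne_zero (α := F) (by linear_combination h3)
  · intro M hGM hMS
    have hsu : Cfsg.GU n F q ⊓ specialLinear (Fin n) F ≤ M := by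
      intro g hg
      apply hGM
      refine ⟨⟨1, fun u v => ?_⟩, hg.2⟩
      rw [Units.val_one, one_mul]
      exact mem_GU.1 hg.1 u v
    rcases sim_or_sl hF hn (allUT_of_su_le hF hsu) with h | h
    · left
      exact le_antisymm (le_inf h hMS) hGM
    · right
      exact le_antisymm hMS h

theorem sim_maximal (hn : 6 ≤ n) {σ : F ≃+* F} {f : (Fin n → F) → (Fin n → F) → F} (hf : IsUnitaryForm σ f) :
    IsMaximalIn (specialLinear (Fin n) F) (similarityGroup f ⊓ specialLinear (Fin n) F) := by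
  obtain ⟨q, hq, -, S, hS⟩ := exists_std_form hf
  have h1 := Cfsg.Agent.H98.Subf.isMaximalIn_map (MulAut.conj S) (std_sim_maximal hq hn)
  rw [Subgroup.map_inf _ _ _ (MulAut.conj S).injective, Cfsg.Agent.H98.Subf.map_conj_specialLinear] at h1
  have h2 := map_conj_similarityGroup S hS
  rwa [h2] at h1

end Cfsg.Agent.H94.UniSim6
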