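import Mathlib

/-!
# Derived lengths of `p`-subgroups of groups containing wreath products
-/
set_option autoImplicit false

namespace Cfsg.Agent.H94.Wr

open Subgroup
open scoped commutatorElement

/-! ## derived series helpers -/

section ds
variable {G H : Type*} [Group G] [Group H]

theorem ds_bot_of_injective (f : H →* G) (hf : Function.Injective f) {m : ℕ} (h : derivedSeries G m = ⊥) :
    derivedSeries H m = ⊥ := by
  have h1 := map_derivedSeries_le_derivedSeries f m
  rw [h, le_bot_iff, Subgroup.map_eq_bot_iff_of_injective _ hf] at h1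
  exact h1

theorem ds_bot_of_surjective (f : H →* G) (hf : Function.Surjective f) {m : ℕ} (h : derivedSeries H m = ⊥) :
    derivedSeries G m = ⊥ := by
  rw [← map_derivedSeries_eq hf m, h, Subgroup.map_bot]

theorem ds_le_map (f : H →* G) {b : ℕ} (hb : derivedSeries G b ≤ f.range) (a : ℕ) :
    derivedSeries G (b + a) ≤ (derivedSeries H a).map f := by
  induction a with
  | zero =>
    rw [derivedSeries_zero, ← MonoidHom.range_eq_map]; exact hb
  | succ a ih =>
    rw [← add_assoc, derivedSeries_succ, derivedSeries_succ, Subgroup.map_commutator]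
    exact Subgroup.commutator_mono ih ih

theorem map_ds_le (f : H →* G) (hf : f.range ≤ commutator G) (j : ℕ) :
    (derivedSeries H j).map f ≤ derivedSeries G (j + 1) := by
  induction j with
  | zero =>
    rw [derivedSeries_zero, ← MonoidHom.range_eq_map, derivedSeries_one]; exact hf
  | succ a ih =>
    rw [derivedSeries_succ, Subgroup.map_commutator, derivedSeries_succ (G := G) (a + 1)]
    exact Subgroup.commutator_mono ih ih

theorem ds_mono {m n : ℕ} (h : m ≤ n) (hm : derivedSeries G m = ⊥) : derivedSeries G n = ⊥ := by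
  have : derivedSeries G n ≤ derivedSeries G m := derivedSeries_antitone G h
  rw [hm] at this
  exact le_bot_iff.mp this

theorem ds_one_of_comm (h : ∀ a b : G, a * b = b * a) : derivedSeries G 1 = ⊥ := by
  rw [derivedSeries_one, commutator_def, Subgroup.commutator_eq_bot_iff_le_centralizer]
  intro x _
  rw [Subgroup.mem_centralizer_iff]
  intro y _
  exact h y x

end ds

/-- derived length of every `p`-subgroup at most `m` -/
def DLe (p : ℕ) (G : Type*) [Group G] (m : ℕ) : Prop := ∀ P : Subgroup G, IsPGroup p P → derivedSeries P m = ⊥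

/-- some `p`-subgroup has derived length more than `j` -/
def DGe (p : ℕ) (G : Type*) [Group G] (j : ℕ) : Prop := ∃ P : Subgroup G, IsPGroup p P ∧ derivedSeries P j ≠ ⊥

section basic
variable {p : ℕ} {G H : Type*} [Group G] [Group H]

theorem DLe.mono {m n : ℕ} (h : DLe p G m) (hmn : m ≤ n) : DLe p G n := fun P hP => ds_mono hmn (h P hP)

theorem DLe.of_injective (f : H →* G) (hf : Function.Injective f) {m : ℕ} (h : DLe p G m) : DLe p H m := by
  intro P hP
  have e : P ≃* P.map f := P.equivMapOfInjective f hf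
  exact ds_bot_of_injective e.toMonoidHom e.injective (h _ (hP.map f))

theorem DGe.of_injective (f : H →* G) (hf : Function.Injective f) {j : ℕ} (h : DGe p H j) : DGe p G j := by
  obtain ⟨P, hP, hj⟩ := h
  refine ⟨P.map f, hP.map f, fun h => hj ?_⟩
  have e : P ≃* P.map f := P.equivMapOfInjective f hf
  exact ds_bot_of_injective e.toMonoidHom e.injective h

theorem DLe.of_sylow [Finite G] [Fact p.Prime] (P : Sylow p G) {m : ℕ} (h : derivedSeries (P : Subgroup G) m = ⊥) : DLe p G m := by
  intro Q hQ
  obtain ⟨R, hR⟩ := hQ.exists_le_sylow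
  have h1 : derivedSeries (R : Subgroup G) m = ⊥ := by
    have e := Sylow.equiv R P
    exact ds_bot_of_injective e.toMonoidHom e.injective h
  exact ds_bot_of_injective (Subgroup.inclusion hR) (Subgroup.inclusion_injective hR) h1

theorem DLe.of_card [Finite G] [Fact p.Prime] (P : Subgroup G) (hc : Nat.card P = p ^ (Nat.card G).factorization p)
    {m : ℕ} (h : derivedSeries P m = ⊥) : DLe p G m :=
  DLe.of_sylow (Sylow.ofCard P hc) h

theorem DGe.sylow [Finite G] [Fact p.Prime] {j : ℕ} (h : DGe p G j) (P : Sylow p G) : derivedSeries (P : Subgroup G) j ≠ ⊥ := by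
  obtain ⟨Q, hQ, hj⟩ := h
  intro h1
  exact hj (DLe.of_sylow P h1 Q hQ)

theorem card_sylow [Finite G] [Fact p.Prime] (P : Sylow p G) :
    Nat.card P = p ^ (Nat.card G).factorization p := Sylow.card_eq_multiplicity P

/-- if the order is prime to `p` then everything is trivial -/
theorem DLe.of_coprime [Finite G] [Fact p.Prime] (h : (Nat.card G).factorization p = 0) : DLe p G 0 := by
  refine DLe.of_card (⊥ : Subgroup G) ?_ ?_
  · rw [h]; simp
  · rw [derivedSeries_zero]
    exact Subsingleton.elim _ _

/-- transfer along an injective homomorphism with image of index prime to `p` -/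
theorem DLe.of_injective_index [Finite G] [Fact p.Prime] (f : H →* G) (hf : Function.Injective f)
    (hv : (Nat.card G).factorization p = (Nat.card H).factorization p) {m : ℕ} (h : DLe p H m) : DLe p G m := by
  have : Finite H := Finite.of_injective f hf
  obtain ⟨P⟩ := (inferInstance : Nonempty (Sylow p H))
  have e : (P : Subgroup H) ≃* (P : Subgroup H).map f := (P : Subgroup H).equivMapOfInjective f hf
  refine DLe.of_card ((P : Subgroup H).map f) ?_ ?_
  · rw [hv, ← card_sylow P]
    exact (Nat.card_congr e.toEquiv).symm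
  · exact ds_bot_of_injective e.symm.toMonoidHom e.symm.injective (h _ P.isPGroup')

end basic

/-! ## wreath data -/

/-- `G` contains a copy of `S ≀ Sym(ι)` -/
structure Wrd (ι S G : Type*) [Group S] [Group G] where
  Δ : (ι → S) →* G
  σ : Equiv.Perm ι →* G
  inj : Function.Injective Δ
  conj : ∀ s v, σ s * Δ v * (σ s)⁻¹ = Δ (fun i => v (s⁻¹ i))
  int : ∀ s v, σ s = Δ v → s = 1

namespace Wrd
variable {ι κ S G : Type*} [Group S] [Group G]

theorem comm (w : Wrd ι S G) (s : Equiv.Perm ι) (v : ι → S) : w.σ s * w.Δ v = w.Δ (fun i => v (s⁻¹ i)) * w.σ s := by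
  rw [← w.conj, inv_mul_cancel_right]

theorem σ_inj (w : Wrd ι S G) : Function.Injective w.σ := by
  intro a b h
  have h1 : w.σ (a * b⁻¹) = w.Δ 1 := by rw [map_mul, map_inv, h, mul_inv_cancel, map_one]
  exact mul_inv_eq_one.mp (w.int _ _ h1)

/-- reindexing -/
def congr (w : Wrd ι S G) (e : κ ≃ ι) : Wrd κ S G where
  Δ := w.Δ.comp { toFun := fun v i => v (e.symm i), map_one' := rfl, map_mul' := fun _ _ => rfl }
  σ := w.σ.comp (Equiv.permCongrHom e).toMonoidHom
  inj := by
    intro v v' h
    have h1 := w.inj h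
    funext k
    have := congrFun h1 (e k)
    simpa using this
  conj := by
    intro s v
    change w.σ (Equiv.permCongrHom e s) * w.Δ (fun i => v (e.symm i)) * (w.σ (Equiv.permCongrHom e s))⁻¹ = w.Δ _
    rw [w.conj]
    congr 1
    funext i
    change v (e.symm ((Equiv.permCongrHom e s)⁻¹ i)) = v (s⁻¹ (e.symm i))
    rw [← map_inv]
    congr 1
    simp [Equiv.permCongrHom]
  int := by
    intro s v h
    have h1 := w.int _ _ h
    exact (Equiv.permCongrHom e).injective (by rw [map_one]; exact h1)

open Classical in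
/-- restriction to a subset -/
noncomputable def restrict (w : Wrd ι S G) (e : κ ↪ ι) : Wrd κ S G where
  Δ := w.Δ.comp
    { toFun := fun v i => if h : ∃ k, e k = i then v h.choose else 1
      map_one' := by funext i; simp
      map_mul' := by
        intro v v'; funext i
        by_cases h : ∃ k, e k = i
        · simp only [Pi.mul_apply, dif_pos h]
        · simp only [Pi.mul_apply, dif_neg h, mul_one] }
  σ := w.σ.comp (Equiv.Perm.viaEmbeddingHom e)
  inj := by
    intro v v' h
    have h1 := w.inj h
    funext k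
    have h2 := congrFun h1 (e k)
    have hk : ∃ k', e k' = e k := ⟨k, rfl⟩
    change (if h : ∃ k', e k' = e k then v h.choose else 1) = (if h : ∃ k', e k' = e k then v' h.choose else 1) at h2
    rw [dif_pos hk, dif_pos hk] at h2
    have h3 : hk.choose = k := e.injective hk.choose_spec
    rwa [h3] at h2
  conj := by
    intro s v
    change w.σ _ * w.Δ _ * (w.σ _)⁻¹ = w.Δ _
    rw [w.conj]
    congr 1
    funext i
    change (if h : ∃ k', e k' = ((Equiv.Perm.viaEmbeddingHom e s)⁻¹ i) then v h.choose else 1) = (if h : ∃ k', e k' = i then v (s⁻¹ h.choose) else 1)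
    rw [← map_inv]
    change (if h : ∃ k', e k' = (Equiv.Perm.viaEmbedding s⁻¹ e i) then v h.choose else 1) = _
    by_cases h : ∃ k, e k = i
    · obtain ⟨k, rfl⟩ := h
      have hk : ∃ k', e k' = e k := ⟨k, rfl⟩
      have h3 : hk.choose = k := e.injective hk.choose_spec
      rw [dif_pos hk, h3]
      have h4 : Equiv.Perm.viaEmbedding s⁻¹ e (e k) = e (s⁻¹ k) := Equiv.Perm.viaEmbedding_apply _ _ _
      have hk' : ∃ k', e k' = Equiv.Perm.viaEmbedding s⁻¹ e (e k) := ⟨s⁻¹ k, h4.symm⟩
      rw [dif_pos hk']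
      congr 1
      exact e.injective (hk'.choose_spec.trans h4)
    · rw [dif_neg h]
      have h4 : Equiv.Perm.viaEmbedding s⁻¹ e i = i := Equiv.Perm.viaEmbedding_apply_of_notMem _ _ _ (by rintro ⟨k, hk⟩; exact h ⟨k, hk⟩)
      rw [h4, dif_neg h]
  int := by
    intro s v h
    have h1 := w.int _ _ h
    exact Equiv.Perm.viaEmbeddingHom_injective e (by rw [map_one]; exact h1)

end Wrd

/-- the action for the wreath product -/
def wact (ι S : Type*) [Group S] : Equiv.Perm ι →* MulAut (ι → S) where
  toFun s :=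
    { toFun := fun v i => v (s⁻¹ i)
      invFun := fun v i => v (s i)
      left_inv := fun v => by funext i; simp
      right_inv := fun v => by funext i; simp
      map_mul' := fun _ _ => rfl }
  map_one' := by ext v i; rfl
  map_mul' s t := by ext v i; rfl

/-- the full wreath product `S ≀ Sym(ι)` -/
abbrev W (ι S : Type*) [Group S] : Type _ := (ι → S) ⋊[wact ι S] Equiv.Perm ι

/-- the tautological wreath datum -/
def Wrd.self (ι S : Type*) [Group S] : Wrd ι S (W ι S) where
  Δ := SemidirectProduct.inl
  σ := SemidirectProduct.inr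
  inj := SemidirectProduct.inl_injective
  conj := by
    intro s v
    rw [← map_inv SemidirectProduct.inr, ← SemidirectProduct.inl_aut]
    rfl
  int := by
    intro s v h
    have := congrArg SemidirectProduct.right h
    simpa using this

/-- nesting of wreath products -/
def Wrd.nest {κ l S G : Type*} [Group S] [Group G] [Nonempty l] (w : Wrd (κ × l) S G) : Wrd κ (W l S) G where
  Δ :=
    { toFun := fun v => w.Δ (fun x => (v x.1).left x.2) * w.σ (Equiv.prodCongrRight (fun k => (v k).right))
      map_one' := by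
        have h1 : (fun x : κ × l => ((1 : κ → W l S) x.1).left x.2) = 1 := rfl
        have h2 : (Equiv.prodCongrRight (fun k => ((1 : κ → W l S) k).right) : Equiv.Perm (κ × l)) = 1 := by
          ext x <;> rfl
        rw [h1, h2, map_one, map_one, mul_one]
      map_mul' := by
        intro v v'
        have h1 : w.Δ (fun x => (v x.1).left x.2) * w.σ (Equiv.prodCongrRight (fun k => (v k).right)) *
          (w.Δ (fun x => (v' x.1).left x.2) * w.σ (Equiv.prodCongrRight (fun k => (v' k).right))) =
          w.Δ (fun x => (v x.1).left x.2) * (w.σ (Equiv.prodCongrRight (fun k => (v k).right)) *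
          w.Δ (fun x => (v' x.1).left x.2)) * w.σ (Equiv.prodCongrRight (fun k => (v' k).right)) := by group
        rw [h1, w.comm, ← mul_assoc (w.Δ _), ← map_mul, mul_assoc (w.Δ _), ← map_mul]
        congr 1 }
  σ := w.σ.comp
    { toFun := fun s => Equiv.prodCongrLeft (fun _ : l => s)
      map_one' := by ext x <;> rfl
      map_mul' := fun s t => by ext x <;> rfl }
  inj := by
    rw [injective_iff_map_eq_one]
    intro v h
    have h1 : w.σ (Equiv.prodCongrRight (fun k => (v k).right)) = w.Δ (fun x => (v x.1).left x.2)⁻¹ := by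
      rw [map_inv]
      exact (eq_inv_of_mul_eq_one_right h)
    have h2 := w.int _ _ h1
    rw [h2, map_one] at h1
    have h3 : w.Δ 1 = w.Δ (fun x => (v x.1).left x.2)⁻¹ := by rw [map_one, ← h1]
    have h4 := w.inj h3
    funext k
    refine SemidirectProduct.ext ?_ ?_
    · funext y
      have := congrFun h4 (k, y)
      simpa using this.symm
    · ext y
      have := congrArg (fun g : Equiv.Perm (κ × l) => (g (k, y)).2) h2
      exact this
  conj := by
    intro s v
    change w.σ (Equiv.prodCongrLeft (fun _ : l => s)) * (w.Δ _ * w.σ _) * (w.σ _)⁻¹ = w.Δ _ * w.σ _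
    rw [mul_inv_eq_iff_eq_mul, ← mul_assoc, w.comm, mul_assoc, mul_assoc, ← map_mul, ← map_mul]
    congr 1
    congr 1
    ext x <;> simp
  int := by
    intro s v h
    change w.σ _ = w.Δ _ * w.σ _ at h
    have h1 : w.σ (Equiv.prodCongrLeft (fun _ : l => s) * (Equiv.prodCongrRight (fun k => (v k).right))⁻¹) = w.Δ (fun x => (v x.1).left x.2) := by
      rw [map_mul, map_inv, mul_inv_eq_iff_eq_mul]
      exact h
    have h2 := mul_inv_eq_one.mp (w.int _ _ h1)
    obtain ⟨y⟩ := ‹Nonempty l›
    ext k
    have := congrArg (fun g : Equiv.Perm (κ × l) => (g (k, y)).1) h2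
    exact this


/-! ## lower bound -/

section lower
variable {p : ℕ} [hp : Fact p.Prime]

theorem dge_step {S G : Type*} [Group S] [Group G] (w : Wrd (ZMod p) S G) {j : ℕ} (h : DGe p S j) :
    DGe p G (j + 1) := by
  classical
  obtain ⟨P, hP, hj⟩ := h
  have hp2 : 2 ≤ p := hp.out.two_le
  -- the cycle
  let c : Equiv.Perm (ZMod p) := Equiv.addRight 1
  have hcp : ∀ k : ℕ, (c ^ k) = Equiv.addRight (k : ZMod p) := by
    intro k
    induction k with
    | zero => ext x; simp
    | succ k ih =>
      ext x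
      rw [pow_succ, ih, Equiv.Perm.mul_apply]
      simp only [c, Equiv.coe_addRight, Nat.cast_succ]
      ring_nf
  have hc1 : c ^ p = 1 := by
    rw [hcp]; ext x; simp
  let E0 : (ZMod p → P) →* G := w.Δ.comp (P.subtype.compLeft (ZMod p))
  have hE0 : Function.Injective E0 := by
    intro a b h
    have h1 := w.inj h
    funext i
    exact Subtype.ext (congrFun h1 i)
  have hEp : IsPGroup p E0.range := by
    have hfin : IsPGroup p (ZMod p → P) := by
      intro v
      have h1 : ∀ i, ∃ k, (v i) ^ p ^ k = 1 := fun i => hP (v i)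
      choose k hk using h1
      refine ⟨Finset.univ.sup k, ?_⟩
      funext i
      have h2 : k i ≤ Finset.univ.sup k := Finset.le_sup (Finset.mem_univ i)
      obtain ⟨m, hm⟩ := Nat.exists_eq_add_of_le h2
      rw [Pi.pow_apply, hm, pow_add, pow_mul, hk, one_pow, Pi.one_apply]
    exact hfin.of_surjective E0.rangeRestrict E0.rangeRestrict_surjective
  have hCp : IsPGroup p (zpowers (w.σ c)) := by
    rintro ⟨_, n, rfl⟩
    refine ⟨1, ?_⟩
    apply Subtype.ext
    change ((w.σ c) ^ n) ^ (p ^ 1) = 1
    rw [pow_one, ← map_zpow, ← map_pow, ← zpow_natCast, ← zpow_mul, mul_comm, zpow_mul, zpow_natCast, hc1, one_zpow, map_one]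
  have hnorm : zpowers (w.σ c) ≤ normalizer (E0.range : Set G) := by
    rw [zpowers_le, mem_normalizer_iff]
    intro x
    constructor
    · rintro ⟨v, rfl⟩
      refine ⟨fun i => v (c⁻¹ i), ?_⟩
      exact (w.conj c (fun i => (v i : S))).symm
    · rintro ⟨v, hv⟩
      refine ⟨fun i => v (c i), ?_⟩
      have h1 : x = (w.σ c)⁻¹ * E0 v * (w.σ c) := by rw [hv]; group
      have h2 := w.conj c⁻¹ (fun i => (v i : S))
      rw [map_inv, inv_inv, inv_inv] at h2
      rw [h1]
      exact h2.symm
  let Y : Subgroup G := zpowers (w.σ c) ⊔ E0.range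
  have hY : IsPGroup p Y := IsPGroup.to_sup_of_normal_right' hCp hEp hnorm
  refine ⟨Y, hY, fun hbot => hj ?_⟩
  let E : (ZMod p → P) →* Y := E0.codRestrict Y (fun v => mem_sup_right ⟨v, rfl⟩)
  have hE : Function.Injective E := fun a b h => hE0 (congrArg Subtype.val h)
  let M : Subgroup (ZMod p → P) := (commutator Y).comap E
  let f : M →* Y := E.comp M.subtype
  have hf : Function.Injective f := fun a b h => Subtype.ext (hE h)
  have hfr : f.range ≤ commutator Y := by
    rintro _ ⟨v, rfl⟩
    exact v.2
  have h1 := map_ds_le f hfr j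
  rw [hbot, le_bot_iff, Subgroup.map_eq_bot_iff_of_injective _ hf] at h1
  let π : M →* P := (Pi.evalMonoidHom (fun _ : ZMod p => P) 0).comp M.subtype
  have hπ : Function.Surjective π := by
    intro a
    let x : ZMod p → P := Pi.mulSingle 0 a
    let u : ZMod p → P := x * fun i => (x (c⁻¹ i))⁻¹
    have hu : u ∈ M := by
      let cy : Y := ⟨w.σ c, mem_sup_left (mem_zpowers _)⟩
      have h2 : E u = ⁅E x, cy⁆ := by
        apply Subtype.ext
        rw [commutatorElement_def]
        change w.Δ (fun i => (u i : S)) = w.Δ (fun i => (x i : S)) * w.σ c * (w.Δ (fun i => (x i : S)))⁻¹ * (w.σ c)⁻¹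
        have h3 : w.Δ (fun i => (x i : S)) * w.σ c * (w.Δ (fun i => (x i : S)))⁻¹ * (w.σ c)⁻¹ =
          w.Δ (fun i => (x i : S)) * (w.σ c * w.Δ (fun i => (x i : S))⁻¹ * (w.σ c)⁻¹) := by
          rw [map_inv]; group
        rw [h3, w.conj, ← map_mul]
        rfl
      change E u ∈ commutator Y
      rw [h2]
      exact commutator_mem_commutator (mem_top _) (mem_top _)
    refine ⟨⟨u, hu⟩, ?_⟩
    change u 0 = a
    have h4 : c⁻¹ (0 : ZMod p) ≠ 0 := by
      intro h
      have h5 : (0 : ZMod p) = c 0 := by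
        rw [Equiv.Perm.inv_eq_iff_eq] at h
        exact h
      have h6 : c (0 : ZMod p) = 1 := by simp [c]
      rw [h6] at h5
      exact zero_ne_one h5
    change x 0 * (x (c⁻¹ 0))⁻¹ = a
    have h7 : x (c⁻¹ 0) = 1 := Pi.mulSingle_eq_of_ne (M := fun _ : ZMod p => P) h4 a
    rw [h7, inv_one, mul_one]
    exact Pi.mulSingle_eq_same (M := fun _ : ZMod p => P) 0 a
  exact ds_bot_of_surjective π hπ h1

theorem dge_pow {S G : Type*} [Group S] [Group G] (k : ℕ) (w : Wrd (Fin k → ZMod p) S G) {j : ℕ} (h : DGe p S j) :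
    DGe p G (j + k) := by
  induction k generalizing S j with
  | zero =>
    refine DGe.of_injective (w.Δ.comp { toFun := fun s _ => s, map_one' := rfl, map_mul' := fun _ _ => rfl }) ?_ h
    intro a b hab
    have h1 := w.inj hab
    exact congrFun h1 (fun i => i.elim0)
  | succ k ih =>
    let e : (Fin k → ZMod p) × ZMod p ≃ (Fin (k + 1) → ZMod p) := (Equiv.prodComm _ _).trans (Fin.consEquiv (fun _ => ZMod p))
    have h1 : DGe p (W (ZMod p) S) (j + 1) := dge_step (Wrd.self (ZMod p) S) h
    have h2 := ih (w.congr e).nest h1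
    rw [show j + (k + 1) = j + 1 + k by ring]
    exact h2

theorem dge_wreath {S G ι : Type*} [Finite ι] [Group S] [Group G] (w : Wrd ι S G) {j k : ℕ} (hk : p ^ k ≤ Nat.card ι) (h : DGe p S j) :
    DGe p G (j + k) := by
  classical
  have := Fintype.ofFinite ι
  have h1 : Fintype.card (Fin k → ZMod p) ≤ Fintype.card ι := by
    rw [Fintype.card_fun, ZMod.card, Fintype.card_fin, ← Nat.card_eq_fintype_card (α := ι)]
    exact hk
  obtain ⟨e⟩ := Function.Embedding.nonempty_of_card_le h1
  exact dge_pow k (w.restrict e) h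

end lower

/-! ## upper bound -/

section upper
variable {p : ℕ} [hp : Fact p.Prime]

theorem dle_EK {G K : Type*} [Group G] [Finite G] [Group K] (E : Subgroup G) (σ : K →* G)
    (hσ : Function.Injective σ) (hn : ∀ k, ∀ e ∈ E, σ k * e * (σ k)⁻¹ ∈ E) (hint : ∀ k, σ k ∈ E → k = 1)
    (hE2 : ∃ s, Nat.card E = p ^ s) {a b : ℕ} (hE : derivedSeries E a = ⊥) (hK : DLe p K b)
    (hv : (Nat.card G).factorization p = (Nat.card E).factorization p + (Nat.card K).factorization p) : DLe p G (a + b) := by
  have hfK : Finite K := Finite.of_injective σ hσ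
  obtain ⟨T⟩ := (inferInstance : Nonempty (Sylow p K))
  let T' : Subgroup G := (T : Subgroup K).map σ
  have e : (T : Subgroup K) ≃* T' := (T : Subgroup K).equivMapOfInjective σ hσ
  have hmem : ∀ x : G, x ∈ E ⊔ T' ↔ ∃ a ∈ E, ∃ b ∈ T', a * b = x := by
    intro x
    constructor
    · intro hx
      have hx' : x ∈ Subgroup.closure ((E : Set G) ∪ T') := by rw [← Subgroup.sup_eq_closure]; exact hx
      induction hx' using Subgroup.closure_induction_left with
      | one => exact ⟨1, one_mem _, 1, one_mem _, one_mul 1⟩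
      | mul_left y hy z hz ih =>
        obtain ⟨a, ha, b, hb, rfl⟩ := ih (by rw [Subgroup.sup_eq_closure]; exact hz)
        rcases hy with hy | hy
        · exact ⟨y * a, mul_mem hy ha, b, hb, mul_assoc _ _ _⟩
        · obtain ⟨t, ht, rfl⟩ := hy
          refine ⟨σ t * a * (σ t)⁻¹, hn t a ha, σ t * b, mul_mem ⟨t, ht, rfl⟩ hb, by group⟩
      | inv_mul_cancel y hy z hz ih =>
        obtain ⟨a, ha, b, hb, rfl⟩ := ih (by rw [Subgroup.sup_eq_closure]; exact hz)
        rcases hy with hy | hy
        · exact ⟨y⁻¹ * a, mul_mem (inv_mem hy) ha, b, hb, mul_assoc _ _ _⟩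
        · obtain ⟨t, ht, rfl⟩ := hy
          have h1 := hn t⁻¹ a ha
          rw [map_inv, inv_inv] at h1
          refine ⟨(σ t)⁻¹ * a * σ t, h1, (σ t)⁻¹ * b, mul_mem (inv_mem ⟨t, ht, rfl⟩) hb, by group⟩
    · rintro ⟨a, ha, b, hb, rfl⟩
      exact mul_mem (Subgroup.mem_sup_left ha) (Subgroup.mem_sup_right hb)
  have hcard : Nat.card (E ⊔ T' : Subgroup G) = Nat.card E * Nat.card T := by
    rw [← Nat.card_prod]
    refine (Nat.card_congr (Equiv.ofBijective (fun p : E × T => (⟨(p.1 : G) * σ p.2,
      mul_mem (Subgroup.mem_sup_left p.1.2) (Subgroup.mem_sup_right ⟨p.2, p.2.2, rfl⟩)⟩ : (E ⊔ T' : Subgroup G))) ⟨?_, ?_⟩)).symm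
    · rintro ⟨⟨a, ha⟩, ⟨t, ht⟩⟩ ⟨⟨a', ha'⟩, ⟨t', ht'⟩⟩ h
      have h1 : a * σ t = a' * σ t' := congrArg Subtype.val h
      have h2 : σ (t' * t⁻¹) = a'⁻¹ * a := by
        rw [map_mul, map_inv, mul_inv_eq_iff_eq_mul, mul_assoc, h1]; group
      have h3 : t' * t⁻¹ = 1 := hint _ (by rw [h2]; exact mul_mem (inv_mem ha') ha)
      have h4 : t' = t := mul_inv_eq_one.1 h3
      subst h4
      have h5 : a = a' := mul_right_cancel h1
      subst h5
      rfl
    · rintro ⟨x, hx⟩
      obtain ⟨a, ha, _, ⟨t, ht, rfl⟩, rfl⟩ := (hmem x).1 hx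
      exact ⟨(⟨a, ha⟩, ⟨t, ht⟩), rfl⟩
  refine DLe.of_card (E ⊔ T') ?_ ?_
  · obtain ⟨s, hs⟩ := hE2
    rw [hcard, card_sylow T, hv, hs, pow_add]
    congr 2
    rw [Nat.Prime.factorization_pow hp.out]
    simp
  · -- the quotient by `E`
    have hnE : (E ⊔ T') ≤ normalizer (E : Set G) := by
      refine sup_le le_normalizer ?_
      rintro _ ⟨t, ht, rfl⟩
      rw [mem_normalizer_iff]
      intro x
      refine ⟨hn t x, fun h => ?_⟩
      have h1 := hn t⁻¹ _ h
      rw [map_inv, inv_inv] at h1
      convert h1 using 1; group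
    have hN : (E.subgroupOf (E ⊔ T')).Normal := (normal_subgroupOf_iff_le_normalizer le_sup_left).mpr hnE
    let q := QuotientGroup.mk' (E.subgroupOf (E ⊔ T'))
    let g : (T : Subgroup K) →* (↥(E ⊔ T') ⧸ E.subgroupOf (E ⊔ T')) := q.comp
      (((σ.comp (T : Subgroup K).subtype)).codRestrict (E ⊔ T') (fun t => mem_sup_right ⟨t, t.2, rfl⟩))
    have hg : Function.Surjective g := by
      intro y
      obtain ⟨⟨x, hx⟩, rfl⟩ := QuotientGroup.mk'_surjective _ y
      obtain ⟨a, ha, _, ⟨t, ht, rfl⟩, rfl⟩ := (hmem x).1 hx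
      refine ⟨⟨t, ht⟩, ?_⟩
      change (QuotientGroup.mk _ : ↥(E ⊔ T') ⧸ E.subgroupOf (E ⊔ T')) = QuotientGroup.mk _
      rw [QuotientGroup.eq, mem_subgroupOf]
      change (σ t)⁻¹ * (a * σ t) ∈ E
      have h1 := hn t⁻¹ a ha
      rw [map_inv, inv_inv] at h1
      rwa [← mul_assoc]
    have hq : derivedSeries (↥(E ⊔ T') ⧸ E.subgroupOf (E ⊔ T')) b = ⊥ :=
      ds_bot_of_surjective g hg (hK _ T.isPGroup')
    have h1 := map_derivedSeries_le_derivedSeries q b
    rw [hq, le_bot_iff, Subgroup.map_eq_bot_iff] at h1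
    have h2 : derivedSeries (↥(E ⊔ T')) b ≤ (inclusion (le_sup_left : E ≤ E ⊔ T')).range := by
      refine h1.trans ?_
      rw [QuotientGroup.ker_mk']
      intro x hx
      exact ⟨⟨x, hx⟩, rfl⟩
    have h3 := ds_le_map (inclusion (le_sup_left : E ≤ E ⊔ T')) h2 a
    rw [hE, Subgroup.map_bot, le_bot_iff, add_comm] at h3
    exact h3

theorem ds_pi {ι : Type*} {P : Type*} [Group P] {m : ℕ} (h : derivedSeries P m = ⊥) :
    derivedSeries (ι → P) m = ⊥ := by
  rw [eq_bot_iff]
  intro v hv
  rw [mem_bot]
  funext i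
  have h1 := map_derivedSeries_le_derivedSeries (Pi.evalMonoidHom (fun _ : ι => P) i) m (mem_map_of_mem _ hv)
  rw [h, mem_bot] at h1
  exact h1

theorem card_piMap {ι S G : Type*} [Finite ι] [Group S] [Group G] (Δ : (ι → S) →* G) (hΔ : Function.Injective Δ)
    (P : Subgroup S) : Nat.card ((Subgroup.pi Set.univ (fun _ : ι => P)).map Δ) = Nat.card P ^ Nat.card ι := by
  have := Fintype.ofFinite ι
  rw [← Nat.card_congr ((Subgroup.pi Set.univ (fun _ : ι => P)).equivMapOfInjective Δ hΔ).toEquiv]
  have e : (Subgroup.pi Set.univ (fun _ : ι => P)) ≃ (ι → P) :=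
    { toFun := fun v i => ⟨v.1 i, v.2 i trivial⟩
      invFun := fun v => ⟨fun i => (v i : S), fun i _ => (v i).2⟩
      left_inv := fun v => rfl
      right_inv := fun v => rfl }
  rw [Nat.card_congr e, Nat.card_pi, Finset.prod_const, Finset.card_univ, Nat.card_eq_fintype_card (α := ι)]

theorem ds_piMap {ι S G : Type*} [Group S] [Group G] (Δ : (ι → S) →* G) (hΔ : Function.Injective Δ)
    (P : Subgroup S) {a : ℕ} (hP : derivedSeries P a = ⊥) : derivedSeries ((Subgroup.pi Set.univ (fun _ : ι => P)).map Δ) a = ⊥ := by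
  have h1 : derivedSeries (ι → P) a = ⊥ := ds_pi hP
  let f : (ι → P) →* (Subgroup.pi Set.univ (fun _ : ι => P)) :=
    { toFun := fun v => ⟨fun i => (v i : S), fun i _ => (v i).2⟩
      map_one' := rfl
      map_mul' := fun v w => rfl }
  have hf : Function.Surjective f := by
    rintro ⟨v, hv⟩
    exact ⟨fun i => ⟨v i, hv i trivial⟩, rfl⟩
  have h2 := ds_bot_of_surjective f hf h1
  let e := (Subgroup.pi Set.univ (fun _ : ι => P)).equivMapOfInjective Δ hΔ
  exact ds_bot_of_injective e.symm.toMonoidHom e.symm.injective h2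

theorem dle_wreath_aux {S G : Type*} [Group S] [Group G] [Finite G] (n : ℕ) (hn : 0 < n) (w : Wrd (Fin n) S G) {a b : ℕ} (hS : DLe p S a)
    (hb : DLe p (Equiv.Perm (Fin n)) b)
    (hv : (Nat.card G).factorization p = n * (Nat.card S).factorization p + (Nat.factorial n).factorization p) :
    DLe p G (a + b) := by
  have : Nonempty (Fin n) := ⟨⟨0, hn⟩⟩
  have hfS : Finite S := by
    have : Function.Injective (fun s : S => w.Δ (fun _ => s)) := by
      intro a b h
      exact congrFun (w.inj h) (Classical.arbitrary (Fin n))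
    exact Finite.of_injective _ this
  obtain ⟨P⟩ := (inferInstance : Nonempty (Sylow p S))
  have hcE : Nat.card ((Subgroup.pi Set.univ (fun _ : Fin n => (P : Subgroup S))).map w.Δ) =
      p ^ ((Nat.card S).factorization p * n) := by
    rw [card_piMap w.Δ w.inj, Nat.card_fin, card_sylow P, ← pow_mul]
  refine dle_EK ((Subgroup.pi Set.univ (fun _ : Fin n => (P : Subgroup S))).map w.Δ) w.σ w.σ_inj ?_ ?_ ⟨_, hcE⟩
    (ds_piMap w.Δ w.inj _ (hS _ P.isPGroup')) hb ?_
  · rintro s _ ⟨v, hv, rfl⟩
    rw [w.conj]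
    exact ⟨_, fun i _ => hv _ trivial, rfl⟩
  · rintro s ⟨v, -, h⟩
    exact w.int s v h.symm
  · rw [hcE, hv, Nat.card_perm, Nat.card_fin, Nat.Prime.factorization_pow hp.out, mul_comm n]
    simp

/-- block permutations -/
def permWrd (k m : ℕ) [NeZero m] : Wrd (Fin k) (Equiv.Perm (Fin m)) (Equiv.Perm (Fin k × Fin m)) where
  Δ :=
    { toFun := fun v => Equiv.prodCongrRight v
      map_one' := by ext x <;> rfl
      map_mul' := fun v w => by ext x <;> rfl }
  σ :=
    { toFun := fun s => Equiv.prodCongrLeft (fun _ => s)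
      map_one' := by ext x <;> rfl
      map_mul' := fun v w => by ext x <;> rfl }
  inj := by
    intro v w h
    funext i
    ext j
    have h1 := congrArg (fun g : Equiv.Perm (Fin k × Fin m) => (g (i, j)).2) h
    exact congrArg Fin.val h1
  conj := by
    intro s v
    rw [mul_inv_eq_iff_eq_mul]
    change Equiv.prodCongrLeft (fun _ => s) * Equiv.prodCongrRight v = Equiv.prodCongrRight (fun i => v (s⁻¹ i)) * Equiv.prodCongrLeft (fun _ => s)
    ext x <;> simp
  int := by
    intro s v h
    ext i
    have h1 := congrArg (fun g : Equiv.Perm (Fin k × Fin m) => (g (i, 0)).1) h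
    exact congrArg Fin.val h1

theorem fac_factorial_mul (k : ℕ) : (Nat.factorial (p * k)).factorization p = k + (Nat.factorial k).factorization p := by
  rw [Nat.factorization_def _ hp.out, Nat.factorization_def _ hp.out, padicValNat_factorial_mul, add_comm]

theorem fac_factorial_mul_add (k r : ℕ) (hr : r < p) : (Nat.factorial (p * k + r)).factorization p = (Nat.factorial (p * k)).factorization p := by
  rw [Nat.factorization_def _ hp.out, Nat.factorization_def _ hp.out, padicValNat_factorial_mul_add _ hr]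

theorem dle_perm (n : ℕ) : DLe p (Equiv.Perm (Fin n)) (Nat.log p n) := by
  induction n using Nat.strong_induction_on with
  | _ n ih =>
    have hp2 : 2 ≤ p := hp.out.two_le
    have : NeZero p := ⟨by omega⟩
    by_cases hnp : n < p
    · rw [Nat.log_of_lt hnp]
      refine DLe.of_coprime ?_
      rw [Nat.card_perm, Nat.card_fin]
      exact Nat.factorization_factorial_eq_zero_of_lt hnp
    · push Not at hnp
      set k := n / p with hk
      set r := n % p with hr
      have hrp : r < p := Nat.mod_lt _ (by omega)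
      have hn : n = p * k + r := (Nat.div_add_mod n p).symm
      have hk0 : 0 < k := Nat.div_pos hnp (by omega)
      have hkn : k < n := by
        rw [hn]; nlinarith
      have hlog : Nat.log p n = 1 + Nat.log p k := by
        rw [Nat.log_of_one_lt_of_le (by omega) hnp, add_comm]
      -- degree p
      have hbase : DLe p (Equiv.Perm (Fin p)) 1 := by
        obtain ⟨P⟩ := (inferInstance : Nonempty (Sylow p (Equiv.Perm (Fin p))))
        refine DLe.of_sylow P ?_
        have hc := card_sylow P
        have h2 := fac_factorial_mul (p := p) 1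
        rw [mul_one, Nat.factorial_one, Nat.factorization_one] at h2
        rw [Nat.card_perm, Nat.card_fin, h2] at hc
        have hcyc : IsCyclic P := isCyclic_of_prime_card (p := p) (by simpa using hc)
        exact ds_one_of_comm (fun a b => hcyc.isMulCommutative.is_comm.comm a b)
      have h1 : DLe p (Equiv.Perm (Fin k × Fin p)) (1 + Nat.log p k) := by
        refine dle_wreath_aux k hk0 (permWrd k p) hbase (ih k hkn) ?_
        rw [Nat.card_perm, Nat.card_prod, Nat.card_fin, Nat.card_fin, Nat.card_perm, Nat.card_fin, mul_comm k p, fac_factorial_mul]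
        have h2 := fac_factorial_mul (p := p) 1
        rw [mul_one, Nat.factorial_one, Nat.factorization_one] at h2
        rw [h2]
        simp
      rw [hlog]
      let e : Fin k × Fin p ↪ Fin n := (finProdFinEquiv.toEmbedding).trans (Fin.castLEEmb (by rw [hn, mul_comm]; omega))
      refine DLe.of_injective_index (Equiv.Perm.viaEmbeddingHom e) (Equiv.Perm.viaEmbeddingHom_injective e) ?_ h1
      rw [Nat.card_perm, Nat.card_perm, Nat.card_prod, Nat.card_fin, Nat.card_fin, Nat.card_fin, mul_comm k p]
      conv_lhs => rw [hn]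
      exact fac_factorial_mul_add k r hrp

/-- **Upper bound.** -/
theorem dle_wreath {S G : Type*} [Group S] [Group G] [Finite G] (n : ℕ) (w : Wrd (Fin n) S G) {a : ℕ} (hS : DLe p S a)
    (hv : (Nat.card G).factorization p = n * (Nat.card S).factorization p + (Nat.factorial n).factorization p) :
    DLe p G (a + Nat.log p n) := by
  rcases Nat.eq_zero_or_pos n with rfl | hn
  · refine (DLe.of_coprime ?_).mono (Nat.zero_le _)
    simpa using hv
  · exact dle_wreath_aux n hn w hS (dle_perm n) hv

end upper

end Cfsg.Agent.H94.Wr
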