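import Cfsg.Agent.H94.Wr
import Cfsg.Agent.H53.SEASp

/-!
# Derived lengths of 2-subgroups of SL₂ and of symplectic groups
-/
set_option autoImplicit false

namespace Cfsg.Agent.H94.Wr

open Matrix Subgroup Cfsg.Agent.H53.SEA
open scoped commutatorElement

/-- metabelian criterion -/
theorem ds_two_of {P : Type*} [Group P] (A : Subgroup P) (hA : ∀ a ∈ A, ∀ b ∈ A, a * b = b * a)
    (hc : ∀ a b : P, ⁅a, b⁆ ∈ A) : derivedSeries P 2 = ⊥ := by
  have h1 : derivedSeries P 1 ≤ A.subtype.range := by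
    rw [derivedSeries_one, commutator_def, Subgroup.commutator_le, Subgroup.range_subtype]
    intro a _ b _
    exact hc a b
  have h2 : derivedSeries A 1 = ⊥ := ds_one_of_comm (fun a b => Subtype.ext (hA a a.2 b b.2))
  have h3 := ds_le_map A.subtype h1 1
  rw [h2, Subgroup.map_bot, le_bot_iff] at h3
  exact h3

theorem ds_one_iff {P : Type*} [Group P] (h : derivedSeries P 1 = ⊥) (a b : P) : a * b = b * a := by
  have h1 : ⁅a, b⁆ ∈ derivedSeries P 1 := by
    rw [derivedSeries_one]; exact commutator_mem_commutator (mem_top _) (mem_top _)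
  rw [h, mem_bot, commutatorElement_eq_one_iff_mul_comm] at h1
  exact h1

section SL2
variable {F : Type*} [Field F]

theorem exists_w [Fintype F] (hF : Odd (Fintype.card F)) : ∃ w : SpecialLinearGroup (Fin 2) F, w ^ 2 = -1 ∧
    (∀ t ∈ tor F, w * t * w⁻¹ = t⁻¹) ∧ w ∉ tor F := by
  obtain ⟨c, d, hcd⟩ := exists_sq_add_sq_neg_one F
  have h2 := two_ne_zero_of_odd hF
  let w : SpecialLinearGroup (Fin 2) F := ⟨!![c, d; d, -c], by
    rw [Matrix.det_fin_two_of]; linear_combination -hcd⟩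
  have hw2 : w ^ 2 = -1 := by
    apply Subtype.ext
    rw [sq]
    change !![c, d; d, -c] * !![c, d; d, -c] = ((-1 : SpecialLinearGroup (Fin 2) F) : Matrix (Fin 2) (Fin 2) F)
    rw [Matrix.SpecialLinearGroup.coe_neg, Matrix.SpecialLinearGroup.coe_one, Matrix.mul_fin_two, Matrix.one_fin_two]
    ext i j
    fin_cases i <;> fin_cases j <;> simp <;> first | linear_combination hcd | ring
  refine ⟨w, hw2, ?_, ?_⟩
  · intro t ht
    rw [mul_inv_eq_iff_eq_mul]
    obtain ⟨h3, h4⟩ := ht
    apply Subtype.ext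
    rw [Matrix.SpecialLinearGroup.coe_mul, Matrix.SpecialLinearGroup.coe_mul, Matrix.SpecialLinearGroup.coe_inv, Matrix.adjugate_fin_two]
    change !![c, d; d, -c] * t.1 = _ * !![c, d; d, -c]
    have ht' : t.1 = !![t 0 0, - t 1 0; t 1 0, t 0 0] := by
      ext i j
      fin_cases i <;> fin_cases j
      · rfl
      · exact h4
      · rfl
      · exact h3.symm
    rw [ht', Matrix.mul_fin_two, Matrix.mul_fin_two]
    ext i j
    fin_cases i <;> fin_cases j <;> simp <;> ring
  · rintro ⟨h3, h4⟩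
    have h3' : c = -c := h3
    have h4' : d = -d := h4
    have h5 : c = 0 := by
      have : (2 : F) * c = 0 := by linear_combination h3'
      exact (mul_eq_zero.1 this).resolve_left h2
    have h6 : d = 0 := by
      have : (2 : F) * d = 0 := by linear_combination h4'
      exact (mul_eq_zero.1 this).resolve_left h2
    rw [h5, h6] at hcd
    have : (1 : F) = 0 := by linear_combination hcd
    exact one_ne_zero this

theorem exists_u : ∃ u : SpecialLinearGroup (Fin 2) F, u ^ 2 = -1 ∧ u ∈ tor F := by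
  let u : SpecialLinearGroup (Fin 2) F := ⟨!![0, -1; 1, 0], by
    rw [Matrix.det_fin_two_of]; ring⟩
  refine ⟨u, ?_, ?_⟩
  · apply Subtype.ext
    rw [sq]
    change !![(0 : F), -1; 1, 0] * !![(0 : F), -1; 1, 0] = ((-1 : SpecialLinearGroup (Fin 2) F) : Matrix (Fin 2) (Fin 2) F)
    rw [Matrix.SpecialLinearGroup.coe_neg, Matrix.SpecialLinearGroup.coe_one, Matrix.mul_fin_two, Matrix.one_fin_two]
    ext i j
    fin_cases i <;> fin_cases j <;> simp
  · rw [mem_tor]
    exact ⟨rfl, by change (-1 : F) = -1; rfl⟩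

theorem neg_one_mem_tor : (-1 : SpecialLinearGroup (Fin 2) F) ∈ tor F := by
  rw [mem_tor]
  rw [Matrix.SpecialLinearGroup.coe_neg, Matrix.SpecialLinearGroup.coe_one]
  simp

/-- metabelian property of `dsub` -/
theorem ds_dsub {G : Type*} [Group G] (S : Subgroup G) (w : G) (hw : ∀ t ∈ S, w * t * w⁻¹ = t⁻¹) (hw2 : w ^ 2 ∈ S) :
    derivedSeries (dsub S w hw hw2) 2 = ⊥ := by
  have hwm : w ∈ dsub S w hw hw2 := Or.inr (by rw [← sq]; exact hw2)
  -- every element is in S or S w
  have key : ∀ x ∈ dsub S w hw hw2, x ∈ S ∨ ∃ s ∈ S, x = s * w := by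
    intro x hx
    rcases hx with h | h
    · exact Or.inl h
    · refine Or.inr ⟨x * w⁻¹, ?_, by group⟩
      have : x * w⁻¹ = (x * w) * (w ^ 2)⁻¹ := by group
      rw [this]
      exact mul_mem h (inv_mem hw2)
  have hcomm := fun {s t} => @comm_of_inv G _ S w hw s t
  have hconj : ∀ x ∈ dsub S w hw hw2, ∀ s ∈ S, x * s * x⁻¹ = s ∨ x * s * x⁻¹ = s⁻¹ := by
    intro x hx s hs
    rcases key x hx with h | ⟨t, ht, rfl⟩
    · left; rw [hcomm h hs]; group
    · right
      have : t * w * s * (t * w)⁻¹ = t * (w * s * w⁻¹) * t⁻¹ := by group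
      rw [this, hw s hs, hcomm ht (inv_mem hs)]; group
  have hconj' : ∀ x ∈ dsub S w hw hw2, ∀ s ∈ S, x * s * x⁻¹ ∈ S := by
    intro x hx s hs
    rcases hconj x hx s hs with h | h
    · rw [h]; exact hs
    · rw [h]; exact inv_mem hs
  refine ds_two_of (S.subgroupOf _) ?_ ?_
  · rintro a ha b hb
    exact Subtype.ext (hcomm ha hb)
  · rintro ⟨a, ha⟩ ⟨b, hb⟩
    rw [mem_subgroupOf, commutatorElement_def]
    change a * b * a⁻¹ * b⁻¹ ∈ S
    have hainv : a⁻¹ ∈ dsub S w hw hw2 := inv_mem ha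
    rcases key a ha with h1 | ⟨s, hs, rfl⟩
    · have : a * b * a⁻¹ * b⁻¹ = a * (b * a⁻¹ * b⁻¹) := by group
      rw [this]; exact mul_mem h1 (hconj' b hb _ (inv_mem h1))
    · rcases key b hb with h2 | ⟨t, ht, rfl⟩
      · exact mul_mem (hconj' _ ha _ h2) (inv_mem h2)
      · have : s * w * (t * w) * (s * w)⁻¹ * (t * w)⁻¹ = s * (w * (t * s⁻¹) * w⁻¹) * t⁻¹ := by group
        rw [this, hw _ (mul_mem ht (inv_mem hs))]
        exact mul_mem (mul_mem hs (inv_mem (mul_mem ht (inv_mem hs)))) (inv_mem ht)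

theorem dle_SL2 [Fintype F] (hF : Odd (Fintype.card F)) : DLe 2 (SpecialLinearGroup (Fin 2) F) 2 := by
  obtain ⟨w, hw2, hw, hwt⟩ := exists_w hF
  have hw2' : w ^ 2 ∈ tor F := by rw [hw2]; exact neg_one_mem_tor
  have h1 := ds_dsub (tor F) w hw hw2'
  refine DLe.of_injective_index (dsub (tor F) w hw hw2').subtype (subtype_injective _) ?_ ?_
  · rw [fac_SL2 hF, card_dsub (tor F) w hw hw2' hwt, Nat.factorization_mul (by norm_num) Nat.card_pos.ne', Nat.prime_two.factorization]
    simp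
  · intro P _
    exact ds_bot_of_injective P.subtype (subtype_injective _) h1

theorem dge_SL2 [Fintype F] (hF : Odd (Fintype.card F)) : DGe 2 (SpecialLinearGroup (Fin 2) F) 1 := by
  obtain ⟨w, hw2, hw, hwt⟩ := exists_w hF
  obtain ⟨u, hu2, hut⟩ := exists_u (F := F)
  have h2 := two_ne_zero_of_odd hF
  have hne : (-1 : SpecialLinearGroup (Fin 2) F) ≠ 1 := by
    intro h
    have h3 := congrFun (congrFun (congrArg Subtype.val h) 0) 0
    rw [Matrix.SpecialLinearGroup.coe_neg, Matrix.SpecialLinearGroup.coe_one] at h3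
    simp at h3
    apply h2
    linear_combination -h3
  have hu4 : u ^ 4 = 1 := by
    rw [show (4 : ℕ) = 2 * 2 from rfl, pow_mul, hu2, neg_one_sq]
  have hzt : zpowers u ≤ tor F := by rw [zpowers_le]; exact hut
  have hw' : ∀ t ∈ zpowers u, w * t * w⁻¹ = t⁻¹ := fun t ht => hw t (hzt ht)
  have hw2' : w ^ 2 ∈ zpowers u := by rw [hw2, ← hu2]; exact ⟨2, by simp⟩
  have hord : orderOf u = 4 := by
    have : orderOf u = 2 ^ (1 + 1) := orderOf_eq_prime_pow (by rw [pow_one, hu2]; exact hne) (by simpa using hu4)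
    simpa using this
  refine ⟨dsub (zpowers u) w hw' hw2', ?_, ?_⟩
  · apply IsPGroup.of_card (n := 3)
    rw [card_dsub _ w hw' hw2' (fun h => hwt (hzt h)), Nat.card_zpowers, hord]
    norm_num
  · intro h
    have h3 := ds_one_iff h ⟨w, Or.inr (by rw [← sq]; exact hw2')⟩ ⟨u, Or.inl (mem_zpowers u)⟩
    have h4 : w * u = u * w := congrArg Subtype.val h3
    have h5 := hw u hut
    rw [h4, mul_inv_cancel_right] at h5
    apply hne
    rw [← hu2, sq]
    nth_rewrite 2 [h5]
    rw [mul_inv_cancel]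

end SL2

/-- the wreath datum in `Sp₂ₙ` -/
def spWrd (n : ℕ) (F : Type*) [Field F] : Wrd (Fin n) (SpecialLinearGroup (Fin 2) F) (symplecticGroup (Fin n) F) where
  Δ := spHom n
  σ := spPerm n
  inj := spHom_injective n
  conj := spPerm_conj n
  int := spPerm_eq n

theorem fac_sp (n : ℕ) {F : Type*} [Field F] [Fintype F] (hF : Odd (Fintype.card F)) :
    (Nat.card (symplecticGroup (Fin n) F)).factorization 2 =
      n * (Nat.card (SpecialLinearGroup (Fin 2) F)).factorization 2 + (Nat.factorial n).factorization 2 := by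
  have hq1 : 1 < Fintype.card F := Fintype.one_lt_card
  rw [ClassSp.card_fin, Nat.factorization_mul (pow_ne_zero _ (by omega)) (prod_ne_zero hq1 n)]
  simp only [Finsupp.add_apply]
  rw [fac_odd_pow hF, zero_add, fac_prod hF hq1, H81.card_sl2]

end Cfsg.Agent.H94.Wr
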