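import Cfsg.Agent.H94.WrNR
import Cfsg.Agent.H94.WrSp
import Cfsg.Agent.H53.SEAGL

/-!
# Wreath products in general linear groups
-/
set_option autoImplicit false

namespace Cfsg.Agent.H94.Wr

open Matrix Subgroup
open Cfsg.Agent.H53.SEA (pm pm_apply pm_mul_apply mul_pm_apply pm_inv_mul pm_one pm_mul pm_injective pmU pmU_val pmU_injective)

/-! ## blocks -/
section blocks
variable {F : Type*} [Field F] (κ ι : Type*) [Fintype κ] [DecidableEq κ] [Fintype ι] [DecidableEq ι]

/-- block diagonal matrices -/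
def gbd : (ι → GL κ F) →* GL (κ × ι) F :=
  (Units.map (Matrix.blockDiagonalRingHom κ ι F).toMonoidHom).comp
    (MulEquiv.piUnits (M := fun _ : ι => Matrix κ κ F)).symm.toMonoidHom

theorem gbd_val (v : ι → GL κ F) : ((gbd κ ι v : GL (κ × ι) F) : Matrix (κ × ι) (κ × ι) F) =
    blockDiagonal (fun i => (v i : Matrix κ κ F)) := rfl

theorem gbd_injective : Function.Injective (gbd (F := F) κ ι) := by
  intro v w h
  have h1 := congrArg Units.val h
  rw [gbd_val, gbd_val, blockDiagonal_injective.eq_iff] at h1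
  funext i
  exact Units.ext (congrFun h1 i)

/-- permutations of the blocks -/
def gbp : Equiv.Perm ι →* Equiv.Perm (κ × ι) where
  toFun v := Equiv.prodCongrRight (fun _ : κ => v)
  map_one' := by ext x <;> rfl
  map_mul' v w := by ext x <;> rfl

theorem gbp_apply (s : Equiv.Perm ι) (x : κ × ι) : gbp κ ι s x = (x.1, s x.2) := rfl

theorem gbp_inv_apply (s : Equiv.Perm ι) (x : κ × ι) : (gbp κ ι s)⁻¹ x = (x.1, s⁻¹ x.2) := by
  rw [← map_inv]; rfl

theorem gbpm_conj (s : Equiv.Perm ι) (v : ι → GL κ F) :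
    pmU F (gbp κ ι s) * gbd κ ι v * (pmU F (gbp κ ι s))⁻¹ = gbd κ ι (fun i => v (s⁻¹ i)) := by
  rw [mul_inv_eq_iff_eq_mul]
  apply Units.ext
  change pm F (gbp κ ι s) * blockDiagonal _ = blockDiagonal _ * pm F (gbp κ ι s)
  ext ⟨i, a⟩ ⟨j, b⟩
  rw [pm_mul_apply, mul_pm_apply, gbp_inv_apply, gbp_apply, blockDiagonal_apply, blockDiagonal_apply]
  simp only
  by_cases h : a = s b
  · rw [if_pos h, if_pos (by rw [h]; simp)]
    rfl
  · rw [if_neg h, if_neg (by rintro h'; exact h (by rw [← h']; simp))]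

theorem gbpm_eq [Nonempty κ] (s : Equiv.Perm ι) (v : ι → GL κ F) (h : pmU F (gbp κ ι s) = gbd κ ι v) : s = 1 := by
  obtain ⟨k⟩ := ‹Nonempty κ›
  have h1 : pm F (gbp κ ι s) = blockDiagonal (fun i => (v i : Matrix κ κ F)) := congrArg Units.val h
  ext j
  rw [Equiv.Perm.one_apply]
  by_contra hne
  have hne' : s j ≠ j := hne
  have h6 := congrFun (congrFun h1 (k, s j)) (k, j)
  rw [pm_apply, blockDiagonal_apply, if_neg hne', if_pos (by rw [gbp_apply])] at h6
  exact one_ne_zero h6

/-- the wreath datum in `GL` -/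
def glWrd [Nonempty κ] (F : Type*) [Field F] : Wrd ι (GL κ F) (GL (κ × ι) F) where
  Δ := gbd κ ι
  σ := (pmU F).comp (gbp κ ι)
  inj := gbd_injective κ ι
  conj := gbpm_conj κ ι
  int := gbpm_eq κ ι

/-- direct sums -/
def gsum (α β : Type*) [Fintype α] [DecidableEq α] [Fintype β] [DecidableEq β] : GL α F × GL β F →* GL (α ⊕ β) F where
  toFun x := ⟨fromBlocks (x.1 : Matrix α α F) 0 0 (x.2 : Matrix β β F),
    fromBlocks ((x.1⁻¹ : GL α F) : Matrix α α F) 0 0 ((x.2⁻¹ : GL β F) : Matrix β β F), by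
      rw [fromBlocks_multiply]; simp, by
      rw [fromBlocks_multiply]; simp⟩
  map_one' := Units.ext (by simp)
  map_mul' x y := Units.ext (by
    change fromBlocks _ _ _ _ = fromBlocks _ _ _ _ * fromBlocks _ _ _ _
    rw [fromBlocks_multiply]; simp)

theorem gsum_injective (α β : Type*) [Fintype α] [DecidableEq α] [Fintype β] [DecidableEq β] :
    Function.Injective (gsum (F := F) α β) := by
  intro x y h
  have h1 : fromBlocks (x.1 : Matrix α α F) 0 0 (x.2 : Matrix β β F) = fromBlocks (y.1 : Matrix α α F) 0 0 (y.2 : Matrix β β F) := congrArg Units.val h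
  rw [fromBlocks_inj] at h1
  exact Prod.ext (Units.ext h1.1) (Units.ext h1.2.2.2)

/-- reindexing -/
def greidx {α β : Type*} [Fintype α] [DecidableEq α] [Fintype β] [DecidableEq β] (e : α ≃ β) (F : Type*) [Field F] : GL α F ≃* GL β F :=
  Units.mapEquiv (Matrix.reindexAlgEquiv F F e).toMulEquiv

end blocks

/-- composing a wreath datum with an injective homomorphism -/
def Wrd.map {ι S G H : Type*} [Group S] [Group G] [Group H] (w : Wrd ι S G) (f : G →* H) (hf : Function.Injective f) : Wrd ι S H where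
  Δ := f.comp w.Δ
  σ := f.comp w.σ
  inj := hf.comp w.inj
  conj := by
    intro s v
    change f _ * f _ * (f _)⁻¹ = f _
    rw [← map_inv, ← map_mul, ← map_mul, w.conj]
  int := fun s v h => w.int s v (hf h)

/-- `GL_e ≀ Sym_w × GL_r` in `GL_{ew+r}` -/
noncomputable def bigEmb (e w r : ℕ) (F : Type*) [Field F] : GL (Fin e × Fin w) F × GL (Fin r) F →* GL (Fin (e * w + r)) F :=
  (greidx ((Equiv.sumCongr finProdFinEquiv (Equiv.refl _)).trans finSumFinEquiv) F).toMonoidHom.comp (gsum _ _)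

theorem bigEmb_injective (e w r : ℕ) (F : Type*) [Field F] : Function.Injective (bigEmb e w r F) :=
  (greidx ((Equiv.sumCongr finProdFinEquiv (Equiv.refl _)).trans finSumFinEquiv) F).injective.comp (gsum_injective _ _)

theorem inl_injective' {G H : Type*} [Group G] [Group H] : Function.Injective (MonoidHom.inl G H) := by
  intro a b h; exact congrArg Prod.fst h

/-- the wreath datum in `GL_n` -/
noncomputable def glWrd' (e w r : ℕ) (he : e ≠ 0) (F : Type*) [Field F] : Wrd (Fin w) (GL (Fin e) F) (GL (Fin (e * w + r)) F) :=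
  haveI : NeZero e := ⟨he⟩
  haveI : Nonempty (Fin e) := ⟨0⟩
  (glWrd (Fin e) (Fin w) F).map ((bigEmb e w r F).comp (MonoidHom.inl _ _)) ((bigEmb_injective e w r F).comp inl_injective')

/-! ## orders -/
section order
variable {p : ℕ} [hp : Fact p.Prime] {F : Type*} [Field F] [Fintype F]

theorem fac_GL_succ (hpq : ¬ p ∣ Fintype.card F) (n : ℕ) :
    (Nat.card (GL (Fin (n + 1)) F)).factorization p =
      (Nat.card (GL (Fin n) F)).factorization p + (Fintype.card F ^ (n + 1) - 1).factorization p := by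
  have hq1 : 1 < Fintype.card F := Fintype.one_lt_card
  set q := Fintype.card F with hq
  have h0 : ∀ n, ∏ i : Fin n, (q ^ n - q ^ (i : ℕ)) ≠ 0 := by
    intro n
    refine Finset.prod_ne_zero_iff.2 fun i _ => ?_
    have := Nat.pow_lt_pow_right hq1 i.2
    omega
  have h1 : ∏ i : Fin (n + 1), (q ^ (n + 1) - q ^ (i : ℕ)) =
      (q ^ (n + 1) - 1) * (q ^ n * ∏ i : Fin n, (q ^ n - q ^ (i : ℕ))) := by
    rw [Fin.prod_univ_succ]
    congr 1
    rw [show q ^ n = ∏ _i : Fin n, q by simp, ← Finset.prod_mul_distrib]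
    refine Finset.prod_congr rfl fun i _ => ?_
    simp only [Finset.prod_const, Finset.card_univ, Fintype.card_fin, Fin.val_succ]
    rw [Nat.mul_sub, ← pow_succ', ← pow_succ']
  have h2 : q ^ (n + 1) - 1 ≠ 0 := by
    have := Nat.one_lt_pow (n := n + 1) (by omega) hq1
    omega
  have h3 : (q ^ n).factorization p = 0 := Nat.factorization_eq_zero_of_not_dvd (fun h => hpq (hp.out.dvd_of_dvd_pow h))
  rw [Matrix.card_GL_field, Matrix.card_GL_field, ← hq, h1,
    Nat.factorization_mul h2 (mul_ne_zero (pow_ne_zero _ (by omega)) (h0 n)),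
    Nat.factorization_mul (pow_ne_zero _ (by omega)) (h0 n)]
  simp only [Finsupp.add_apply]
  rw [h3]
  ring

theorem fac_GL_zero : (Nat.card (GL (Fin 0) F)).factorization p = 0 := by
  have : Subsingleton (GL (Fin 0) F) := ⟨fun a b => Units.ext (Subsingleton.elim _ _)⟩
  rw [Nat.card_of_subsingleton (1 : GL (Fin 0) F)]
  simp

/-- the shape of the `p`-parts of `q ^ i - 1` -/
def Shape (p q e : ℕ) : Prop := e ≠ 0 ∧ (∀ i, i ≠ 0 → ¬ e ∣ i → (q ^ i - 1).factorization p = 0) ∧
  (∀ j, j ≠ 0 → (q ^ (e * j) - 1).factorization p = (q ^ e - 1).factorization p + j.factorization p)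

theorem fac_GL_shape (hpq : ¬ p ∣ Fintype.card F) {e : ℕ} (h : Shape p (Fintype.card F) e) (n : ℕ) :
    (Nat.card (GL (Fin n) F)).factorization p = (n / e) * (Fintype.card F ^ e - 1).factorization p + (Nat.factorial (n / e)).factorization p := by
  obtain ⟨he, h1, h2⟩ := h
  induction n with
  | zero => rw [fac_GL_zero]; simp
  | succ n ih =>
    rw [fac_GL_succ hpq, ih, Nat.succ_div]
    by_cases hd : e ∣ n + 1
    · rw [if_pos hd]
      obtain ⟨j, hj⟩ := hd
      have hj0 : j ≠ 0 := by rintro rfl; omega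
      have hjn : n / e = j - 1 := by
        have h3 := Nat.succ_div (a := n) (b := e)
        rw [if_pos ⟨j, hj⟩, hj, Nat.mul_div_cancel_left _ (Nat.pos_of_ne_zero he)] at h3
        omega
      rw [hj, h2 j hj0, hjn, Nat.sub_add_cancel (Nat.pos_of_ne_zero hj0)]
      have h4 : Nat.factorial j = j * Nat.factorial (j - 1) := by
        obtain ⟨m, rfl⟩ := Nat.exists_eq_succ_of_ne_zero hj0
        rfl
      rw [h4, Nat.factorization_mul hj0 (Nat.factorial_ne_zero _)]
      simp only [Finsupp.add_apply]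
      obtain ⟨m, rfl⟩ := Nat.exists_eq_succ_of_ne_zero hj0
      simp only [Nat.succ_eq_add_one, Nat.add_sub_cancel]
      ring
    · rw [if_neg hd, h1 (n + 1) (by omega) hd]
      simp

theorem fac_GL_e (hpq : ¬ p ∣ Fintype.card F) {e : ℕ} (h : Shape p (Fintype.card F) e) :
    (Nat.card (GL (Fin e) F)).factorization p = (Fintype.card F ^ e - 1).factorization p := by
  rw [fac_GL_shape hpq h, Nat.div_self (Nat.pos_of_ne_zero h.1)]
  simp

theorem fac_GL_shape' (hpq : ¬ p ∣ Fintype.card F) {e : ℕ} (h : Shape p (Fintype.card F) e) (n : ℕ) :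
    (Nat.card (GL (Fin n) F)).factorization p = (n / e) * (Nat.card (GL (Fin e) F)).factorization p + (Nat.factorial (n / e)).factorization p := by
  rw [fac_GL_e hpq h, fac_GL_shape hpq h]

/-- odd primes -/
theorem shape_odd (hp2 : p ≠ 2) {q : ℕ} (hq1 : 1 < q) (hpq : ¬ p ∣ q) : Shape p q (orderOf (q : ZMod p)) := by
  set e := orderOf (q : ZMod p) with he
  have hfac : ∀ i, i ≠ 0 → (p ∣ q ^ i - 1 ↔ e ∣ i) := by
    intro i hi
    rw [he, orderOf_dvd_iff_pow_eq_one]
    have h1 : 1 ≤ q ^ i := Nat.one_le_pow _ _ (by omega)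
    rw [← ZMod.natCast_eq_zero_iff, Nat.cast_sub h1, Nat.cast_pow, Nat.cast_one, sub_eq_zero]
  have hunit : IsUnit (q : ZMod p) := by
    rw [isUnit_iff_ne_zero, Ne, ZMod.natCast_eq_zero_iff]
    exact hpq
  have he0 : e ≠ 0 := by
    obtain ⟨u, hu⟩ := hunit
    rw [he, ← hu, orderOf_units]
    exact (orderOf_pos u).ne'
  refine ⟨he0, fun i hi hd => ?_, fun j hj => ?_⟩
  · exact Nat.factorization_eq_zero_of_not_dvd (fun h => hd ((hfac i hi).mp h))
  · rw [Nat.factorization_def _ hp.out, Nat.factorization_def _ hp.out, Nat.factorization_def _ hp.out]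
    have h1 : 1 < q ^ e := Nat.one_lt_pow he0 hq1
    have h2 := padicValNat.pow_sub_pow (p := p) (x := q ^ e) (y := 1) (hp.out.odd_of_ne_two hp2) h1
      ((hfac e he0).mpr dvd_rfl) (fun h => hpq (hp.out.dvd_of_dvd_pow h)) hj
    rw [← pow_mul, one_pow] at h2
    exact h2

/-- the prime 2 for `q ≡ 1 mod 4` -/
theorem shape_two {q : ℕ} (hq : q % 4 = 1) (hq1 : 1 < q) : Shape 2 q 1 := by
  have hodd : Odd q := by rw [Nat.odd_iff]; omega
  have haux : (q + 1).factorization 2 = 1 := by
    obtain ⟨k, hk⟩ : ∃ k, q + 1 = 2 * (2 * k + 1) := ⟨q / 4, by omega⟩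
    rw [hk, Nat.factorization_mul (by omega) (by omega)]
    simp only [Finsupp.add_apply]
    rw [Nat.factorization_eq_zero_of_not_dvd (by omega : ¬ 2 ∣ 2 * k + 1), Nat.prime_two.factorization]
    simp
  refine ⟨one_ne_zero, fun i _ h => absurd (one_dvd i) h, fun j hj => ?_⟩
  rw [one_mul, pow_one]
  rcases Nat.even_or_odd' j with ⟨i, rfl | rfl⟩
  · rw [Cfsg.Agent.H53.SEA.fac_pow_sub_one hodd hq1 i (by omega), Nat.factorization_mul (by omega) (Nat.mul_ne_zero (by omega) (by omega)),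
      Nat.factorization_mul (by omega) (by omega), Nat.factorization_mul (by norm_num) (by omega)]
    simp only [Finsupp.add_apply]
    rw [haux, Nat.factorization_eq_zero_of_not_dvd (by rw [Nat.odd_iff] at hodd; omega : ¬ 2 ∣ q), Nat.prime_two.factorization]
    simp
    ring
  · rw [Cfsg.Agent.H53.SEA.fac_pow_odd hodd hq1, Nat.factorization_eq_zero_of_not_dvd (by omega : ¬ 2 ∣ 2 * i + 1), add_zero]

end order

/-! ## Singer cycles -/
section singer
variable {p : ℕ} [hp : Fact p.Prime] {F : Type*} [Field F] [Fintype F]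

theorem DLe.of_comm {G : Type*} [Group G] (h : ∀ a b : G, a * b = b * a) : DLe p G 1 := fun _ _ =>
  ds_one_of_comm (fun a b => Subtype.ext (h a b))

theorem exists_singer (e : ℕ) (he : e ≠ 0) : ∃ (K : Type) (_ : Field K) (_ : Algebra F K) (_ : Finite K), Module.finrank F K = e ∧
    Nat.card K = Fintype.card F ^ e := by
  obtain ⟨r, hr⟩ := CharP.exists F
  have hr' : Fact r.Prime := ⟨CharP.char_is_prime F r⟩
  have : NeZero e := ⟨he⟩
  refine ⟨FiniteField.Extension F r e, inferInstance, inferInstance, inferInstance, FiniteField.finrank_extension F r e, ?_⟩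
  rw [FiniteField.natCard_extension, Nat.card_eq_fintype_card]

theorem exists_singer_hom (e : ℕ) (he : e ≠ 0) : ∃ (K : Type) (_ : Field K) (_ : Finite K) (f : Kˣ →* GL (Fin e) F),
    Function.Injective f ∧ Nat.card Kˣ = Fintype.card F ^ e - 1 := by
  obtain ⟨K, hK, hA, hfin, hrank, hcard⟩ := exists_singer (F := F) e he
  have : Module.Finite F K := Module.finite_of_finrank_pos (by rw [hrank]; exact Nat.pos_of_ne_zero he)
  let b : Module.Basis (Fin e) F K := Module.finBasisOfFinrankEq F K hrank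
  refine ⟨K, hK, hfin, Units.map (Algebra.leftMulMatrix b).toRingHom.toMonoidHom, ?_, ?_⟩
  · intro x y h
    apply Units.ext
    exact Algebra.leftMulMatrix_injective b (congrArg Units.val h)
  · rw [Nat.card_units, hcard]

theorem dle_GL_e (hpq : ¬ p ∣ Fintype.card F) {e : ℕ} (h : Shape p (Fintype.card F) e) : DLe p (GL (Fin e) F) 1 := by
  obtain ⟨K, hK, hfin, f, hf, hc⟩ := exists_singer_hom (F := F) e h.1
  refine DLe.of_injective_index f hf ?_ (DLe.of_comm mul_comm)
  rw [hc, fac_GL_e hpq h]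

theorem dle_GL (hpq : ¬ p ∣ Fintype.card F) {e : ℕ} (h : Shape p (Fintype.card F) e) (n : ℕ) :
    DLe p (GL (Fin n) F) (1 + Nat.log p (n / e)) := by
  obtain ⟨w, r, hn, hw⟩ : ∃ w r, n = e * w + r ∧ n / e = w := ⟨n / e, n % e, (Nat.div_add_mod n e).symm, rfl⟩
  rw [hw]
  subst hn
  refine dle_wreath w (glWrd' e w r h.1 F) (dle_GL_e hpq h) ?_
  rw [fac_GL_shape' hpq h, hw]

theorem dge_GL {e : ℕ} (he : e ≠ 0) (hd : p ∣ Fintype.card F ^ e - 1) (n : ℕ) (hn : e ≤ n) :
    DGe p (GL (Fin n) F) (0 + Nat.log p (n / e)) := by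
  obtain ⟨w, r, hn', hw⟩ : ∃ w r, n = e * w + r ∧ n / e = w := ⟨n / e, n % e, (Nat.div_add_mod n e).symm, rfl⟩
  have hw0 : w ≠ 0 := by
    rw [← hw]; exact (Nat.div_pos hn (Nat.pos_of_ne_zero he)).ne'
  rw [hw]
  subst hn'
  refine dge_wreath (glWrd' e w r he F) (k := Nat.log p w) ?_ ?_
  · rw [Nat.card_fin]; exact Nat.pow_log_le_self p hw0
  · obtain ⟨K, hK, hfin, f, hf, hc⟩ := exists_singer_hom (F := F) e he
    refine DGe.of_injective f hf ?_
    rw [← hc] at hd
    obtain ⟨x, hx⟩ := exists_prime_orderOf_dvd_card' p hd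
    refine ⟨zpowers x, IsPGroup.of_card (n := 1) (by rw [Nat.card_zpowers, hx, pow_one]), ?_⟩
    rw [derivedSeries_zero]
    intro h
    have h1 : Nat.card (zpowers x) = 1 := by
      have : Nat.card (⊤ : Subgroup (zpowers x)) = 1 := by rw [h]; simp
      rwa [Subgroup.card_top] at this
    rw [Nat.card_zpowers, hx] at h1
    exact hp.out.one_lt.ne' h1

end singer

end Cfsg.Agent.H94.Wr
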