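import Cfsg.Agent.H94.WrNR2

/-!
# Sylow 2-subgroups of GL₂(q), q ≡ 3 mod 4
-/
set_option autoImplicit false

namespace Cfsg.Agent.H94.Wr

open Matrix Subgroup Cfsg.Agent.H53.SEA
open scoped commutatorElement

section GL2
variable {F : Type*} [Field F] [Fintype F] (h3 : Fintype.card F % 4 = 3)

include h3

omit [Field F] in
theorem odd_of_three : Odd (Fintype.card F) := by rw [Nat.odd_iff]; omega

theorem two_ne_of_three : (2 : F) ≠ 0 := two_ne_zero_of_odd (odd_of_three h3)

theorem sq_add_sq (a b : F) (h : a ^ 2 + b ^ 2 = 0) : a = 0 ∧ b = 0 := by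
  have h1 : ¬ IsSquare (-1 : F) := by
    rw [FiniteField.isSquare_neg_one_iff]; omega
  by_cases hb : b = 0
  · subst hb
    refine ⟨?_, rfl⟩
    have : a ^ 2 = 0 := by linear_combination h
    exact pow_eq_zero_iff (by norm_num) |>.mp this
  · exfalso
    apply h1
    refine ⟨a / b, ?_⟩
    field_simp
    linear_combination -h

/-- 2-elements of the multiplicative group -/
theorem unit_two (x : F) (k : ℕ) (h : x ^ 2 ^ k = 1) : x ^ 2 = 1 := by
  have h2 : x ^ (Fintype.card F - 1) = 1 := by
    refine FiniteField.pow_card_sub_one_eq_one _ ?_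
    rintro rfl
    rw [zero_pow (by positivity)] at h
    exact zero_ne_one h
  have h4 : orderOf x ∣ 2 := by
    have h5 : orderOf x ∣ 2 ^ k := orderOf_dvd_of_pow_eq_one h
    have h6 : orderOf x ∣ Fintype.card F - 1 := orderOf_dvd_of_pow_eq_one h2
    obtain ⟨j, hj, hj'⟩ := (Nat.dvd_prime_pow Nat.prime_two).1 h5
    rw [hj'] at h6 ⊢
    rcases j with _ | _ | j
    · exact one_dvd _
    · exact dvd_rfl
    · exfalso
      have h6 : 4 ∣ Fintype.card F - 1 := (Dvd.intro_left (2 ^ j) (by rw [pow_succ, pow_succ]; ring)).trans h6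
      have : 1 < Fintype.card F := Fintype.one_lt_card
      omega
  exact orderOf_dvd_iff_pow_eq_one.mp h4

omit h3 [Fintype F] in
/-- the centralizer of a non-scalar matrix -/
theorem comm_two (r c : Matrix (Fin 2) (Fin 2) F) (hr : ∀ a : F, r ≠ a • 1) (hc : r * c = c * r) :
    ∃ a b : F, c = a • 1 + b • r := by
  have e00 : r 0 1 * c 1 0 = c 0 1 * r 1 0 := by
    have := congrFun (congrFun hc 0) 0
    rw [Matrix.mul_apply, Matrix.mul_apply, Fin.sum_univ_two, Fin.sum_univ_two] at this
    linear_combination this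
  have e01 : r 0 0 * c 0 1 + r 0 1 * c 1 1 = c 0 0 * r 0 1 + c 0 1 * r 1 1 := by
    have := congrFun (congrFun hc 0) 1
    rw [Matrix.mul_apply, Matrix.mul_apply, Fin.sum_univ_two, Fin.sum_univ_two] at this
    exact this
  have e10 : r 1 0 * c 0 0 + r 1 1 * c 1 0 = c 1 0 * r 0 0 + c 1 1 * r 1 0 := by
    have := congrFun (congrFun hc 1) 0
    rw [Matrix.mul_apply, Matrix.mul_apply, Fin.sum_univ_two, Fin.sum_univ_two] at this
    exact this
  have hfin : ∀ a b : F, c 0 0 = a + b * r 0 0 → c 0 1 = b * r 0 1 → c 1 0 = b * r 1 0 → c 1 1 = a + b * r 1 1 → c = a • 1 + b • r := by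
    intro a b h1 h2 h3 h4
    ext i j
    fin_cases i <;> fin_cases j
    · simpa using h1
    · simpa using h2
    · simpa using h3
    · simpa using h4
  by_cases h01 : r 0 1 = 0
  · by_cases h10 : r 1 0 = 0
    · have hd : r 1 1 - r 0 0 ≠ 0 := by
        intro h
        apply hr (r 0 0)
        ext i j
        fin_cases i <;> fin_cases j
        · simp
        · simpa using h01
        · simpa using h10
        · simp; linear_combination h
      refine ⟨c 0 0 - (c 1 1 - c 0 0) / (r 1 1 - r 0 0) * r 0 0, (c 1 1 - c 0 0) / (r 1 1 - r 0 0), hfin _ _ (by ring) ?_ ?_ ?_⟩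
      · rw [h01, mul_zero]
        rw [h01] at e01
        have : c 0 1 * (r 1 1 - r 0 0) = 0 := by linear_combination -e01
        exact (mul_eq_zero.mp this).resolve_right hd
      · rw [h10, mul_zero]
        rw [h10] at e10
        have : c 1 0 * (r 1 1 - r 0 0) = 0 := by linear_combination e10
        exact (mul_eq_zero.mp this).resolve_right hd
      · field_simp
        ring
    · refine ⟨c 0 0 - c 1 0 / r 1 0 * r 0 0, c 1 0 / r 1 0, hfin _ _ (by ring) ?_ (by field_simp) ?_⟩
      · field_simp; linear_combination -e00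
      · field_simp; linear_combination -e10
  · refine ⟨c 0 0 - c 0 1 / r 0 1 * r 0 0, c 0 1 / r 0 1, hfin _ _ (by ring) (by field_simp) ?_ ?_⟩
    · field_simp; linear_combination e00
    · field_simp; linear_combination e01

/-- 2-elements commuting with a non-scalar involution are involutions -/
theorem sq_of_comm (r c : Matrix (Fin 2) (Fin 2) F) (hr2 : r * r = 1) (hr1 : r ≠ 1) (hr1' : r ≠ -1) (hc : r * c = c * r)
    (k : ℕ) (hk : c ^ 2 ^ k = 1) : c * c = 1 := by
  have h2 := two_ne_of_three h3
  have hns : ∀ a : F, r ≠ a • 1 := by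
    rintro a rfl
    have h4 : (a * a) • (1 : Matrix (Fin 2) (Fin 2) F) = 1 := by
      rw [smul_mul_smul_comm, one_mul] at hr2; exact hr2
    have h5 := congrFun (congrFun h4 0) 0
    simp at h5
    have h6 : (a - 1) * (a + 1) = 0 := by linear_combination h5
    rcases mul_eq_zero.mp h6 with h | h
    · rw [sub_eq_zero] at h; subst h; exact hr1 (one_smul _ _)
    · have : a = -1 := by linear_combination h
      subst this; exact hr1' (by rw [neg_smul, one_smul])
  obtain ⟨a, b, hab⟩ := comm_two r c hns hc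
  have hP : ∀ m : ℕ, c ^ m * (1 + r) = (a + b) ^ m • (1 + r) := by
    intro m
    induction m with
    | zero => simp
    | succ m ih =>
      have h7 : c * (1 + r) = (a + b) • (1 + r) := by
        rw [hab, add_mul, smul_mul_assoc, smul_mul_assoc, one_mul, mul_add, mul_one, hr2, smul_add, smul_add, add_smul, smul_add, smul_add]
        abel
      rw [pow_succ, mul_assoc, h7, mul_smul_comm, ih, smul_smul, pow_succ, mul_comm]
  have hQ : ∀ m : ℕ, c ^ m * (1 - r) = (a - b) ^ m • (1 - r) := by
    intro m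
    induction m with
    | zero => simp
    | succ m ih =>
      have h7 : c * (1 - r) = (a - b) • (1 - r) := by
        rw [hab, add_mul, smul_mul_assoc, smul_mul_assoc, one_mul, mul_sub, mul_one, hr2, smul_sub, smul_sub, sub_smul, smul_sub, smul_sub]
        abel
      rw [pow_succ, mul_assoc, h7, mul_smul_comm, ih, smul_smul, pow_succ, mul_comm]
  have hP0 : 1 + r ≠ 0 := fun h => hr1' (eq_neg_of_add_eq_zero_right h)
  have hQ0 : 1 - r ≠ 0 := fun h => hr1 (sub_eq_zero.mp h).symm
  have ha : (a + b) ^ 2 ^ k = 1 := by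
    have := hP (2 ^ k)
    rw [hk, one_mul] at this
    have h8 : ((a + b) ^ 2 ^ k - 1) • (1 + r) = 0 := by rw [sub_smul, one_smul, ← this, sub_self]
    rcases smul_eq_zero.mp h8 with h | h
    · exact sub_eq_zero.mp h
    · exact absurd h hP0
  have hb : (a - b) ^ 2 ^ k = 1 := by
    have := hQ (2 ^ k)
    rw [hk, one_mul] at this
    have h8 : ((a - b) ^ 2 ^ k - 1) • (1 - r) = 0 := by rw [sub_smul, one_smul, ← this, sub_self]
    rcases smul_eq_zero.mp h8 with h | h
    · exact sub_eq_zero.mp h
    · exact absurd h hQ0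
  have ha2 := unit_two h3 _ k ha
  have hb2 := unit_two h3 _ k hb
  have h9 : c ^ 2 * (1 + r) = 1 + r := by rw [hP, ha2, one_smul]
  have h10 : c ^ 2 * (1 - r) = 1 - r := by rw [hQ, hb2, one_smul]
  have h11 : (2 : F) • (c ^ 2) = (2 : F) • 1 := by
    have : c ^ 2 * (1 + r) + c ^ 2 * (1 - r) = (1 + r) + (1 - r) := by rw [h9, h10]
    rw [mul_add, mul_sub, mul_one] at this
    rw [two_smul, two_smul]
    calc c ^ 2 + c ^ 2 = c ^ 2 + c ^ 2 * r + (c ^ 2 - c ^ 2 * r) := by abel
      _ = 1 + r + (1 - r) := this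
      _ = 1 + 1 := by abel
  rw [← sq]
  exact smul_right_injective _ h2 h11

/-- exponent-2 subgroups have order at most 4 -/
theorem card_le_four (A : Subgroup (GL (Fin 2) F)) (hA : ∀ a ∈ A, a * a = 1) : Nat.card A ≤ 4 := by
  have h2 := two_ne_of_three h3
  let ρ : A →* Module.End F (Fin 2 → F) :=
    (Matrix.toLinAlgEquiv' (R := F) (n := Fin 2)).toAlgHom.toRingHom.toMonoidHom.comp ((Units.coeHom _).comp A.subtype)
  have h := ElAb2.card_le ρ h2 (fun a => Subtype.ext (hA a a.2)) (by
    intro x y hxy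
    apply Subtype.ext
    apply Units.ext
    exact (Matrix.toLinAlgEquiv' (R := F) (n := Fin 2)).injective hxy)
  simpa using h

theorem card_sylow_ge (M : Sylow 2 (GL (Fin 2) F)) : 16 ≤ Nat.card (M : Subgroup (GL (Fin 2) F)) := by
  have hF := odd_of_three h3
  rw [card_sylow M, fac_card_GL_two hF]
  have h1 : 2 ≤ (Fintype.card F + 1).factorization 2 := by
    rw [← (Nat.prime_two).pow_dvd_iff_le_factorization (by omega)]; omega
  have h4 : 1 ≤ (Fintype.card F - 1).factorization 2 := by
    rw [← (Nat.prime_two).pow_dvd_iff_le_factorization (by omega)]; omega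
  have h5 : (Fintype.card F * ((Fintype.card F - 1) * (Fintype.card F + 1))).factorization 2 ≥ 3 := by
    rw [Nat.factorization_mul (by omega) (Nat.mul_ne_zero (by omega) (by omega)), Nat.factorization_mul (by omega) (by omega)]
    simp only [Finsupp.add_apply]
    omega
  calc 16 = 2 ^ 4 := by norm_num
    _ ≤ _ := Nat.pow_le_pow_right (by norm_num) (by omega)

theorem exists_sq_ne (M : Sylow 2 (GL (Fin 2) F)) : ∃ x ∈ (M : Subgroup (GL (Fin 2) F)), x ^ 2 ≠ 1 := by
  by_contra hcon
  push Not at hcon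
  have h1 := card_sylow_ge h3 M
  have h2 := card_le_four h3 (M : Subgroup (GL (Fin 2) F)) (fun a ha => by rw [← sq]; exact hcon a ha)
  omega

/-- normal elementary abelian subgroups of a Sylow 2-subgroup have order at most two -/
theorem ub_GL2 (M : Sylow 2 (GL (Fin 2) F)) : UB (M : Subgroup (GL (Fin 2) F)) 1 := by
  classical
  intro E hE hel
  by_contra hcard
  push Not at hcard
  rw [pow_one] at hcard
  have h2 := two_ne_of_three h3
  -- a non-scalar involution in `E`
  obtain ⟨r, hrE, hr1, hr1'⟩ : ∃ r ∈ E, ((r : GL (Fin 2) F) : Matrix (Fin 2) (Fin 2) F) ≠ 1 ∧ ((r : GL (Fin 2) F) : Matrix (Fin 2) (Fin 2) F) ≠ -1 := by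
    by_contra hcon
    push Not at hcon
    have h4 : Nat.card E ≤ Nat.card (Fin 2) := by
      refine Nat.card_le_card_of_injective (fun e : E => if (((e : (M : Subgroup (GL (Fin 2) F))) : GL (Fin 2) F) : Matrix (Fin 2) (Fin 2) F) = 1 then (0 : Fin 2) else 1) ?_
      intro a b hab
      apply Subtype.ext; apply Subtype.ext; apply Units.ext
      simp only at hab
      by_cases ha : (((a : (M : Subgroup (GL (Fin 2) F))) : GL (Fin 2) F) : Matrix (Fin 2) (Fin 2) F) = 1
      · by_cases hb : (((b : (M : Subgroup (GL (Fin 2) F))) : GL (Fin 2) F) : Matrix (Fin 2) (Fin 2) F) = 1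
        · rw [ha, hb]
        · rw [if_pos ha, if_neg hb] at hab; exact absurd hab (by decide)
      · by_cases hb : (((b : (M : Subgroup (GL (Fin 2) F))) : GL (Fin 2) F) : Matrix (Fin 2) (Fin 2) F) = 1
        · rw [if_neg ha, if_pos hb] at hab; exact absurd hab (by decide)
        · rw [hcon a a.2 ha, hcon b b.2 hb]
    rw [Nat.card_fin] at h4
    omega
  have hr2 : r ^ 2 = 1 := hel.2 r hrE
  have hr2' : ((r : GL (Fin 2) F) : Matrix (Fin 2) (Fin 2) F) * ((r : GL (Fin 2) F) : Matrix (Fin 2) (Fin 2) F) = 1 := by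
    have := congrArg (fun z : (M : Subgroup (GL (Fin 2) F)) => ((z : GL (Fin 2) F) : Matrix (Fin 2) (Fin 2) F)) hr2
    rw [sq] at this
    exact this
  -- the centralizer
  let C : Subgroup (M : Subgroup (GL (Fin 2) F)) := centralizer {r}
  have hC : ∀ c ∈ C, c * c = 1 := by
    intro c hc
    rw [mem_centralizer_singleton_iff] at hc
    obtain ⟨k, hk⟩ := M.isPGroup' c
    have hk' := congrArg (fun z : (M : Subgroup (GL (Fin 2) F)) => ((z : GL (Fin 2) F) : Matrix (Fin 2) (Fin 2) F)) hk
    have hc' := congrArg (fun z : (M : Subgroup (GL (Fin 2) F)) => ((z : GL (Fin 2) F) : Matrix (Fin 2) (Fin 2) F)) hc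
    have h := sq_of_comm h3 ((r : GL (Fin 2) F) : Matrix (Fin 2) (Fin 2) F) ((c : GL (Fin 2) F) : Matrix (Fin 2) (Fin 2) F) hr2' hr1 hr1'
      (by simpa using hc'.symm) k (by simpa using hk')
    apply Subtype.ext; apply Units.ext
    exact h
  have hC4 : Nat.card C ≤ 4 := by
    have h := card_le_four h3 (C.map (M : Subgroup (GL (Fin 2) F)).subtype) (by
      rintro _ ⟨c, hc, rfl⟩
      rw [← map_mul, hC c hc, map_one])
    rwa [← Nat.card_congr (C.equivMapOfInjective _ (subtype_injective _)).toEquiv] at h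
  have hE4 : Nat.card E ≤ 4 := by
    have h := card_le_four h3 (E.map (M : Subgroup (GL (Fin 2) F)).subtype) (by
      rintro _ ⟨c, hc, rfl⟩
      rw [← map_mul, ← sq, hel.2 c hc, map_one])
    rwa [← Nat.card_congr (E.equivMapOfInjective _ (subtype_injective _)).toEquiv] at h
  -- the class of `r`
  have hidx : C.index ≤ 3 := by
    have h5 : Nat.card ((M : Subgroup (GL (Fin 2) F)) ⧸ C) ≤ Nat.card {e : E // e ≠ 1} := by
      refine Nat.card_le_card_of_injective (Quotient.lift (fun g => (⟨⟨g * r * g⁻¹, hE.conj_mem r hrE g⟩, ?_⟩ : {e : E // e ≠ 1})) ?_) ?_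
      · intro h
        have h6 : g * r * g⁻¹ = 1 := congrArg Subtype.val h
        have h7 : r = 1 := by
          have : r = g⁻¹ * (g * r * g⁻¹) * g := by group
          rw [this, h6]; group
        apply hr1
        rw [h7]; rfl
      · intro a b hab
        have hab' : a⁻¹ * b ∈ C := QuotientGroup.leftRel_apply.mp hab
        rw [mem_centralizer_singleton_iff] at hab'
        apply Subtype.ext; apply Subtype.ext
        change a * r * a⁻¹ = b * r * b⁻¹
        have : b = a * (a⁻¹ * b) := by group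
        calc a * r * a⁻¹ = a * (r * (a⁻¹ * b)) * (a⁻¹ * b)⁻¹ * a⁻¹ := by group
          _ = a * ((a⁻¹ * b) * r) * (a⁻¹ * b)⁻¹ * a⁻¹ := by rw [hab']
          _ = b * r * b⁻¹ := by group
      · intro a b
        refine Quotient.inductionOn₂ a b ?_
        intro a b hab
        have h6 : a * r * a⁻¹ = b * r * b⁻¹ := congrArg (fun z : {e : E // e ≠ 1} => (z.1 : (M : Subgroup (GL (Fin 2) F)))) hab
        apply Quotient.sound
        change (QuotientGroup.leftRel C) a b
        rw [QuotientGroup.leftRel_apply, mem_centralizer_singleton_iff]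
        calc a⁻¹ * b * r = a⁻¹ * (b * r * b⁻¹) * b := by group
          _ = a⁻¹ * (a * r * a⁻¹) * b := by rw [h6]
          _ = r * (a⁻¹ * b) := by group
    have h8 : Nat.card {e : E // e ≠ 1} = Nat.card E - 1 := by
      have := Fintype.ofFinite E
      rw [Nat.card_eq_fintype_card, Nat.card_eq_fintype_card]
      simp [Fintype.card_subtype_compl]
    rw [Subgroup.index]
    omega
  have h9 := C.card_mul_index
  have h10 := card_sylow_ge h3 M
  have h11 : Nat.card C * C.index ≤ 4 * 3 := Nat.mul_le_mul hC4 hidx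
  omega

omit [Fintype F] h3 in
/-- the rotation -/
def rotU (F : Type*) [Field F] : GL (Fin 2) F :=
  ⟨!![0, -1; 1, 0], !![0, 1; -1, 0], by
    rw [Matrix.mul_fin_two, Matrix.one_fin_two]; simp, by
    rw [Matrix.mul_fin_two, Matrix.one_fin_two]; simp⟩

omit [Fintype F] h3 in
theorem mem_cent_rot (x : GL (Fin 2) F) : x ∈ centralizer {rotU F} ↔
    ∃ a b : F, (x : Matrix (Fin 2) (Fin 2) F) = !![a, -b; b, a] := by
  rw [mem_centralizer_singleton_iff, Units.ext_iff]
  change (x : Matrix (Fin 2) (Fin 2) F) * !![0, -1; 1, 0] = !![0, -1; 1, 0] * (x : Matrix (Fin 2) (Fin 2) F) ↔ _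
  constructor
  · intro h
    have e00 := congrFun (congrFun h 0) 0
    have e01 := congrFun (congrFun h 0) 1
    simp [Matrix.mul_apply, Fin.sum_univ_two] at e00 e01
    refine ⟨x 0 0, x 1 0, ?_⟩
    ext i j
    fin_cases i <;> fin_cases j
    · rfl
    · simpa using e00
    · rfl
    · simp; linear_combination -e01
  · rintro ⟨a, b, h⟩
    rw [h, Matrix.mul_fin_two, Matrix.mul_fin_two]
    simp

omit [Fintype F] h3 in
theorem cent_rot_comm (x y : GL (Fin 2) F) (hx : x ∈ centralizer {rotU F}) (hy : y ∈ centralizer {rotU F}) : x * y = y * x := by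
  rw [mem_cent_rot] at hx hy
  obtain ⟨a, b, h1⟩ := hx
  obtain ⟨c, d, h2⟩ := hy
  apply Units.ext
  rw [Units.val_mul, Units.val_mul, h1, h2, Matrix.mul_fin_two, Matrix.mul_fin_two]
  ext i j
  fin_cases i <;> fin_cases j <;> simp <;> ring

theorem card_cent_rot : Nat.card (centralizer {rotU F}) = Fintype.card F ^ 2 - 1 := by
  classical
  have hdet : ∀ p : F × F, p ≠ 0 → (!![p.1, -p.2; p.2, p.1] : Matrix (Fin 2) (Fin 2) F).det ≠ 0 := by
    intro p hp h
    rw [Matrix.det_fin_two_of] at h
    obtain ⟨h5, h6⟩ := sq_add_sq h3 p.1 p.2 (by linear_combination h)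
    exact hp (Prod.ext h5 h6)
  let f : {p : F × F // p ≠ 0} → centralizer {rotU F} := fun p =>
    ⟨GeneralLinearGroup.mkOfDetNeZero _ (hdet p.1 p.2), by
      rw [mem_cent_rot]
      exact ⟨p.1.1, p.1.2, rfl⟩⟩
  have hf : Function.Bijective f := by
    constructor
    · intro p p' h
      have h4 : (!![p.1.1, -p.1.2; p.1.2, p.1.1] : Matrix (Fin 2) (Fin 2) F) = !![p'.1.1, -p'.1.2; p'.1.2, p'.1.1] :=
        congrArg (fun z : centralizer {rotU F} => ((z : GL (Fin 2) F) : Matrix (Fin 2) (Fin 2) F)) h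
      have h5 := congrFun (congrFun h4 0) 0
      have h6 := congrFun (congrFun h4 1) 0
      simp at h5 h6
      exact Subtype.ext (Prod.ext h5 h6)
    · rintro ⟨x, hx⟩
      have hx' := hx
      rw [mem_cent_rot] at hx'
      obtain ⟨a, b, hab⟩ := hx'
      have hne : (a, b) ≠ (0 : F × F) := by
        intro h
        have ha : a = 0 := congrArg Prod.fst h
        have hb : b = 0 := congrArg Prod.snd h
        subst ha; subst hb
        have h5 : (x : Matrix (Fin 2) (Fin 2) F) * ((x⁻¹ : GL (Fin 2) F) : Matrix (Fin 2) (Fin 2) F) = 1 := by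
          rw [← Units.val_mul, mul_inv_cancel, Units.val_one]
        have h6 := congrFun (congrFun h5 0) 0
        rw [hab, Matrix.mul_apply, Fin.sum_univ_two] at h6
        simp at h6
      refine ⟨⟨(a, b), hne⟩, ?_⟩
      apply Subtype.ext; apply Units.ext
      exact hab.symm
  rw [← Nat.card_congr (Equiv.ofBijective f hf), Nat.card_eq_fintype_card, Fintype.card_subtype_compl, Fintype.card_prod]
  simp [sq]

omit h3 in
theorem refl_conj (x : GL (Fin 2) F) (hx : x ∈ centralizer {rotU F}) : rfl2 F * x * (rfl2 F)⁻¹ ∈ centralizer {rotU F} := by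
  rw [mem_cent_rot] at hx ⊢
  obtain ⟨a, b, h⟩ := hx
  refine ⟨a, -b, ?_⟩
  have h1 : (rfl2 F)⁻¹ = rfl2 F := inv_eq_of_mul_eq_one_left (by rw [← sq]; exact rfl2_sq)
  rw [h1, Units.val_mul, Units.val_mul, h]
  change !![1, 0; 0, -1] * !![a, -b; b, a] * !![1, 0; 0, -1] = _
  rw [Matrix.mul_fin_two, Matrix.mul_fin_two]
  simp

theorem rfl_not_mem : rfl2 F ∉ centralizer {rotU F} := by
  rw [mem_cent_rot]
  rintro ⟨a, b, h⟩
  change !![1, 0; 0, -1] = _ at h
  have h5 := congrFun (congrFun h 0) 0
  have h6 := congrFun (congrFun h 1) 1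
  simp at h5 h6
  apply two_ne_of_three h3
  linear_combination h5 - h6

/-- derived lengths of 2-subgroups of `GL₂(q)`, `q ≡ 3 mod 4` -/
theorem dle_GL2_three : DLe 2 (GL (Fin 2) F) 2 := by
  set T := centralizer {rotU F} with hT
  set w := rfl2 F with hw
  have hw2 : w * w = 1 := by rw [← sq]; exact rfl2_sq
  have hwi : w⁻¹ = w := inv_eq_of_mul_eq_one_left hw2
  have hconj : ∀ x ∈ T, w * x * w ∈ T := by
    intro x hx
    have := refl_conj x hx
    rwa [← hw, hwi] at this
  have hconj' : ∀ x, w * x * w ∈ T → x ∈ T := by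
    intro x hx
    have h := hconj _ hx
    have : w * (w * x * w) * w = (w * w) * x * (w * w) := by group
    rwa [this, hw2, one_mul, mul_one] at h
  let N : Subgroup (GL (Fin 2) F) :=
    { carrier := {x | x ∈ T ∨ x * w ∈ T}
      one_mem' := Or.inl (one_mem _)
      mul_mem' := by
        rintro x y (hx | hx) (hy | hy)
        · exact Or.inl (mul_mem hx hy)
        · exact Or.inr (by rw [mul_assoc]; exact mul_mem hx hy)
        · refine Or.inr ?_
          have : x * y * w = (x * w) * (w * y * w) := by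
            calc x * y * w = x * 1 * y * w := by group
              _ = _ := by rw [← hw2]; group
          rw [this]
          exact mul_mem hx (hconj y hy)
        · refine Or.inl ?_
          have : x * y = (x * w) * (w * (y * w) * w) := by
            calc x * y = x * 1 * y * 1 := by group
              _ = _ := by rw [← hw2]; group
          rw [this]
          exact mul_mem hx (hconj _ hy)
      inv_mem' := by
        rintro x (hx | hx)
        · exact Or.inl (inv_mem hx)
        · refine Or.inr ?_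
          have h := hconj _ (inv_mem hx)
          rw [_root_.mul_inv_rev, hwi] at h
          have : w * (w * x⁻¹) * w = (w * w) * x⁻¹ * w := by group
          rwa [this, hw2, one_mul] at h }
  have hN : ∀ x ∈ N, x ∈ T ∨ ∃ t ∈ T, x = t * w := by
    rintro x (hx | hx)
    · exact Or.inl hx
    · refine Or.inr ⟨x * w, hx, ?_⟩
      rw [mul_assoc, hw2, mul_one]
  have hTN : ∀ x ∈ N, ∀ t ∈ T, x * t * x⁻¹ ∈ T := by
    intro x hx t ht
    rcases hN x hx with h | ⟨s, hs, rfl⟩
    · exact mul_mem (mul_mem h ht) (inv_mem h)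
    · rw [_root_.mul_inv_rev, hwi]
      have : s * w * t * (w * s⁻¹) = s * (w * t * w) * s⁻¹ := by group
      rw [this]
      exact mul_mem (mul_mem hs (hconj t ht)) (inv_mem hs)
  have hds : derivedSeries N 2 = ⊥ := by
    refine ds_two_of (T.subgroupOf N) ?_ ?_
    · intro a ha b hb
      exact Subtype.ext (cent_rot_comm _ _ ha hb)
    · rintro ⟨a, ha⟩ ⟨b, hb⟩
      rw [mem_subgroupOf, commutatorElement_def]
      change a * b * a⁻¹ * b⁻¹ ∈ T
      rcases hN a ha with h1 | ⟨s, hs, rfl⟩
      · have : a * b * a⁻¹ * b⁻¹ = a * (b * a⁻¹ * b⁻¹) := by group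
        rw [this]; exact mul_mem h1 (hTN b hb _ (inv_mem h1))
      · rcases hN b hb with h2 | ⟨t, ht, rfl⟩
        · exact mul_mem (hTN _ ha _ h2) (inv_mem h2)
        · have : s * w * (t * w) * (s * w)⁻¹ * (t * w)⁻¹ = s * (w * (t * s⁻¹) * w⁻¹) * t⁻¹ := by group
          rw [this, hwi]
          exact mul_mem (mul_mem hs (hconj _ (mul_mem ht (inv_mem hs)))) (inv_mem ht)
  have hcN : Nat.card N = Nat.card T * 2 := by
    have hTN' : T ≤ N := fun x hx => Or.inl hx
    have h1 : (T.subgroupOf N).index = 2 := by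
      rw [Subgroup.index_eq_two_iff']
      refine ⟨⟨w, Or.inr (by rw [hw2]; exact one_mem _)⟩, ?_⟩
      rintro ⟨b, hb⟩
      rw [mem_subgroupOf, mem_subgroupOf]
      change Xor (w * b ∈ T) (b ∈ T)
      rcases hN b hb with h | ⟨t, ht, rfl⟩
      · refine Or.inr ⟨h, fun h' => ?_⟩
        have := mul_mem h' (inv_mem h)
        rw [mul_inv_cancel_right] at this
        exact rfl_not_mem h3 this
      · refine Or.inl ⟨?_, fun h' => ?_⟩
        · rw [← mul_assoc]; exact hconj t ht
        · have := mul_mem (inv_mem ht) h'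
          rw [inv_mul_cancel_left] at this
          exact rfl_not_mem h3 this
    have h2 := (T.subgroupOf N).card_mul_index
    rw [h1, Nat.card_congr (subgroupOfEquivOfLe hTN').toEquiv] at h2
    exact h2.symm
  refine DLe.of_injective_index N.subtype (subtype_injective _) ?_ ?_
  · rw [fac_card_GL_two (odd_of_three h3), hcN, hT, card_cent_rot h3]
    have hq1 : 1 < Fintype.card F := Fintype.one_lt_card
    have h5 : Fintype.card F ^ 2 - 1 = (Fintype.card F - 1) * (Fintype.card F + 1) := by
      obtain ⟨k, hk⟩ : ∃ k, Fintype.card F = k + 1 := ⟨Fintype.card F - 1, by omega⟩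
      rw [hk]
      have : (k + 1) ^ 2 = k * (k + 2) + 1 := by ring
      rw [this]; simp
    have h7 : (Fintype.card F - 1).factorization 2 = 1 := by
      obtain ⟨k, hk⟩ : ∃ k, Fintype.card F - 1 = 2 * (2 * k + 1) := ⟨(Fintype.card F - 1) / 4, by omega⟩
      rw [hk, Nat.factorization_mul (by omega) (by omega)]
      simp only [Finsupp.add_apply]
      rw [Nat.factorization_eq_zero_of_not_dvd (by omega : ¬ 2 ∣ 2 * k + 1), Nat.prime_two.factorization]
      simp
    rw [h5, Nat.factorization_mul (Nat.mul_ne_zero (by omega) (by omega)) (by norm_num),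
      Nat.factorization_mul (by omega) (Nat.mul_ne_zero (by omega) (by omega)), Nat.prime_two.factorization]
    simp only [Finsupp.add_apply, Finsupp.single_eq_same]
    rw [h7, Nat.factorization_eq_zero_of_not_dvd (by omega : ¬ 2 ∣ Fintype.card F)]
    ring
  · intro P _
    exact ds_bot_of_injective P.subtype (subtype_injective _) hds

end GL2

end Cfsg.Agent.H94.Wr
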