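import Cfsg.Agent.H94.Wr
import Cfsg.Prelude.Def_Transfer
import Cfsg.Agent.Solv.Core

/-!
# Normal 2-rank and wreath products
-/
set_option autoImplicit false

namespace Cfsg.Agent.H94.Wr

open Subgroup
open scoped commutatorElement

variable {p : ℕ}

/-- the homomorphism from the abstract wreath product -/
def Wrd.hom {ι S G : Type*} [Group S] [Group G] (w : Wrd ι S G) : W ι S →* G :=
  SemidirectProduct.lift w.Δ w.σ (by
    intro s
    ext v
    change w.Δ (fun i => v (s⁻¹ i)) = w.σ s * w.Δ v * (w.σ s)⁻¹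
    rw [w.conj])

theorem Wrd.hom_apply {ι S G : Type*} [Group S] [Group G] (w : Wrd ι S G) (x : W ι S) :
    w.hom x = w.Δ x.left * w.σ x.right := rfl

theorem Wrd.hom_injective {ι S G : Type*} [Group S] [Group G] (w : Wrd ι S G) : Function.Injective w.hom := by
  rw [injective_iff_map_eq_one]
  intro x hx
  rw [w.hom_apply] at hx
  have h1 : w.σ x.right = w.Δ (x.left)⁻¹ := by
    rw [map_inv]; exact eq_inv_of_mul_eq_one_right hx
  have h2 := w.int _ _ h1
  rw [h2, map_one, mul_one, ← map_one w.Δ] at hx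
  exact SemidirectProduct.ext (w.inj hx) h2

theorem W_mul_left {ι S : Type*} [Group S] (g h : W ι S) (i : ι) : (g * h).left i = g.left i * h.left (g.right⁻¹ i) := rfl

theorem W_inv_left {ι S : Type*} [Group S] (g : W ι S) (i : ι) : (g⁻¹).left i = (g.left (g.right i))⁻¹ := rfl

instance finite_W {ι S : Type*} [Finite ι] [Group S] [Finite S] : Finite (W ι S) :=
  Finite.of_equiv _ (SemidirectProduct.equivProd (φ := wact ι S)).symm

theorem card_W {ι S : Type*} [Finite ι] [Group S] [Finite S] : Nat.card (W ι S) = Nat.card S ^ Nat.card ι * Nat.factorial (Nat.card ι) := by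
  rw [SemidirectProduct.card, Nat.card_perm, Nat.card_fun]

/-- Sylow subgroups of a group containing an injective image of index prime to `p` -/
theorem sylow_equiv {H G : Type*} [Group H] [Group G] [Finite G] [Fact p.Prime] (f : H →* G) (hf : Function.Injective f)
    (hv : (Nat.card G).factorization p = (Nat.card H).factorization p) (P : Sylow p G) (R : Sylow p H) :
    Nonempty ((R : Subgroup H) ≃* (P : Subgroup G)) := by
  have : Finite H := Finite.of_injective f hf
  have e : (R : Subgroup H) ≃* (R : Subgroup H).map f := (R : Subgroup H).equivMapOfInjective f hf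
  have hc : Nat.card ((R : Subgroup H).map f) = p ^ (Nat.card G).factorization p := by
    rw [hv, ← card_sylow R]
    exact (Nat.card_congr e.toEquiv).symm
  let Q : Sylow p G := Sylow.ofCard _ hc
  have e2 : (Q : Subgroup G) ≃* (P : Subgroup G) := Sylow.equiv Q P
  exact ⟨e.trans e2⟩

/-- a normal elementary abelian subgroup of order at least `2 ^ k` -/
def LB (P : Type*) [Group P] (k : ℕ) : Prop :=
  ∃ E : Subgroup P, E.Normal ∧ Cfsg.IsElementaryAbelian 2 E ∧ 2 ^ k ≤ Nat.card E

/-- normal elementary abelian subgroups have order at most `2 ^ k` -/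
def UB (P : Type*) [Group P] (k : ℕ) : Prop :=
  ∀ E : Subgroup P, E.Normal → Cfsg.IsElementaryAbelian 2 E → Nat.card E ≤ 2 ^ k

theorem elab_map {P Q : Type*} [Group P] [Group Q] (f : P →* Q) {E : Subgroup P} (h : Cfsg.IsElementaryAbelian 2 E) :
    Cfsg.IsElementaryAbelian 2 (E.map f) := by
  refine ⟨?_, ?_⟩
  · refine ⟨⟨?_⟩⟩
    rintro ⟨_, a, ha, rfl⟩ ⟨_, b, hb, rfl⟩
    apply Subtype.ext
    change f a * f b = f b * f a
    rw [← map_mul, ← map_mul]
    have := h.1.is_comm.comm ⟨a, ha⟩ ⟨b, hb⟩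
    exact congrArg f (congrArg Subtype.val this)
  · rintro _ ⟨a, ha, rfl⟩
    rw [← map_pow, h.2 a ha, map_one]

theorem LB.congr {P Q : Type*} [Group P] [Group Q] {k : ℕ} (h : LB P k) (e : P ≃* Q) : LB Q k := by
  obtain ⟨E, hE, h1, h2⟩ := h
  refine ⟨E.map e.toMonoidHom, hE.map _ e.surjective, elab_map _ h1, ?_⟩
  rw [← Nat.card_congr (E.equivMapOfInjective e.toMonoidHom e.injective).toEquiv]
  exact h2

theorem UB.congr {P Q : Type*} [Group P] [Group Q] {k : ℕ} (h : UB P k) (e : P ≃* Q) : UB Q k := by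
  intro E hE h1
  have h2 := h (E.map e.symm.toMonoidHom) (hE.map _ e.symm.surjective) (elab_map _ h1)
  rwa [← Nat.card_congr (E.equivMapOfInjective e.symm.toMonoidHom e.symm.injective).toEquiv] at h2

/-- normal 2-subgroups of `H` lie in all Sylow subgroups -/
theorem LB.of_normal {H : Type*} [Group H] [Finite H] (R : Sylow 2 H) (Z : Subgroup H) (hZ : Z.Normal)
    (hZe : Cfsg.IsElementaryAbelian 2 Z) {k : ℕ} (hk : 2 ^ k ≤ Nat.card Z) : LB (R : Subgroup H) k := by
  have hp : IsPGroup 2 Z := fun x => ⟨1, by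
    apply Subtype.ext
    change (x : H) ^ (2 ^ 1) = 1
    rw [pow_one]; exact hZe.2 x x.2⟩
  have hle : Z ≤ (R : Subgroup H) := (Solv.le_pCore hZ hp).trans (Solv.pCore_le_sylow R)
  refine ⟨Z.subgroupOf R, inferInstance, ?_, ?_⟩
  · refine ⟨⟨⟨?_⟩⟩, ?_⟩
    · rintro ⟨a, ha⟩ ⟨b, hb⟩
      have := hZe.1.is_comm.comm ⟨(a : H), ha⟩ ⟨(b : H), hb⟩
      apply Subtype.ext
      apply Subtype.ext
      have h3 : (a : H) * b = b * a := congrArg Subtype.val this
      exact h3
    · intro a ha
      apply Subtype.ext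
      exact hZe.2 a ha
  · rwa [Nat.card_congr (subgroupOfEquivOfLe hle).toEquiv]

/-- lower bound for wreath products -/
theorem LB.wreath {ι S : Type*} [Finite ι] [Group S] [Finite S] (R : Sylow 2 (W ι S)) (z : S) (hz : z ∈ center S) (hz2 : z ^ 2 = 1)
    (hz1 : z ≠ 1) : LB (R : Subgroup (W ι S)) (Nat.card ι) := by
  classical
  have := Fintype.ofFinite ι
  let C : Subgroup S := zpowers z
  have hCz : C ≤ center S := by rw [zpowers_le]; exact hz
  have hC2 : ∀ c ∈ C, c ^ 2 = 1 := by
    rintro _ ⟨k, rfl⟩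
    change (z ^ k) ^ 2 = 1
    rw [← zpow_natCast, ← zpow_mul, mul_comm, zpow_mul, zpow_natCast, hz2, one_zpow]
  have hcC : Nat.card C = 2 := by
    rw [Nat.card_zpowers]
    exact orderOf_eq_prime hz2 hz1
  let Z : Subgroup (W ι S) := (Subgroup.pi Set.univ (fun _ : ι => C)).map SemidirectProduct.inl
  have hZn : Z.Normal := by
    constructor
    rintro _ ⟨v, hv, rfl⟩ g
    refine ⟨fun i => v (g.right⁻¹ i), fun i _ => hv _ trivial, ?_⟩
    refine SemidirectProduct.ext ?_ ?_
    · funext i
      have hcomm : ∀ j s, s * v j = v j * s := fun j s => (mem_center_iff.mp (hCz (hv j trivial)) s)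
      change v (g.right⁻¹ i) = _
      have h1 : (g * SemidirectProduct.inl v * g⁻¹).left i = g.left i * v (g.right⁻¹ i) * (g.left i)⁻¹ := by
        rw [W_mul_left, W_mul_left, W_inv_left, SemidirectProduct.left_inl]
        congr 2
        simp
      rw [h1, hcomm, mul_inv_cancel_right]
    · simp
  refine LB.of_normal R Z hZn ⟨⟨⟨?_⟩⟩, ?_⟩ ?_
  · rintro ⟨_, a, ha, rfl⟩ ⟨_, b, hb, rfl⟩
    apply Subtype.ext
    change SemidirectProduct.inl a * SemidirectProduct.inl b = SemidirectProduct.inl b * SemidirectProduct.inl a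
    rw [← map_mul, ← map_mul]
    congr 1
    funext i
    exact (mem_center_iff.mp (hCz (hb i trivial)) (a i))
  · rintro _ ⟨a, ha, rfl⟩
    rw [← map_pow]
    have : a ^ 2 = 1 := funext fun i => hC2 _ (ha i trivial)
    rw [this, map_one]
  · rw [card_piMap _ SemidirectProduct.inl_injective, hcC]

end Cfsg.Agent.H94.Wr
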