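import Cfsg.Agent.H94.WrGL
import Cfsg.Agent.H94.ElAb2

/-!
# Normal 2-rank of wreath products (upper bound) and GL₂(q), q ≡ 3 mod 4
-/
set_option autoImplicit false

namespace Cfsg.Agent.H94.Wr

open Matrix Subgroup
open scoped commutatorElement

/-! ## products -/
section prod
variable {p : ℕ}

theorem sylow_prod_equiv {H K : Type*} [Group H] [Group K] [Finite H] [Finite K] [Fact p.Prime]
    (R1 : Sylow p H) (R2 : Sylow p K) (R : Sylow p (H × K)) :
    Nonempty ((↥(R1 : Subgroup H) × ↥(R2 : Subgroup K)) ≃* (R : Subgroup (H × K))) := by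
  have e := Subgroup.prodEquiv (R1 : Subgroup H) (R2 : Subgroup K)
  have hc : Nat.card ((R1 : Subgroup H).prod (R2 : Subgroup K)) = p ^ (Nat.card (H × K)).factorization p := by
    rw [Nat.card_congr e.toEquiv, Nat.card_prod, Nat.card_prod, card_sylow R1, card_sylow R2,
      Nat.factorization_mul Nat.card_pos.ne' Nat.card_pos.ne', ← pow_add]
    rfl
  let Q : Sylow p (H × K) := Sylow.ofCard _ hc
  exact ⟨e.symm.trans (Sylow.equiv Q R)⟩

theorem DLe.prod {H K : Type*} [Group H] [Group K] {a : ℕ} (h1 : DLe p H a) (h2 : DLe p K a) : DLe p (H × K) a := by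
  intro P hP
  rw [eq_bot_iff]
  intro x hx
  rw [mem_bot]
  have key : ∀ {L : Type _} [Group L] (f : P →* L), derivedSeries f.range a = ⊥ → f x = 1 := by
    intro L _ f hf
    have h3 := map_derivedSeries_le_derivedSeries f.rangeRestrict a (mem_map_of_mem _ hx)
    rw [hf, mem_bot] at h3
    exact congrArg Subtype.val h3
  have e1 := key ((MonoidHom.fst H K).comp P.subtype) (h1 _ (hP.of_surjective _ (MonoidHom.rangeRestrict_surjective _)))
  have hx2 : ((MonoidHom.snd H K).comp P.subtype) x = 1 := by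
    have h3 := map_derivedSeries_le_derivedSeries ((MonoidHom.snd H K).comp P.subtype).rangeRestrict a (mem_map_of_mem _ hx)
    rw [h2 _ (hP.of_surjective _ (MonoidHom.rangeRestrict_surjective _)), mem_bot] at h3
    exact congrArg Subtype.val h3
  exact Subtype.ext (Prod.ext e1 hx2)

theorem UB.prod {P Q : Type*} [Group P] [Group Q] [Finite P] [Finite Q] {a b : ℕ} (h1 : UB P a) (h2 : UB Q b) : UB (P × Q) (a + b) := by
  intro E hE hel
  have h3 := h1 (E.map (MonoidHom.fst P Q)) (hE.map _ Prod.fst_surjective) (elab_map _ hel)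
  have h4 := h2 (E.map (MonoidHom.snd P Q)) (hE.map _ Prod.snd_surjective) (elab_map _ hel)
  have h5 : Nat.card E ≤ Nat.card (E.map (MonoidHom.fst P Q)) * Nat.card (E.map (MonoidHom.snd P Q)) := by
    rw [← Nat.card_prod]
    refine Nat.card_le_card_of_injective (fun x : E => ((⟨x.1.1, ⟨x.1, x.2, rfl⟩⟩, ⟨x.1.2, ⟨x.1, x.2, rfl⟩⟩) :
      E.map (MonoidHom.fst P Q) × E.map (MonoidHom.snd P Q))) ?_
    intro x y h
    have h6 := congrArg (fun z => (z.1 : P)) h
    have h7 := congrArg (fun z => (z.2 : Q)) h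
    exact Subtype.ext (Prod.ext h6 h7)
  rw [pow_add]
  exact h5.trans (Nat.mul_le_mul h3 h4)

theorem LB.prod {P Q : Type*} [Group P] [Group Q] {a b : ℕ} (h1 : LB P a) (h2 : LB Q b) : LB (P × Q) (a + b) := by
  obtain ⟨E1, n1, e1, c1⟩ := h1
  obtain ⟨E2, n2, e2, c2⟩ := h2
  refine ⟨E1.prod E2, inferInstance, ⟨⟨⟨?_⟩⟩, ?_⟩, ?_⟩
  · rintro ⟨⟨x, y⟩, hx, hy⟩ ⟨⟨x', y'⟩, hx', hy'⟩
    apply Subtype.ext
    have h3 := congrArg Subtype.val (e1.1.is_comm.comm ⟨x, hx⟩ ⟨x', hx'⟩)
    have h4 := congrArg Subtype.val (e2.1.is_comm.comm ⟨y, hy⟩ ⟨y', hy'⟩)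
    exact Prod.ext h3 h4
  · rintro ⟨x, y⟩ ⟨hx, hy⟩
    exact Prod.ext (e1.2 x hx) (e2.2 y hy)
  · rw [Nat.card_congr (Subgroup.prodEquiv E1 E2).toEquiv, Nat.card_prod, pow_add]
    exact Nat.mul_le_mul c1 c2

end prod

/-! ## the upper bound for wreath products -/

theorem UB.wreath {ι S : Type*} [Finite ι] [Group S] [Finite S] (P : Sylow 2 S) (hP : UB (P : Subgroup S) 1)
    (hx : ∃ x ∈ (P : Subgroup S), x ^ 2 ≠ 1) (R : Sylow 2 (W ι S)) : UB (R : Subgroup (W ι S)) (Nat.card ι) := by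
  classical
  have := Fintype.ofFinite ι
  -- the base group
  let B : Subgroup (W ι S) := (Subgroup.pi Set.univ (fun _ : ι => (P : Subgroup S))).map SemidirectProduct.inl
  have hB : IsPGroup 2 B := by
    apply IsPGroup.of_card (n := (Nat.card S).factorization 2 * Nat.card ι)
    rw [card_piMap _ SemidirectProduct.inl_injective, card_sylow P, ← pow_mul]
  obtain ⟨R', hR'⟩ := hB.exists_le_sylow
  refine UB.congr ?_ (Sylow.equiv R' R)
  intro E hE hel
  let E1 : Subgroup (W ι S) := E.map (R' : Subgroup (W ι S)).subtype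
  have hE1 : ∀ e ∈ E1, ∀ b ∈ (R' : Subgroup (W ι S)), b * e * b⁻¹ ∈ E1 := by
    rintro _ ⟨e, he, rfl⟩ b hb
    exact ⟨⟨b, hb⟩ * e * ⟨b, hb⟩⁻¹, hE.conj_mem e he ⟨b, hb⟩, rfl⟩
  have hsq : ∀ e ∈ E1, e ^ 2 = 1 := by
    rintro _ ⟨e, he, rfl⟩
    rw [← map_pow, hel.2 e he, map_one]
  have hsingle : ∀ i, ∀ x ∈ (P : Subgroup S), (SemidirectProduct.inl (Pi.mulSingle i x) : W ι S) ∈ (R' : Subgroup (W ι S)) := by
    intro i x hx
    apply hR'
    refine ⟨Pi.mulSingle i x, fun j _ => ?_, rfl⟩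
    by_cases h : j = i
    · subst h; rw [Pi.mulSingle_eq_same]; exact hx
    · rw [Pi.mulSingle_eq_of_ne (M := fun _ => S) h]; exact (P : Subgroup S).one_mem
  -- step 1
  have hright : ∀ e ∈ E1, e.right = 1 := by
    intro e he
    by_contra hne
    obtain ⟨i, hi⟩ : ∃ i, e.right i ≠ i := by
      by_contra hcon
      push Not at hcon
      exact hne (Equiv.ext hcon)
    obtain ⟨x, hxP, hx2⟩ := hx
    have hb := hsingle i x hxP
    set b : W ι S := SemidirectProduct.inl (Pi.mulSingle i x) with hbdef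
    have hc : b * e * b⁻¹ * e⁻¹ ∈ E1 := mul_mem (hE1 e he b hb) (inv_mem he)
    have h2 := hsq _ hc
    have hi' : e.right⁻¹ i ≠ i := by
      intro h
      apply hi
      rw [Equiv.Perm.inv_eq_iff_eq] at h
      exact h.symm
    have hr : (b * e * b⁻¹ * e⁻¹).right = 1 := by
      simp [hbdef]
    have hl : (b * e * b⁻¹ * e⁻¹).left i = x := by
      rw [W_mul_left, W_mul_left, W_mul_left, W_inv_left, W_inv_left]
      simp only [hbdef, SemidirectProduct.left_inl, SemidirectProduct.right_inl, SemidirectProduct.mul_right, SemidirectProduct.inv_right,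
        inv_one, mul_one, one_mul, Equiv.Perm.coe_one, id_eq, Pi.mulSingle_eq_same]
      rw [Pi.mulSingle_eq_of_ne hi']
      simp
    have h3 : ((b * e * b⁻¹ * e⁻¹) ^ 2).left i = x ^ 2 := by
      rw [sq, W_mul_left, hr, hl, inv_one, Equiv.Perm.coe_one, id_eq, hl, sq]
    rw [h2] at h3
    exact hx2 h3.symm
  -- step 2
  have hbase : ∀ g ∈ (R' : Subgroup (W ι S)), g.right = 1 → ∀ i, g.left i ∈ (P : Subgroup S) := by
    intro g hg hgr i
    -- the projection of R' ∩ base
    let Q : Subgroup S :=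
      { carrier := {x | ∃ g ∈ (R' : Subgroup (W ι S)), g.right = 1 ∧ g.left i = x}
        one_mem' := ⟨1, one_mem _, rfl, rfl⟩
        mul_mem' := by
          rintro _ _ ⟨g, hg, hgr, rfl⟩ ⟨h, hh, hhr, rfl⟩
          refine ⟨g * h, mul_mem hg hh, by rw [SemidirectProduct.mul_right, hgr, hhr, mul_one], ?_⟩
          rw [W_mul_left, hgr]; rfl
        inv_mem' := by
          rintro _ ⟨g, hg, hgr, rfl⟩
          refine ⟨g⁻¹, inv_mem hg, by rw [SemidirectProduct.inv_right, hgr, inv_one], ?_⟩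
          rw [W_inv_left, hgr]; rfl }
    have hQp : IsPGroup 2 Q := by
      rintro ⟨_, g, hg, hgr, rfl⟩
      obtain ⟨k, hk⟩ := R'.isPGroup' ⟨g, hg⟩
      refine ⟨k, ?_⟩
      have hk' : g ^ 2 ^ k = 1 := congrArg Subtype.val hk
      have h3 : ∀ m : ℕ, (g ^ m).right = 1 ∧ (g ^ m).left i = (g.left i) ^ m := by
        intro m
        induction m with
        | zero => rw [pow_zero, pow_zero]; exact ⟨rfl, rfl⟩
        | succ m ih =>
          rw [pow_succ, pow_succ]
          refine ⟨by rw [SemidirectProduct.mul_right, ih.1, hgr, mul_one], ?_⟩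
          rw [W_mul_left, ih.1, ih.2]; rfl
      apply Subtype.ext
      change (g.left i) ^ 2 ^ k = 1
      rw [← (h3 _).2, hk']; rfl
    have hPQ : (P : Subgroup S) ≤ Q := by
      intro x hx
      refine ⟨SemidirectProduct.inl (Pi.mulSingle i x), hsingle i x hx, SemidirectProduct.right_inl _, ?_⟩
      rw [SemidirectProduct.left_inl, Pi.mulSingle_eq_same]
    have hQP : Q = P := P.is_maximal' hQp hPQ
    rw [← hQP]
    exact ⟨g, hg, hgr, rfl⟩
  let pr : ∀ i : ι, E →* (P : Subgroup S) := fun i =>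
    { toFun := fun e => ⟨(e : W ι S).left i, hbase _ e.1.2 (hright _ ⟨e, e.2, rfl⟩) i⟩
      map_one' := rfl
      map_mul' := by
        intro a c
        apply Subtype.ext
        have he : ((a : (R' : Subgroup (W ι S))) : W ι S).right = 1 := hright _ ⟨a, a.2, rfl⟩
        change (((a : (R' : Subgroup (W ι S))) : W ι S) * ((c : (R' : Subgroup (W ι S))) : W ι S)).left i = _
        rw [W_mul_left, he]; rfl }
  have hn : ∀ i, (pr i).range.Normal := by
    intro i
    constructor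
    rintro _ ⟨e, rfl⟩ x
    have hb := hsingle i x x.2
    have h1 : (⟨_, hb⟩ : (R' : Subgroup (W ι S))) * (e : (R' : Subgroup (W ι S))) * (⟨_, hb⟩)⁻¹ ∈ E := hE.conj_mem e e.2 ⟨_, hb⟩
    refine ⟨⟨_, h1⟩, ?_⟩
    apply Subtype.ext
    change ((SemidirectProduct.inl (Pi.mulSingle i (x : S)) : W ι S) * (e : W ι S) * (SemidirectProduct.inl (Pi.mulSingle i (x : S)))⁻¹).left i = (x : S) * (e : W ι S).left i * (x : S)⁻¹
    have he := hright _ ⟨e, e.2, rfl⟩
    change (e : W ι S).right = 1 at he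
    rw [W_mul_left, W_mul_left, W_inv_left]
    simp [he]
  have hel' : ∀ i, Cfsg.IsElementaryAbelian 2 (pr i).range := by
    intro i
    rw [MonoidHom.range_eq_map]
    apply elab_map
    refine ⟨⟨⟨?_⟩⟩, ?_⟩
    · rintro ⟨a, ha⟩ ⟨c, hc⟩
      exact Subtype.ext (hel.1.is_comm.comm a c)
    · intro a _
      exact Subtype.ext (hel.2 a a.2)
  have hc : ∀ i, Nat.card (pr i).range ≤ 2 := fun i => by
    have := hP _ (hn i) (hel' i)
    simpa using this
  have h1 : Nat.card E ≤ Nat.card (∀ i, (pr i).range) := by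
    refine Nat.card_le_card_of_injective (fun e i => ⟨pr i e, ⟨e, rfl⟩⟩) ?_
    intro a c h
    have h4 : (a : W ι S) = (c : W ι S) := by
      refine SemidirectProduct.ext ?_ ?_
      · funext i
        have := congrArg (fun z => ((z i : (P : Subgroup S)) : S)) h
        exact this
      · have he : ((a : (R' : Subgroup (W ι S))) : W ι S).right = 1 := hright _ ⟨a, a.2, rfl⟩
        have he' : ((c : (R' : Subgroup (W ι S))) : W ι S).right = 1 := hright _ ⟨c, c.2, rfl⟩
        rw [he, he']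
    exact Subtype.ext (Subtype.ext h4)
  refine h1.trans ?_
  rw [Nat.card_pi, Nat.card_eq_fintype_card (α := ι)]
  calc ∏ i, Nat.card (pr i).range ≤ ∏ _i : ι, 2 := Finset.prod_le_prod' (fun i _ => hc i)
    _ = 2 ^ Fintype.card ι := by rw [Finset.prod_const, Finset.card_univ]

end Cfsg.Agent.H94.Wr
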